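import Cfsg.Agent.Lib.Quadratic.Pair
import Cfsg.Agent.Lib.SL2.Dickson

/-!
An irreducible module of `SL₂(F)` in characteristic `p` on which a Sylow `p`-subgroup acts
quadratically, or whose order is at most the square of the order of the fixed points of that
subgroup, is the natural module.
-/

set_option autoImplicit false
set_option linter.unusedSectionVars false

namespace CfsgLib.SL2Module

open CfsgLib.SL2
open scoped MatrixGroups

universe u v

variable {F : Type u} [Field F] [Finite F]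

theorem exists_fixed_ne {p : ℕ} [hp : Fact p.Prime] {P : Type*} [Group P] (hP : IsPGroup p P)
    {A : Type*} [AddCommGroup A] [Finite A] [Nontrivial A] (hA : ∀ a : A, p • a = 0)
    (ψ : P →* AddMonoid.End A) : ∃ a : A, a ≠ 0 ∧ ∀ x, ψ x a = a := by
  letI : MulAction P A :=
    { smul := fun x a => ψ x a
      one_smul := fun a => by show ψ 1 a = a; rw [map_one]; rfl
      mul_smul := fun x y a => by show ψ (x * y) a = ψ x (ψ y a); rw [map_mul]; rfl }
  have hd : p ∣ Nat.card A := by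
    obtain ⟨a, ha⟩ := exists_ne (0 : A)
    rw [← addOrderOf_eq_prime (hA a) ha]
    exact addOrderOf_dvd_natCard a
  obtain ⟨b, hb, hne⟩ := hP.exists_fixed_point_of_prime_dvd_card_of_fixed_point A hd (a := 0)
    (fun x => show ψ x 0 = 0 from map_zero _)
  exact ⟨b, hne.symm, hb⟩

/-- The element exchanging the two points. -/
def wm : SL(2, F) := ⟨!![0, 1; -1, 0], by simp [Matrix.det_fin_two_of]⟩

/-- A diagonal element. -/
def dm (c : F) (hc : c ≠ 0) : SL(2, F) := ⟨!![c, 0; 0, c⁻¹], by simp [Matrix.det_fin_two_of, hc]⟩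

theorem wm_coe : ((wm : SL(2, F)) : Matrix (Fin 2) (Fin 2) F) = !![0, 1; -1, 0] := rfl

theorem dm_coe (c : F) (hc : c ≠ 0) :
    ((dm c hc : SL(2, F)) : Matrix (Fin 2) (Fin 2) F) = !![c, 0; 0, c⁻¹] := rfl

theorem lo_eq (s : F) : lo s = (wm : SL(2, F))⁻¹ * up (-s) * wm := by
  rw [mul_assoc, eq_inv_mul_iff_mul_eq]
  apply Subtype.ext
  simp only [Matrix.SpecialLinearGroup.coe_mul, wm_coe, lo_coe, up_coe]
  ext i j
  fin_cases i <;> fin_cases j <;> simp [Matrix.mul_apply, Fin.sum_univ_two]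

theorem forall_of_gen (P : SL(2, F) → Prop) (h1 : P 1) (hmul : ∀ a b, P a → P b → P (a * b))
    (hu : ∀ t, P (up t)) (hw : P wm) : ∀ g, P g := by
  let H : Subgroup SL(2, F) :=
    { carrier := {g | P g}
      one_mem' := h1
      mul_mem' := fun {a b} ha hb => hmul a b ha hb
      inv_mem' := fun {a} ha => by
        show P a⁻¹
        rw [inv_eq_of_mul_eq_one_right (show a * a ^ (orderOf a - 1) = 1 by
          rw [← pow_succ', Nat.sub_add_cancel (orderOf_pos a), pow_orderOf_eq_one])]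
        generalize orderOf a - 1 = n
        induction n with
        | zero => rwa [pow_zero]
        | succ n ih => rw [pow_succ]; exact hmul _ _ ih ha }
  have hup : ∀ b, upperHom (F := F) b ∈ H := fun b => hu b.toAdd
  have hwH : (wm : SL(2, F)) ∈ H := hw
  have htop : H = ⊤ := eq_top_of_upper_and_conj H wm (by simp [wm_coe]) hup
    fun b => mul_mem (mul_mem hwH (hup b)) (inv_mem hwH)
  intro g
  have : g ∈ H := htop ▸ Subgroup.mem_top g
  exact this

theorem wm_mul_self : (wm : SL(2, F)) * wm = -1 := by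
  apply Subtype.ext
  simp only [Matrix.SpecialLinearGroup.coe_mul, wm_coe, Matrix.SpecialLinearGroup.coe_neg,
    Matrix.SpecialLinearGroup.coe_one]
  ext i j
  fin_cases i <;> fin_cases j <;> simp [Matrix.mul_apply, Fin.sum_univ_two]

theorem wm_mul_up (t : F) (ht : t ≠ 0) :
    (wm : SL(2, F)) * up t =
      up (-t⁻¹) * dm (-t⁻¹) (neg_ne_zero.2 (inv_ne_zero ht)) * lo t⁻¹ := by
  apply Subtype.ext
  simp only [Matrix.SpecialLinearGroup.coe_mul, wm_coe, dm_coe, lo_coe, up_coe]
  ext i j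
  fin_cases i <;> fin_cases j <;>
    simp [Matrix.mul_apply, Fin.sum_univ_two] <;> field_simp <;> ring

theorem dm_wm_inv (c : F) (hc : c ≠ 0) :
    dm c hc * (wm : SL(2, F))⁻¹ = wm⁻¹ * dm c⁻¹ (inv_ne_zero hc) := by
  rw [eq_inv_mul_iff_mul_eq, ← mul_assoc, mul_inv_eq_iff_eq_mul]
  apply Subtype.ext
  simp only [Matrix.SpecialLinearGroup.coe_mul, wm_coe, dm_coe]
  ext i j
  fin_cases i <;> fin_cases j <;> simp [Matrix.mul_apply, Fin.sum_univ_two]

theorem up_dm (t c : F) (hc : c ≠ 0) : up t * dm c hc = dm c hc * up (t / c ^ 2) := by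
  apply Subtype.ext
  simp only [Matrix.SpecialLinearGroup.coe_mul, dm_coe, up_coe]
  ext i j
  fin_cases i <;> fin_cases j <;>
    simp [Matrix.mul_apply, Fin.sum_univ_two] <;> field_simp <;> ring

theorem wm_eq : (wm : SL(2, F)) = up 1 * lo (-1) * up 1 := by
  apply Subtype.ext
  simp only [Matrix.SpecialLinearGroup.coe_mul, wm_coe, lo_coe, up_coe]
  ext i j
  fin_cases i <;> fin_cases j <;> simp [Matrix.mul_apply, Fin.sum_univ_two]

theorem weyl_eq (t : F) (ht : t ≠ 0) : up t * lo (-t⁻¹) * up t = dm t ht * wm := by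
  apply Subtype.ext
  simp only [Matrix.SpecialLinearGroup.coe_mul, wm_coe, dm_coe, lo_coe, up_coe]
  ext i j
  fin_cases i <;> fin_cases j <;> simp [Matrix.mul_apply, Fin.sum_univ_two, ht]

theorem weyl_lo (t s : F) (ht : t ≠ 0) :
    up t * lo (-t⁻¹) * up t * lo s = up (-(t ^ 2 * s)) * (up t * lo (-t⁻¹) * up t) := by
  rw [weyl_eq t ht]
  apply Subtype.ext
  simp only [Matrix.SpecialLinearGroup.coe_mul, wm_coe, dm_coe, lo_coe, up_coe]
  ext i j
  fin_cases i <;> fin_cases j <;>
    simp [Matrix.mul_apply, Fin.sum_univ_two] <;> field_simp <;> ring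

/-- The theorem. -/
theorem exists_natural {p : ℕ} [hp : Fact p.Prime] [CharP F p] {V : Type v} [AddCommGroup V]
    [Finite V] (hV : ∀ v : V, p • v = 0) (φ : SL(2, F) →* AddMonoid.End V)
    (hirr : ∀ R : AddSubgroup V, (∀ g, ∀ r ∈ R, φ g r ∈ R) → R = ⊥ ∨ R = ⊤)
    (hnt : ∃ g, φ g ≠ 1)
    (hyp : (∀ s t, (φ (up s) - 1) * (φ (up t) - 1) = 0) ∨
      Nat.card V ≤ Nat.card {v : V // ∀ t, φ (up t) v = v} ^ 2) :
    ∃ e : (Fin 2 → F) ≃+ V, ∀ (g : SL(2, F)) (x : Fin 2 → F),
      φ g (e x) = e ((g : Matrix (Fin 2) (Fin 2) F).mulVec x) := by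
  classical
  haveI : Nontrivial V := by
    rw [← not_subsingleton_iff_nontrivial]
    intro h
    obtain ⟨g, hg⟩ := hnt
    exact hg (AddMonoidHom.ext fun v => Subsingleton.elim _ _)
  have comp : ∀ (g h : SL(2, F)) (v : V), φ (g * h) v = φ g (φ h v) := fun g h v => by
    rw [map_mul]; rfl
  have one_app : ∀ v : V, φ 1 v = v := fun v => by rw [map_one]; rfl
  have inv_app : ∀ (g : SL(2, F)) (v : V), φ g⁻¹ (φ g v) = v := fun g v => by
    rw [← comp, inv_mul_cancel, one_app]
  have app_inv : ∀ (g : SL(2, F)) (v : V), φ g (φ g⁻¹ v) = v := fun g v => by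
    rw [← comp, mul_inv_cancel, one_app]
  have inj : ∀ (g : SL(2, F)) {v v' : V}, φ g v = φ g v' → v = v' := fun g v v' h => by
    rw [← inv_app g v, h, inv_app]
  -- generated invariance
  have invariant : ∀ R : AddSubgroup V, (∀ t, ∀ r ∈ R, φ (up t) r ∈ R) → (∀ r ∈ R, φ wm r ∈ R) →
      R = ⊥ ∨ R = ⊤ := fun R h1 h2 => hirr R (forall_of_gen (fun g => ∀ r ∈ R, φ g r ∈ R)
    (fun r hr => by rwa [one_app]) (fun a b ha hb r hr => by rw [comp]; exact ha _ (hb r hr)) h1 h2)
  let W : AddSubgroup V :=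
    { carrier := {v | ∀ t, φ (up t) v = v}
      zero_mem' := fun t => map_zero _
      add_mem' := fun {a b} ha hb t => by rw [map_add, ha t, hb t]
      neg_mem' := fun {a} ha t => by rw [map_neg, ha t] }
  have hUP : IsPGroup p (Multiplicative F) := fun x =>
    ⟨1, Multiplicative.toAdd.injective (by rw [pow_one, toAdd_pow, toAdd_one, nsmul_eq_mul,
      CharP.cast_eq_zero, zero_mul])⟩
  obtain ⟨w₀, hw₀, hw₀f⟩ := exists_fixed_ne hUP hV (φ.comp upperHom)
  have hw₀W : w₀ ∈ W := fun t => hw₀f (Multiplicative.ofAdd t)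
  set ι : AddMonoid.End V := φ (wm : SL(2, F))⁻¹ with hι
  have hwι : ∀ v, φ wm (ι v) = v := fun v => app_inv wm v
  have hneg : ∀ g : SL(2, F), g * -1 = -1 * g := fun g => by rw [mul_neg_one, neg_one_mul]
  have hWneg : ∀ a ∈ W, φ (-1 : SL(2, F)) a ∈ W := fun a ha t => by
    rw [← comp, hneg, comp, ha t]
  have hwW : ∀ a, φ wm a = ι (φ (-1 : SL(2, F)) a) := fun a => by
    rw [hι, ← comp, ← wm_mul_self, inv_mul_cancel_left]
  -- the two fixed spaces meet trivially
  have hmeet : ∀ a ∈ W, ι a ∈ W → a = 0 := by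
    intro a ha hia
    by_contra h0
    let R : AddSubgroup V :=
      { carrier := {v | ∀ g, φ g v = v}
        zero_mem' := fun g => map_zero _
        add_mem' := fun {a b} ha hb g => by rw [map_add, ha g, hb g]
        neg_mem' := fun {a} ha g => by rw [map_neg, ha g] }
    have hlo : ∀ s, φ (lo s) (ι a) = ι a := fun s => by
      rw [lo_eq, comp, comp, hwι, ha]
    have hwfix : φ wm (ι a) = ι a := by
      rw [wm_eq, comp, comp, hia 1, hlo, hia 1]
    have hR : ι a ∈ R := forall_of_gen (fun g => φ g (ι a) = ι a) (one_app _)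
      (fun x y hx hy => by rw [comp, hy, hx]) hia hwfix
    rcases hirr R (fun g r hr => by rw [hr g]; exact hr) with h | h
    · exact h0 (inj _ (show ι a = ι 0 by rw [(R.eq_bot_iff_forall).1 h _ hR, map_zero]))
    · obtain ⟨g, hg⟩ := hnt
      exact hg (AddMonoidHom.ext fun v => (h ▸ AddSubgroup.mem_top v : v ∈ R) g)
  let f : W × W →+ V :=
    { toFun := fun x => (x.1 : V) + ι x.2
      map_zero' := by simp
      map_add' := fun x y => by
        simp only [Prod.fst_add, Prod.snd_add, AddSubgroup.coe_add, map_add]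
        abel }
  have hfinj : Function.Injective f := (injective_iff_map_eq_zero f).2 fun x hx => by
    have h1 : ι (x.2 : V) ∈ W := by
      rw [show ι (x.2 : V) = -(x.1 : V) from eq_neg_of_add_eq_zero_right hx]
      exact neg_mem x.1.2
    have h2 : (x.2 : V) = 0 := hmeet _ x.2.2 h1
    have h3 : (x.1 : V) = 0 := by
      have hx' : (x.1 : V) + ι x.2 = 0 := hx
      rwa [h2, map_zero, add_zero] at hx'
    exact Prod.ext (Subtype.ext h3) (Subtype.ext h2)
  -- both hypotheses give quadratic action and a decomposition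
  obtain ⟨hquad, hfsurj⟩ : (∀ t v, φ (up t) v - v ∈ W) ∧ Function.Surjective f := by
    have key : (∀ t v, φ (up t) v - v ∈ W) → Function.Surjective f := fun hq => by
      have hu' : ∀ t, ∀ r ∈ f.range, φ (up t) r ∈ f.range := by
        rintro t _ ⟨x, rfl⟩
        exact ⟨x + (⟨_, hq t (f x)⟩, 0), by rw [map_add]; simp [f]⟩
      have hw' : ∀ r ∈ f.range, φ wm r ∈ f.range := by
        rintro _ ⟨⟨a, b⟩, rfl⟩
        refine ⟨(b, ⟨_, hWneg a a.2⟩), ?_⟩
        show (b : V) + ι (φ (-1 : SL(2, F)) a) = φ wm ((a : V) + ι b)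
        rw [map_add, hwι, hwW, add_comm]
      rcases invariant f.range hu' hw' with h | h
      · exfalso
        exact hw₀ ((f.range.eq_bot_iff_forall).1 h w₀ ⟨(⟨w₀, hw₀W⟩, 0), by simp [f]⟩)
      · exact AddMonoidHom.range_eq_top.1 h
    rcases hyp with h | h
    · have hq : ∀ t v, φ (up t) v - v ∈ W := fun t v s => by
        have h' := DFunLike.congr_fun (h s t) v
        exact sub_eq_zero.1 h'
      exact ⟨hq, key hq⟩
    have hsurj : Function.Surjective f := by
      have hc : Nat.card V ≤ Nat.card (W × W) := by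
        rw [Nat.card_prod]; exact h.trans (le_of_eq (pow_two _))
      exact ((Nat.bijective_iff_injective_and_card f).2
        ⟨hfinj, le_antisymm (Nat.card_le_card_of_injective f hfinj) hc⟩).surjective
    refine ⟨?_, hsurj⟩
    let X : AddSubgroup V :=
      { carrier := {b | b ∈ W ∧ ∀ t, φ (up t) (ι b) - ι b ∈ W}
        zero_mem' := ⟨zero_mem _, fun t => by simp⟩
        add_mem' := fun {a b} ha hb => ⟨add_mem ha.1 hb.1, fun t => by
          rw [map_add, map_add, add_sub_add_comm]; exact add_mem (ha.2 t) (hb.2 t)⟩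
        neg_mem' := fun {a} ha => ⟨neg_mem ha.1, fun t => by
          rw [map_neg, map_neg, ← neg_sub']; exact neg_mem (ha.2 t)⟩ }
    -- a fixed point on the quotient
    have hWinv : ∀ x : Multiplicative F, ∀ u ∈ W, (φ.comp upperHom) x u ∈ W := fun x u hu => by
      rw [show (φ.comp upperHom) x u = u from hu x.toAdd]; exact hu
    haveI : Nontrivial (V ⧸ W) := by
      rw [← not_subsingleton_iff_nontrivial]
      intro hs
      refine hw₀ (hmeet w₀ hw₀W ?_)
      exact (QuotientAddGroup.eq_zero_iff _).1 (Subsingleton.elim _ _)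
    obtain ⟨y, hy0, hyf⟩ := exists_fixed_ne hUP (A := V ⧸ W) (fun a => by
      induction a using QuotientAddGroup.induction_on with
      | H u => show ((p • u : V) : V ⧸ W) = 0; rw [hV]; rfl)
      (CfsgLib.Quadratic.onQuotient (φ.comp upperHom) W hWinv)
    obtain ⟨v, rfl⟩ := QuotientAddGroup.mk_surjective y
    obtain ⟨⟨a, b⟩, hab⟩ := hsurj v
    have hbX : (b : V) ∈ X := by
      refine ⟨b.2, fun t => ?_⟩
      have h1 : φ (up t) v - v ∈ W := by
        have := hyf (Multiplicative.ofAdd t)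
        exact (QuotientAddGroup.eq_zero_iff _).1 (by
          rw [QuotientAddGroup.mk_sub, sub_eq_zero]; exact this)
      rw [← hab] at h1
      show φ (up t) (ι b) - ι b ∈ W
      have h2 : φ (up t) ((a : V) + ι b) - ((a : V) + ι b) = φ (up t) (ι b) - ι b := by
        rw [map_add, a.2 t]; abel
      rwa [← h2]
    have hb0 : (b : V) ≠ 0 := fun h0 => by
      refine hy0 ((QuotientAddGroup.eq_zero_iff _).2 ?_)
      rw [← hab]
      show (a : V) + ι b ∈ W
      rw [h0, map_zero, add_zero]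
      exact a.2
    have hdm : ∀ c hc, ∀ x ∈ W, φ (dm c hc) x ∈ W := fun c hc x hx t => by
      rw [← comp, up_dm, comp, hx]
    have hXdm : ∀ c hc, ∀ x ∈ X, φ (dm c hc) x ∈ X := by
      intro c hc x hx
      refine ⟨hdm c hc x hx.1, fun t => ?_⟩
      have e : ι (φ (dm c hc) x) = φ (dm c⁻¹ (inv_ne_zero hc)) (ι x) := by
        rw [hι, ← comp, ← comp, dm_wm_inv]
        congr 3
        apply Subtype.ext
        simp [dm_coe]
      rw [e, ← comp, up_dm, comp, ← map_sub]
      exact hdm _ _ _ (hx.2 _)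
    have hXneg : ∀ x ∈ X, φ (-1 : SL(2, F)) x ∈ X := fun x hx => ⟨hWneg x hx.1, fun t => by
      have e : ι (φ (-1 : SL(2, F)) x) = φ (-1 : SL(2, F)) (ι x) := by rw [hι, ← comp, hneg, comp]
      rw [e, ← comp, hneg, comp, ← map_sub]
      exact hWneg _ (hx.2 t)⟩
    let R : AddSubgroup V := AddSubgroup.closure
      ((X : Set V) ∪ {z | ∃ x ∈ X, ∃ t, z = φ (up t) (ι x)})
    have hmap : ∀ g : SL(2, F),
        (∀ z ∈ (X : Set V) ∪ {z | ∃ x ∈ X, ∃ t, z = φ (up t) (ι x)}, φ g z ∈ R) →
        ∀ r ∈ R, φ g r ∈ R := fun g hg r hr => by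
      induction hr using AddSubgroup.closure_induction with
      | mem z hz => exact hg z hz
      | zero => rw [map_zero]; exact zero_mem _
      | add a b _ _ ha hb => rw [map_add]; exact add_mem ha hb
      | neg a _ ha => rw [map_neg]; exact neg_mem ha
    have hsub : ∀ x ∈ X, x ∈ R := fun x hx => AddSubgroup.subset_closure (Or.inl hx)
    have hu' : ∀ t, ∀ z ∈ (X : Set V) ∪ {z | ∃ x ∈ X, ∃ t, z = φ (up t) (ι x)}, φ (up t) z ∈ R := by
      intro t
      rintro z (hz | ⟨x, hx, s, rfl⟩)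
      · rw [hz.1 t]; exact hsub z hz
      · exact AddSubgroup.subset_closure (Or.inr ⟨x, hx, t + s, by rw [up_add, comp]⟩)
    have hw' : ∀ z ∈ (X : Set V) ∪ {z | ∃ x ∈ X, ∃ t, z = φ (up t) (ι x)}, φ wm z ∈ R := by
      rintro z (hz | ⟨x, hx, s, rfl⟩)
      · refine AddSubgroup.subset_closure (Or.inr ⟨_, hXneg z hz, 0, ?_⟩)
        rw [up_zero, one_app]
        exact hwW z
      · rw [← comp]
        by_cases hs : s = 0
        · subst hs
          rw [up_zero, mul_one, hwι]
          exact hsub x hx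
        · have hlo : φ (lo s⁻¹) (ι x) = ι x := by rw [lo_eq, comp, comp, hwι, hx.1]
          rw [wm_mul_up s hs, comp, hlo, comp]
          refine AddSubgroup.subset_closure (Or.inr ⟨_, hXdm (-s⁻¹)⁻¹
            (inv_ne_zero (neg_ne_zero.2 (inv_ne_zero hs))) x hx, -s⁻¹, ?_⟩)
          exact congrArg _ (by rw [hι, ← comp, dm_wm_inv, comp])
    rcases invariant R (fun t => hmap _ (hu' t)) (hmap _ hw') with hR | hR
    · exact absurd ((R.eq_bot_iff_forall).1 hR _ (hsub _ hbX)) hb0
    · intro t v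
      have hv : v ∈ R := hR ▸ AddSubgroup.mem_top v
      induction hv using AddSubgroup.closure_induction with
      | mem z hz =>
        rcases hz with hz | ⟨x, hx, s, rfl⟩
        · rw [hz.1 t, sub_self]; exact zero_mem _
        · have := sub_mem (hx.2 (t + s)) (hx.2 s)
          rwa [sub_sub_sub_cancel_right, up_add, comp] at this
      | zero => simp
      | add a b _ _ ha hb => rw [map_add, add_sub_add_comm]; exact add_mem ha hb
      | neg a _ ha => rw [map_neg, ← neg_sub']; exact neg_mem ha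
  -- coordinates
  let n : F → AddMonoid.End W := fun t =>
    { toFun := fun b => ⟨φ (up t) (ι b) - ι b, hquad t _⟩
      map_zero' := Subtype.ext (by simp)
      map_add' := fun a b => Subtype.ext (by
        simp only [AddSubgroup.coe_add, map_add]; abel) }
  let c : W → W → V := fun a b => f (a, b)
  have hc_inj : ∀ {a b a' b'}, c a b = c a' b' → a = a' ∧ b = b' := fun h =>
    Prod.ext_iff.1 (hfinj h)
  have hUc : ∀ t a b, φ (up t) (c a b) = c (a + n t b) b := fun t a b => by
    show φ (up t) ((a : V) + ι b) = (a : V) + (φ (up t) (ι b) - ι b) + ι b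
    rw [map_add, a.2 t]
    abel
  let ε : W → W := fun a => ⟨φ (-1 : SL(2, F)) a, hWneg a a.2⟩
  have hLc' : ∀ s a b, φ (lo s) (c a b) = c a (b + n (-s) (ε a)) := fun s a b => by
    show φ (lo s) ((a : V) + ι b) =
      (a : V) + ι ((b : V) + (φ (up (-s)) (ι (φ (-1 : SL(2, F)) a)) - ι (φ (-1 : SL(2, F)) a)))
    rw [← hwW, lo_eq, comp, comp, map_add (φ wm), hwι, map_add (φ (up (-s))), b.2, map_add,
      map_add ι, map_sub ι, hι, inv_app]
    abel
  have hw1 : ∀ b : W, n 1 b = b ∧ b + n 1 (ε b) = 0 := by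
    intro b
    have h := hwι (b : V)
    rw [wm_eq, comp, comp] at h
    have e0 : φ (up 1) (ι (b : V)) = c (n 1 b) b := by
      have := hUc 1 0 b
      simpa [c, f] using this
    rw [e0, hLc', neg_neg, hUc] at h
    have h' : c (n 1 b + n 1 (b + n 1 (ε (n 1 b)))) (b + n 1 (ε (n 1 b))) = c b 0 :=
      h.trans (by simp [c, f])
    obtain ⟨h1, h2⟩ := hc_inj h'
    rw [h2, map_zero, add_zero] at h1
    rw [h1] at h2
    exact ⟨h1, h2⟩
  have hn1 : ∀ b : W, n 1 b = b ∧ ε b = -b := fun b => by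
    refine ⟨(hw1 b).1, ?_⟩
    have h := (hw1 b).2
    rw [(hw1 (ε b)).1] at h
    exact eq_neg_of_add_eq_zero_right h
  have hnadd : ∀ s t b, n (s + t) b = n s b + n t b := fun s t b => by
    have h := hUc s (n t b) b
    have e : c (n t b) b = φ (up t) (c 0 b) := by rw [hUc, zero_add]
    rw [e, ← comp, ← up_add, hUc, zero_add] at h
    rw [(hc_inj h).1, add_comm]
  have hn0 : ∀ b, n 0 b = 0 := fun b => by
    have := hnadd 0 0 b
    rw [add_zero] at this
    exact left_eq_add.1 this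
  have hnneg : ∀ s b, n (-s) b = -n s b := fun s b => eq_neg_of_add_eq_zero_left (by
    rw [← hnadd, neg_add_cancel, hn0])
  have hLc : ∀ s a b, φ (lo s) (c a b) = c a (b + n s a) := fun s a b => by
    rw [hLc', (hn1 a).2, map_neg, hnneg, neg_neg]
  have hinv : ∀ t, t ≠ 0 → ∀ a, n t (n t⁻¹ a) = a := by
    intro t ht a
    -- a weyl element sends `W` into its image under `ι`
    have h : φ (up t * lo (-t⁻¹) * up t) (c a 0) =
        c (a + n t (-n t⁻¹ a)) (-n t⁻¹ a) := by
      rw [comp, comp, hUc, map_zero, add_zero, hLc, zero_add, hnneg, hUc]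
    rw [weyl_eq t ht, comp] at h
    have e : φ wm (c a 0) = ι (φ (-1 : SL(2, F)) a) := by
      rw [show c a 0 = (a : V) by simp [c, f], hwW]
    have hdmW : ∀ c hc, ∀ x ∈ W, φ (dm c hc) x ∈ W := fun c hc x hx t => by
      rw [← comp, up_dm, comp, hx]
    rw [e, hι, ← comp, dm_wm_inv, comp, ← hι] at h
    have h' : c 0 ⟨φ (dm t⁻¹ (inv_ne_zero ht)) (φ (-1 : SL(2, F)) a), hdmW _ _ _ (hWneg a a.2)⟩ = c (a + n t (-n t⁻¹ a)) (-n t⁻¹ a) := by
      rw [← h]; simp [c, f]
    have h1 := (hc_inj h').1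
    rw [map_neg, ← sub_eq_add_neg] at h1
    exact (sub_eq_zero.1 h1.symm).symm
  have hjordan : ∀ t s, t ≠ 0 → ∀ a, n t (n s (n t a)) = n (t ^ 2 * s) a := by
    intro t s ht a
    have hw : ∀ a' : W, φ (up t * lo (-t⁻¹) * up t) (c a' 0) = c 0 (-n t⁻¹ a') := fun a' => by
      rw [comp, comp, hUc, map_zero, add_zero, hLc, zero_add, hnneg, hUc, map_neg, hinv t ht,
        add_neg_cancel]
    set a' := n t a
    have h : φ (up t * lo (-t⁻¹) * up t * lo s) (c a' 0) =
        φ (up (-(t ^ 2 * s)) * (up t * lo (-t⁻¹) * up t)) (c a' 0) := by rw [weyl_lo t s ht]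
    rw [comp _ (lo s), hLc, zero_add, comp (up (-(t ^ 2 * s))), hw, hUc, comp, comp, hUc, hLc, hUc,
      zero_add] at h
    obtain ⟨h1, h2⟩ := hc_inj h
    rw [h2, map_neg, hinv t ht, map_neg, hnneg, neg_neg] at h1
    have e : n t⁻¹ a' = a := by
      have := hinv t⁻¹ (inv_ne_zero ht) a
      rwa [inv_inv] at this
    rw [e] at h1
    rw [← h1]
    abel
  -- `n` is multiplicative
  obtain ⟨g, hg⟩ := IsCyclic.exists_monoid_generator (α := Fˣ)
  have hpow : ∀ k : ℕ, ∀ a, n ((g : F) ^ k) a = (n (g : F) ^ k) a := by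
    intro k
    induction k using Nat.twoStepInduction with
    | zero => intro a; rw [pow_zero, pow_zero, (hn1 a).1]; rfl
    | one => intro a; rw [pow_one, pow_one]
    | more k ih _ =>
      intro a
      rw [show (g : F) ^ (k + 2) = (g : F) ^ 2 * (g : F) ^ k by ring, ← hjordan _ _ g.ne_zero, ih,
        show (n (g : F) : AddMonoid.End W) ^ (k + 2) = n (g : F) * n (g : F) ^ k * n (g : F) by
          rw [← pow_succ', ← pow_succ]]
      rfl
  have hnmul : ∀ x y a, n (x * y) a = n x (n y a) := by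
    intro x y a
    by_cases hx : x = 0
    · rw [hx, zero_mul, hn0, hn0]
    by_cases hy : y = 0
    · rw [hy, mul_zero, hn0, map_zero]
    obtain ⟨i, hi⟩ := Submonoid.mem_powers_iff _ _ |>.1 (hg (Units.mk0 x hx))
    obtain ⟨j, hj⟩ := Submonoid.mem_powers_iff _ _ |>.1 (hg (Units.mk0 y hy))
    have hi' : (g : F) ^ i = x := by rw [← Units.val_pow_eq_pow_val, hi]; rfl
    have hj' : (g : F) ^ j = y := by rw [← Units.val_pow_eq_pow_val, hj]; rfl
    rw [← hi', ← hj', ← pow_add, hpow, hpow, hpow, pow_add]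
    rfl
  -- the coordinates on `V`
  set a₀ : W := ⟨w₀, hw₀W⟩ with ha₀
  let e₀ : (Fin 2 → F) →+ V :=
    { toFun := fun x => c (n (x 0) a₀) (n (x 1) a₀)
      map_zero' := by
        show f (n 0 a₀, n 0 a₀) = 0
        rw [hn0]
        exact map_zero f
      map_add' := fun x y => by
        show f _ = f _ + f _
        rw [← map_add]
        congr 1
        simp [hnadd] }
  have hact : ∀ (g : SL(2, F)) x, φ g (e₀ x) = e₀ ((g : Matrix (Fin 2) (Fin 2) F).mulVec x) := by
    have hu : ∀ t x, φ (up t) (e₀ x) = e₀ (((up t : SL(2, F)) : Matrix (Fin 2) (Fin 2) F).mulVec x) := by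
      intro t x
      show φ (up t) (c _ _) = c _ _
      rw [hUc, ← hnmul, ← hnadd]
      simp [up_coe, Matrix.mulVec, dotProduct, Fin.sum_univ_two]
    have hl : ∀ t x, φ (lo t) (e₀ x) = e₀ (((lo t : SL(2, F)) : Matrix (Fin 2) (Fin 2) F).mulVec x) := by
      intro t x
      show φ (lo t) (c _ _) = c _ _
      rw [hLc, ← hnmul, ← hnadd]
      simp [lo_coe, Matrix.mulVec, dotProduct, Fin.sum_univ_two, add_comm]
    have hm : ∀ a b : SL(2, F),
        (∀ x, φ a (e₀ x) = e₀ ((a : Matrix (Fin 2) (Fin 2) F).mulVec x)) →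
        (∀ x, φ b (e₀ x) = e₀ ((b : Matrix (Fin 2) (Fin 2) F).mulVec x)) →
        ∀ x, φ (a * b) (e₀ x) = e₀ (((a * b : SL(2, F)) : Matrix (Fin 2) (Fin 2) F).mulVec x) :=
      fun a b ha hb x => by
        rw [comp, hb, ha, Matrix.mulVec_mulVec, Matrix.SpecialLinearGroup.coe_mul]
    refine forall_of_gen _ (fun x => ?_) hm hu ?_
    · rw [one_app, Matrix.SpecialLinearGroup.coe_one, Matrix.one_mulVec]
    · rw [wm_eq]
      exact hm _ _ (hm _ _ (hu 1) (hl (-1))) (hu 1)
  have hinj0 : ∀ t, n t a₀ = 0 → t = 0 := fun t h => by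
    by_contra ht
    apply hw₀
    have h1 := hinv t⁻¹ (inv_ne_zero ht) a₀
    rw [inv_inv, h, map_zero] at h1
    exact congrArg Subtype.val h1.symm
  have hbij : Function.Bijective e₀ := by
    refine ⟨(injective_iff_map_eq_zero e₀).2 fun x hx => ?_, AddMonoidHom.range_eq_top.1 ?_⟩
    · have := hc_inj (show c (n (x 0) a₀) (n (x 1) a₀) = c 0 0 from hx.trans (by simp [c, f]))
      funext i
      fin_cases i
      · exact hinj0 _ this.1
      · exact hinj0 _ this.2
    · rcases hirr e₀.range (by rintro g _ ⟨x, rfl⟩; exact ⟨_, (hact g x).symm⟩) with h | h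
      · refine absurd ((e₀.range.eq_bot_iff_forall).1 h w₀ ⟨![1, 0], ?_⟩) hw₀
        show c (n 1 a₀) (n 0 a₀) = w₀
        rw [(hn1 a₀).1, hn0]
        simp [c, f, ha₀]
      · exact h
  exact ⟨AddEquiv.ofBijective e₀ hbij, hact⟩

end CfsgLib.SL2Module
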