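import Cfsg.Agent.Lib.SL2Module.Spread
import Cfsg.Agent.Lib.Fitting.Basic
import Cfsg.Agent.Lib.Transfer.Sylow

/-!
A `p`-minimal group generated by a quadratic minimal offender and any conjugate of it outside the
maximal subgroup is `SL₂` on its natural module.
-/

set_option autoImplicit false
set_option linter.unusedSectionVars false

namespace CfsgLib.SL2Module.Offender

open scoped MatrixGroups

universe u v

variable {P : Type u} [Group P] [Finite P] {V : Type v} [AddCommGroup V] [Finite V]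

theorem card_mul_le (C D : AddSubgroup V) :
    Nat.card C * Nat.card D ≤ Nat.card ↥(C ⊔ D) * Nat.card ↥(C ⊓ D) := by
  have h : ∀ v : ↥(C ⊔ D), ∃ c ∈ C, ∃ d ∈ D, c + d = (v : V) := fun v => AddSubgroup.mem_sup.1 v.2
  choose s hs t ht hst using h
  rw [← Nat.card_prod, ← Nat.card_prod]
  let m : C × D → ↥(C ⊔ D) := fun z =>
    ⟨z.1 + z.2, add_mem (AddSubgroup.mem_sup_left z.1.2) (AddSubgroup.mem_sup_right z.2.2)⟩
  refine Nat.card_le_card_of_injective
    (fun z => (m z, (⟨(z.1 : V) - s (m z),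
      AddSubgroup.mem_inf.2 ⟨sub_mem z.1.2 (hs _), ?_⟩⟩ : ↥(C ⊓ D)))) ?_
  · have h : (z.1 : V) - s (m z) = t (m z) - z.2 := by
      rw [sub_eq_sub_iff_add_eq_add, add_comm (t _), hst]
    rw [h]
    exact sub_mem (ht _) z.2.2
  · intro z z' hzz
    obtain ⟨h1, h2⟩ := Prod.ext_iff.1 hzz
    have h2' : (z.1 : V) - s (m z) = (z'.1 : V) - s (m z') := congrArg Subtype.val h2
    rw [show m z = m z' from h1] at h2'
    have h3 : (z.1 : V) = z'.1 := sub_left_injective h2'
    have h4 : (z.1 : V) + z.2 = z'.1 + z'.2 := congrArg Subtype.val h1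
    rw [h3] at h4
    exact Prod.ext (Subtype.ext h3) (Subtype.ext (add_left_cancel h4))

/-- The points fixed by a subgroup. -/
def fixS (φ : P →* AddMonoid.End V) (B : Subgroup P) : AddSubgroup V where
  carrier := {v | ∀ g ∈ B, φ g v = v}
  zero_mem' := fun g _ => map_zero _
  add_mem' := fun {a b} ha hb g hg => by rw [map_add, ha g hg, hb g hg]
  neg_mem' := fun {a} ha g hg => by rw [map_neg, ha g hg]

theorem mem_fixS {φ : P →* AddMonoid.End V} {B : Subgroup P} {v : V} :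
    v ∈ fixS φ B ↔ ∀ g ∈ B, φ g v = v := Iff.rfl

/-- The stabilizer of a subgroup of the module. -/
def stab (φ : P →* AddMonoid.End V) (R : AddSubgroup V) : Subgroup P where
  carrier := {g | ∀ v, v ∈ R ↔ φ g v ∈ R}
  one_mem' := fun v => by rw [map_one]; rfl
  mul_mem' := fun {g h} hg hh v => by rw [hh v, hg (φ h v), map_mul]; rfl
  inv_mem' := fun {g} hg v => by
    conv_lhs => rw [show v = φ g (φ g⁻¹ v) from (by
      rw [show φ g (φ g⁻¹ v) = (φ g * φ g⁻¹) v from rfl, ← map_mul, mul_inv_cancel, map_one]; rfl)]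
    exact (hg _).symm

theorem mem_stab {φ : P →* AddMonoid.End V} {R : AddSubgroup V} {g : P}
    (h : ∀ v ∈ R, φ g v ∈ R) : g ∈ stab φ R := fun v => ⟨h v, fun hv => by
  have h1 : ∀ (n : ℕ) u, u ∈ R → φ (g ^ n) u ∈ R := fun n => by
    induction n with
    | zero => intro u hu; rwa [pow_zero, map_one]
    | succ n ih => intro u hu; rw [pow_succ, map_mul]; exact ih _ (h u hu)
  have h2 := h1 (orderOf g - 1) _ hv
  rw [show φ (g ^ (orderOf g - 1)) (φ g v) = (φ (g ^ (orderOf g - 1)) * φ g) v from rfl, ← map_mul,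
    ← pow_succ, Nat.sub_add_cancel (orderOf_pos g), pow_orderOf_eq_one, map_one] at h2
  exact h2⟩

theorem exists_natural_sl2 {p : ℕ} [hp : Fact p.Prime] (hV : ∀ v : V, p • v = 0)
    (φ : P →* AddMonoid.End V) (hφ : Function.Injective φ) (T : Sylow p P) (hTn : ¬ (T : Subgroup P).Normal)
    (M : Subgroup P) (hM : M ≠ ⊤) (hTM : (T : Subgroup P) ≤ M)
    (huniq : ∀ X : Subgroup P, (T : Subgroup P) ≤ X → X ≠ ⊤ → X ≤ M)
    (A : Subgroup P) (hAT : A ≤ (T : Subgroup P))
    (hquad : ∀ a ∈ A, ∀ b ∈ A, ∀ v, φ b (φ a v - v) = φ a v - v)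
    (hbig : Nat.card V ≤ Nat.card A * Nat.card (fixS φ A))
    (hstrict : ∀ A₀ ≤ A, A₀ ≠ ⊥ → A₀ ≠ A →
      Nat.card A₀ * Nat.card (fixS φ A₀) < Nat.card A * Nat.card (fixS φ A))
    (hr : ∃ r ∈ fixS φ (T : Subgroup P), r ∉ fixS φ ⊤)
    (hgen : ∀ x ∉ M, A ⊔ A.map (MulAut.conj x).toMonoidHom = ⊤) :
    ∃ (F : Type) (_ : Field F) (_ : Fintype F), Fintype.card F = Nat.card A ∧
      ∃ (ψ : V →+ (Fin 2 → F)) (ρ : P ≃* SL(2, F)), Function.Surjective ψ ∧
        (∀ v, ψ v = 0 ↔ v ∈ fixS φ ⊤) ∧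
        (∀ g v, ψ (φ g v) = (ρ g : Matrix (Fin 2) (Fin 2) F).mulVec (ψ v)) ∧
        fixS φ A = AddSubgroup.closure {w | ∃ a ∈ A, ∃ v, φ a v - v = w} ⊔ fixS φ ⊤ := by
  classical
  have comp : ∀ (g h : P) (v : V), φ (g * h) v = φ g (φ h v) := fun g h v => by
    rw [map_mul]; rfl
  have one_app : ∀ v : V, φ 1 v = v := fun v => by rw [map_one]; rfl
  have inv_app : ∀ g v, φ g⁻¹ (φ g v) = v := fun g v => by rw [← comp, inv_mul_cancel, one_app]
  have app_inv : ∀ g v, φ g (φ g⁻¹ v) = v := fun g v => by rw [← comp, mul_inv_cancel, one_app]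
  set C := fixS φ A
  set Z := fixS φ (⊤ : Subgroup P)
  have hZC : Z ≤ C := fun v hv g _ => hv g trivial
  have hZg : ∀ g, ∀ z ∈ Z, φ g z = z := fun g z hz => hz g trivial
  have hqC : ∀ a ∈ A, ∀ v, φ a v - v ∈ C := fun a ha v b hb => hquad a ha b hb v
  -- two conjugates of `C` with independent axes meet in `Z`
  have hmeet : ∀ x ∉ M, ∀ c ∈ C, φ x c ∈ C → φ x c ∈ Z := by
    intro x hx c hc hxc
    let H : Subgroup P :=
      { carrier := {g | φ g (φ x c) = φ x c}
        one_mem' := one_app _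
        mul_mem' := fun {g h} (hg : _ = _) (hh : _ = _) => show _ = _ by rw [comp, hh, hg]
        inv_mem' := fun {g} (hg : _ = _) => show _ = _ by
          conv_lhs => rw [← hg]
          exact inv_app _ _ }
    have hH : A ⊔ A.map (MulAut.conj x).toMonoidHom ≤ H := by
      refine sup_le (fun a ha => hxc a ha) ?_
      rintro _ ⟨a, ha, rfl⟩
      show φ (x * a * x⁻¹) (φ x c) = φ x c
      rw [← comp, inv_mul_cancel_right, comp, hc a ha]
    rw [hgen x hx] at hH
    exact fun g _ => hH (Subgroup.mem_top g)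
  have hmeet2 : ∀ h k : P, h⁻¹ * k ∉ M → ∀ c ∈ C, ∀ c' ∈ C, φ h c = φ k c' → φ h c ∈ Z := by
    intro h k hhk c hc c' hc' e
    have h1 : φ (h⁻¹ * k) c' = c := by rw [comp, ← e, inv_app]
    have h2 := hmeet _ hhk c' hc' (h1.symm ▸ hc)
    rw [h1] at h2
    rwa [hZg h c h2]
  obtain ⟨r₀, hr₀, hr₀Z⟩ := hr
  have hr₀C : r₀ ∈ C := fun a ha => hr₀ a (hAT ha)
  have hAM : A ≤ M := hAT.trans hTM
  obtain ⟨x, hx⟩ : ∃ x, x ∉ M := by
    by_contra h
    push Not at h
    exact hM (eq_top_iff.2 fun g _ => h g)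
  -- invariant subgroups
  have hinvgen : ∀ (y : P), y ∉ M → ∀ R : AddSubgroup V,
      (∀ a ∈ A, ∀ v ∈ R, φ a v ∈ R) → (∀ a ∈ A, ∀ v ∈ R, φ (y * a * y⁻¹) v ∈ R) →
        ∀ g, ∀ v ∈ R, φ g v ∈ R := by
    intro y hy R h1 h2 g v hv
    have hle : A ⊔ A.map (MulAut.conj y).toMonoidHom ≤ stab φ R := by
      refine sup_le (fun a ha => mem_stab (h1 a ha)) ?_
      rintro _ ⟨a, ha, rfl⟩
      exact mem_stab (h2 a ha)
    rw [hgen y hy] at hle
    exact (hle (Subgroup.mem_top g) v).1 hv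
  have hUinv : ∀ y ∉ M, ∀ g, ∀ v ∈ C ⊔ C.map (φ y), φ g v ∈ C ⊔ C.map (φ y) := by
    intro y hy
    refine hinvgen y hy _ (fun a ha v hv => ?_) (fun a ha v hv => ?_)
    · rw [← sub_add_cancel (φ a v) v]
      exact add_mem (AddSubgroup.mem_sup_left (hqC a ha v)) hv
    · rw [← sub_add_cancel (φ (y * a * y⁻¹) v) v]
      refine add_mem (AddSubgroup.mem_sup_right ⟨_, hqC a ha (φ y⁻¹ v), ?_⟩) hv
      show φ y (φ a (φ y⁻¹ v) - φ y⁻¹ v) = _
      rw [map_sub, ← comp, ← comp, app_inv]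
  set U := C ⊔ C.map (φ x) with hUdef
  have hUy : ∀ y ∉ M, U ≤ C ⊔ C.map (φ y) := fun y hy => sup_le le_sup_left (by
    rintro _ ⟨c, hc, rfl⟩
    exact hUinv y hy x c (AddSubgroup.mem_sup_left hc))
  -- the core
  set K := M.normalCore
  set Q := K ⊓ (T : Subgroup P) with hQdef
  have hKM : K ≤ M := M.normalCore_le
  have hQn : Q.Normal := by
    let Q' : Sylow p K := (T.2.comap_of_injective K.subtype K.subtype_injective).toSylow
      (fun hd => T.not_dvd_index (hd.trans (Transfer.relIndex_dvd_index_of_normal _ K)))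
    have hQ : (Q' : Subgroup K).map K.subtype = Q :=
      (Subgroup.subgroupOf_map_subtype _ _).trans (inf_comm _ _)
    have hsup := Sylow.normalizer_sup_eq_top Q'
    rw [hQ] at hsup
    refine Subgroup.normalizer_eq_top_iff.mp ?_
    by_contra hne
    have hTN : (T : Subgroup P) ≤ Subgroup.normalizer ((Q : Subgroup P) : Set P) :=
      fun t ht => Subgroup.mem_normalizer_fintype fun y hy =>
        ⟨M.normalCore_normal.conj_mem y hy.1 t,
          Subgroup.mul_mem _ (Subgroup.mul_mem _ ht hy.2) (Subgroup.inv_mem _ ht)⟩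
    exact hM (top_le_iff.mp (hsup.ge.trans (sup_le (huniq _ hTN hne) hKM)))
  -- elements of `A` outside the core move the axes
  have h5 : ∀ a ∈ A, a ∉ K → ∀ c ∈ C, φ a (φ x c) - φ x c ∈ Z → φ x c ∈ Z := by
    intro a ha haK c hc hz
    obtain ⟨g, hg⟩ : ∃ g, g * a * g⁻¹ ∉ M := by
      by_contra h
      push Not at h
      exact haK fun g => h g
    have hgM : g⁻¹ ∉ M := fun h => hg
      (mul_mem (mul_mem (inv_inv g ▸ inv_mem h) (hAM ha)) h)
    obtain ⟨c₁, hc₁, _, ⟨c₂, hc₂, rfl⟩, he⟩ := AddSubgroup.mem_sup.1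
      (hUy _ hgM (AddSubgroup.mem_sup_right (⟨c, hc, rfl⟩ : φ x c ∈ C.map (φ x))))
    set z := φ a (φ x c) - φ x c with hzdef
    have h1 : φ a (φ g⁻¹ c₂) = φ g⁻¹ c₂ + z := by
      rw [hzdef, ← he, map_add, hc₁ a ha, add_sub_add_left_eq_sub]
      exact (add_sub_cancel _ _).symm
    have h2 : φ (a * g⁻¹) c₂ = φ g⁻¹ (c₂ + z) := by
      rw [comp, map_add, hZg g⁻¹ z hz]
      exact h1
    have h3 := hmeet2 (a * g⁻¹) g⁻¹ (fun h => hg (by
      have := inv_mem h
      simpa [mul_assoc] using this)) c₂ hc₂ (c₂ + z) (add_mem hc₂ (hZC hz)) h2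
    rw [comp, h1, add_mem_cancel_right hz] at h3
    refine hmeet x hx c hc ?_
    rw [← he]
    exact add_mem hc₁ (hZC h3)
  -- the map `a ↦ [y, a]`
  set y := φ x r₀ with hy
  have hyZ : y ∉ Z := fun h => hr₀Z (by
    rw [← inv_app x r₀, ← hy, hZg _ _ h]; exact h)
  have hd : ∀ a ∈ A, ∀ b ∈ A, φ (a * b) y - y = (φ a y - y) + (φ b y - y) := by
    intro a ha b hb
    have := hquad b hb a ha y
    rw [map_sub] at this
    rw [comp, ← sub_add_cancel (φ a (φ b y)) (φ a y), this]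
    abel
  have hcount : ∀ D : AddSubgroup V, Z ≤ D → (∀ a ∈ A, φ a y - y ∈ D) →
      Nat.card A * Nat.card Z ≤ Nat.card ↥(A ⊓ K) * Nat.card D := by
    intro D hZD hD
    rw [← Nat.card_prod, ← Nat.card_prod]
    let m : A × Z → D := fun w => ⟨φ (w.1 : P) y - y + w.2, add_mem (hD _ w.1.2) (hZD w.2.2)⟩
    let σ : A × Z → A := fun w => (Function.invFun m (m w)).1
    have hm : ∀ w, m (Function.invFun m (m w)) = m w := fun w => Function.invFun_eq ⟨w, rfl⟩
    have hk : ∀ w, (w.1 : P) * (σ w : P)⁻¹ ∈ A ⊓ K := fun w => by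
      have hA' : (w.1 : P) * (σ w : P)⁻¹ ∈ A := mul_mem w.1.2 (inv_mem (σ w).2)
      refine ⟨hA', Classical.byContradiction fun hK' => hyZ (h5 _ hA' hK' r₀ hr₀C ?_)⟩
      have h1 := hd _ hA' _ (σ w).2
      rw [inv_mul_cancel_right] at h1
      have h2 : φ (σ w : P) y - y + ((Function.invFun m (m w)).2 : V) = φ (w.1 : P) y - y + w.2 :=
        congrArg Subtype.val (hm w)
      rw [h1] at h2
      rw [show φ ((w.1 : P) * (σ w : P)⁻¹) y - y = ((Function.invFun m (m w)).2 : V) - w.2 by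
        rw [eq_sub_iff_add_eq]
        exact add_left_cancel (a := φ (σ w : P) y - y) (by rw [h2]; abel)]
      exact sub_mem (Function.invFun m (m w)).2.2 w.2.2
    refine Nat.card_le_card_of_injective (fun w => ((⟨_, hk w⟩ : ↥(A ⊓ K)), m w)) fun w w' h => ?_
    obtain ⟨h1, h2⟩ := Prod.ext_iff.1 h
    have h2' : m w = m w' := h2
    have hσ : σ w = σ w' := congrArg (fun z => (Function.invFun m z).1) h2'
    have h1' : (w.1 : P) * (σ w : P)⁻¹ = (w'.1 : P) * (σ w' : P)⁻¹ := congrArg Subtype.val h1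
    rw [hσ] at h1'
    have e1 : w.1 = w'.1 := Subtype.ext (mul_right_cancel h1')
    have h3 : φ (w.1 : P) y - y + (w.2 : V) = φ (w'.1 : P) y - y + w'.2 := congrArg Subtype.val h2'
    rw [e1] at h3
    exact Prod.ext e1 (Subtype.ext (add_left_cancel h3))
  have hKinf : A ⊓ K = ⊥ := by
    by_contra hne
    set S := fixS φ Q with hSdef
    have hAQ : A ⊓ K ≤ Q := le_inf inf_le_right (inf_le_left.trans hAT)
    have hSinv : ∀ g, ∀ s ∈ S, φ g s ∈ S := fun g s hs q hq => by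
      rw [show φ q (φ g s) = φ g (φ (g⁻¹ * q * g) s) by rw [← comp, ← comp]; group]
      congr 1
      refine hs _ ?_
      have := hQn.conj_mem q hq g⁻¹
      rwa [inv_inv] at this
    have hZS : Z ≤ S := fun v hv g _ => hv g trivial
    have hr₀S : r₀ ∈ S := fun q hq => hr₀ q hq.2
    have hyS : y ∈ S := hSinv x _ hr₀S
    have h1 := hcount (S ⊓ C) (le_inf hZS hZC)
      (fun a ha => AddSubgroup.mem_inf.2 ⟨sub_mem (hSinv a _ hyS) hyS, hqC a ha y⟩)
    have h2 : C ⊔ (S ⊓ C).map (φ x) ≤ fixS φ (A ⊓ K) := by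
      refine sup_le (fun v hv a ha => hv a ha.1) ?_
      rintro _ ⟨v, hv, rfl⟩
      exact fun a ha => hSinv x v hv.1 a (hAQ ha)
    have h3 : C ⊓ (S ⊓ C).map (φ x) ≤ Z := by
      rintro _ ⟨hv, c, hc, rfl⟩
      exact hmeet x hx c hc.2 hv
    have h4 : Nat.card ↥((S ⊓ C).map (φ x)) = Nat.card ↥(S ⊓ C) :=
      (Nat.card_congr ((AddSubgroup.equivMapOfInjective _ (φ x)
        (Function.LeftInverse.injective (inv_app x))).toEquiv)).symm
    have h5' := card_mul_le C ((S ⊓ C).map (φ x))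
    rw [h4] at h5'
    have h6 := h5'.trans (Nat.mul_le_mul (AddSubgroup.card_le_of_le h2) (AddSubgroup.card_le_of_le h3))
    by_cases hA0 : A ⊓ K = A
    · have hAK : A ≤ K := inf_eq_left.1 hA0
      refine hM (top_le_iff.1 (le_trans ?_ hKM))
      rw [← hgen x hx]
      refine sup_le hAK ?_
      rintro _ ⟨a, ha, rfl⟩
      exact M.normalCore_normal.conj_mem a (hAK ha) x
    · have h7 := hstrict _ inf_le_left hne hA0
      have h8 : Nat.card A * Nat.card C * Nat.card Z ≤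
          Nat.card ↥(A ⊓ K) * Nat.card ↥(fixS φ (A ⊓ K)) * Nat.card Z := by
        calc Nat.card A * Nat.card C * Nat.card Z = Nat.card C * (Nat.card A * Nat.card Z) := by ring
          _ ≤ Nat.card C * (Nat.card ↥(A ⊓ K) * Nat.card ↥(S ⊓ C)) := Nat.mul_le_mul_left _ h1
          _ = Nat.card ↥(A ⊓ K) * (Nat.card C * Nat.card ↥(S ⊓ C)) := by ring
          _ ≤ Nat.card ↥(A ⊓ K) * (Nat.card ↥(fixS φ (A ⊓ K)) * Nat.card Z) := Nat.mul_le_mul_left _ h6
          _ = _ := by ring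
      exact absurd (Nat.le_of_mul_le_mul_right h8 Nat.card_pos) (not_le.2 h7)
  -- the sizes
  have hAZ := hcount C hZC fun a ha => hqC a ha y
  rw [hKinf, Subgroup.card_bot, one_mul] at hAZ
  have hCx : Nat.card ↥(C.map (φ x)) = Nat.card C :=
    (Nat.card_congr ((AddSubgroup.equivMapOfInjective _ (φ x)
      (Function.LeftInverse.injective (inv_app x))).toEquiv)).symm
  have hCC : Nat.card C * Nat.card C ≤ Nat.card U * Nat.card Z := by
    refine le_trans ?_ (Nat.mul_le_mul_left _ (AddSubgroup.card_le_of_le (?_ : C ⊓ C.map (φ x) ≤ Z)))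
    · have := card_mul_le C (C.map (φ x))
      rwa [hCx] at this
    · rintro _ ⟨hv, c, hc, rfl⟩
      exact hmeet x hx c hc hv
  have hUV : Nat.card U ≤ Nat.card V := Finite.card_subtype_le (fun v => v ∈ U)
  have hAZ' : Nat.card A * Nat.card Z = Nat.card C := by
    refine le_antisymm hAZ (Nat.le_of_mul_le_mul_left (?_ :
      Nat.card C * Nat.card C ≤ Nat.card C * (Nat.card A * Nat.card Z)) Nat.card_pos)
    exact hCC.trans ((Nat.mul_le_mul_right _ (hUV.trans hbig)).trans (le_of_eq (by ring)))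
  have hUtop : U = ⊤ := by
    refine AddSubgroup.eq_top_of_le_card _ ?_
    refine hbig.trans (Nat.le_of_mul_le_mul_right (?_ :
      Nat.card A * Nat.card C * Nat.card Z ≤ Nat.card U * Nat.card Z) (Nat.card_pos (α := Z)))
    exact le_trans (le_of_eq (by rw [mul_right_comm, hAZ'])) hCC
  have hjoin : ∀ v : V, ∃ c ∈ C, ∃ c' ∈ C, v = c + φ x c' := fun v => by
    have hv : v ∈ U := hUtop ▸ AddSubgroup.mem_top v
    obtain ⟨c, hc, _, ⟨c', hc', rfl⟩, he⟩ := AddSubgroup.mem_sup.1 hv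
    exact ⟨c, hc, c', hc', he.symm⟩
  have hy5 : ∀ a ∈ A, ∀ c ∈ C, φ x c ∉ Z → φ a (φ x c) - φ x c ∈ Z → a = 1 := by
    intro a ha c hc hcZ h
    by_contra h1
    refine hcZ (h5 a ha (fun hK => h1 ?_) c hc h)
    have : a ∈ A ⊓ K := ⟨ha, hK⟩
    rwa [hKinf, Subgroup.mem_bot] at this
  have hsurj : ∀ c ∈ C, φ x c ∉ Z → ∀ w ∈ C, ∃ a ∈ A, φ a (φ x c) - φ x c - w ∈ Z := by
    intro c hc hcZ
    have hd' : ∀ a ∈ A, ∀ b ∈ A, φ (a * b) (φ x c) - φ x c =
        (φ a (φ x c) - φ x c) + (φ b (φ x c) - φ x c) := by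
      intro a ha b hb
      have := hquad b hb a ha (φ x c)
      rw [map_sub] at this
      rw [comp a b, ← sub_add_cancel (φ a (φ b (φ x c))) (φ a (φ x c)), this]
      abel
    let f : A × Z → C := fun w => ⟨φ (w.1 : P) (φ x c) - φ x c + w.2,
      add_mem (hqC _ w.1.2 _) (hZC w.2.2)⟩
    have hf : Function.Bijective f := by
      refine (Nat.bijective_iff_injective_and_card f).2 ⟨fun w w' h => ?_, by rw [Nat.card_prod, hAZ']⟩
      have h' : φ (w.1 : P) (φ x c) - φ x c + (w.2 : V) =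
        φ (w'.1 : P) (φ x c) - φ x c + w'.2 := congrArg Subtype.val h
      have hq : (w.1 : P) * (w'.1 : P)⁻¹ ∈ A := mul_mem w.1.2 (inv_mem w'.1.2)
      have h1 := hd' _ hq _ w'.1.2
      rw [inv_mul_cancel_right] at h1
      rw [h1] at h'
      have e : φ ((w.1 : P) * (w'.1 : P)⁻¹) (φ x c) - φ x c = (w'.2 : V) - w.2 := by
        rw [eq_sub_iff_add_eq]
        exact add_left_cancel (a := φ (w'.1 : P) (φ x c) - φ x c) (by rw [← h']; abel)
      have e1 := hy5 _ hq c hc hcZ (e ▸ sub_mem w'.2.2 w.2.2)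
      rw [e1, one_app, sub_self, eq_comm, sub_eq_zero] at e
      exact Prod.ext (Subtype.ext (mul_inv_eq_one.1 e1)) (Subtype.ext e.symm)
    intro w hw
    obtain ⟨⟨a, z⟩, he⟩ := hf.2 ⟨w, hw⟩
    refine ⟨a, a.2, ?_⟩
    have he' : φ (a : P) (φ x c) - φ x c + (z : V) = w := congrArg Subtype.val he
    rw [← he', sub_add_cancel_left]
    exact neg_mem z.2
  have hcomm : C = AddSubgroup.closure {w | ∃ a ∈ A, ∃ v, φ a v - v = w} ⊔ Z := by
    refine le_antisymm (fun w hw => ?_) (sup_le ((AddSubgroup.closure_le _).2 ?_) hZC)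
    · obtain ⟨a, ha, h⟩ := hsurj r₀ hr₀C hyZ w hw
      rw [show w = (φ a y - y) - (φ a y - y - w) by abel]
      exact sub_mem (AddSubgroup.mem_sup_left (AddSubgroup.subset_closure ⟨a, ha, y, rfl⟩))
        (AddSubgroup.mem_sup_right h)
    · rintro _ ⟨a, ha, v, rfl⟩
      exact hqC a ha v
  -- irreducibility modulo `Z`
  have hirr : ∀ R : AddSubgroup V, Z ≤ R → (∀ g, ∀ v ∈ R, φ g v ∈ R) → ¬ R ≤ Z → R = ⊤ := by
    intro R hZR hR hRZ
    obtain ⟨v, hv, hvZ⟩ := SetLike.not_le_iff_exists.1 hRZ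
    have key : ∀ w ∈ R, ∀ c ∈ C, ∀ c' ∈ C, w = c + φ x c' → φ x c' ∉ Z → C ≤ R := by
      intro w hw c hc c' hc' he hcZ d hd'
      obtain ⟨a, ha, h⟩ := hsurj c' hc' hcZ d hd'
      have h1 : φ a w - w = φ a (φ x c') - φ x c' := by
        rw [he, map_add, hc a ha]
        abel
      rw [show d = (φ a w - w) - (φ a (φ x c') - φ x c' - d) by rw [h1]; abel]
      exact sub_mem (sub_mem (hR a w hw) hw) (hZR h)
    have hCR : C ≤ R := by
      obtain ⟨c, hc, c', hc', he⟩ := hjoin v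
      by_cases hcZ : φ x c' ∈ Z
      · have hvC : v ∈ C := he ▸ add_mem hc (hZC hcZ)
        refine key (φ x v) (hR x v hv) 0 (zero_mem _) v hvC (zero_add _).symm fun h => hvZ ?_
        rw [← inv_app x v, hZg _ _ h]
        exact h
      · exact key v hv c hc c' hc' he hcZ
    refine (AddSubgroup.eq_top_iff' _).2 fun w => ?_
    obtain ⟨c, hc, c', hc', rfl⟩ := hjoin w
    exact add_mem (hCR hc) (hR x c' (hCR hc'))
  -- the action modulo `Z` is faithful
  let K0 : Subgroup P :=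
    { carrier := {g | ∀ v, φ g v - v ∈ Z}
      one_mem' := fun v => by rw [one_app, sub_self]; exact zero_mem _
      mul_mem' := fun {g h} hg hh v => by
        rw [comp, ← sub_add_sub_cancel _ (φ h v) v]
        exact add_mem (hg _) (hh _)
      inv_mem' := fun {g} hg v => by
        have := hg (φ g⁻¹ v)
        rw [app_inv] at this
        rw [← neg_sub]
        exact neg_mem this }
  have hK0n : K0.Normal := ⟨fun n hn g v => by
    show φ (g * n * g⁻¹) v - v ∈ Z
    have h := hn (φ g⁻¹ v)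
    have h' : φ (g * n * g⁻¹) v - v = φ g (φ n (φ g⁻¹ v) - φ g⁻¹ v) := by
      rw [map_sub, ← comp, ← comp, app_inv]
    rw [h', hZg g _ h]
    exact h⟩
  have hK0p : IsPGroup p K0 := by
    intro g
    refine ⟨1, Subtype.ext (hφ ?_)⟩
    rw [pow_one, SubmonoidClass.coe_pow, OneMemClass.coe_one, map_one]
    refine AddMonoidHom.ext fun v => ?_
    have h1 : ∀ n : ℕ, φ ((g : P) ^ n) v = v + n • (φ (g : P) v - v) := by
      intro n
      induction n with
      | zero => rw [pow_zero, one_app, zero_nsmul, add_zero]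
      | succ n ih =>
        rw [pow_succ', comp, ih, map_add, map_nsmul, hZg _ _ (g.2 v), succ_nsmul]
        abel
    show φ ((g : P) ^ p) v = v
    rw [h1, hV, add_zero]
  have hK0 : ∀ g ∈ K0, g = 1 := by
    have hle : K0 ≤ (T : Subgroup P) :=
      (fun k hk => by
      obtain ⟨T', hT'⟩ := hK0p.exists_le_sylow
      obtain ⟨g, rfl⟩ := MulAction.exists_smul_eq P T' T
      exact ⟨g⁻¹ * k * g, hT' (by simpa using hK0n.conj_mem k hk g⁻¹), by simp [mul_assoc]⟩)
    have hRtop : fixS φ K0 = ⊤ := by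
      refine hirr _ (fun z hz g _ => hz g trivial) (fun g v hv k hk => ?_)
        fun h => hr₀Z (h fun k hk => hr₀ k (hle hk))
      rw [show φ k (φ g v) = φ g (φ (g⁻¹ * k * g) v) by rw [← comp, ← comp]; group]
      congr 1
      refine hv _ ?_
      have := hK0n.conj_mem k hk g⁻¹
      rwa [inv_inv] at this
    intro g hg
    refine hφ (AddMonoidHom.ext fun v => ?_)
    show φ g v = φ 1 v
    rw [one_app]
    exact (hRtop.ge (AddSubgroup.mem_top v) : v ∈ fixS φ K0) g hg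
  -- the spread
  have hspread : ∀ g : P, (∀ c ∈ C, φ g c ∈ C) ∨ ∃ a ∈ A, ∀ c ∈ C, ∃ c' ∈ C, φ g c = φ (a * x) c' := by
    have main : ∀ (g : P) (c : V), c ∈ C → φ g c ∉ C → ∃ a ∈ A, g⁻¹ * (a * x) ∈ M := by
      intro g c hc hgc
      obtain ⟨c₁, hc₁, c₂, hc₂, he⟩ := hjoin (φ g c)
      have hZ2 : φ x c₂ ∉ Z := fun h => hgc (he ▸ add_mem hc₁ (hZC h))
      obtain ⟨a, ha, h⟩ := hsurj c₂ hc₂ hZ2 c₁ hc₁
      refine ⟨a, ha, Classical.byContradiction fun hn => hgc (hZC ?_)⟩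
      set z := φ a (φ x c₂) - φ x c₂ - c₁ with hz
      refine hmeet2 g (a * x) hn c hc (c₂ - z) (sub_mem hc₂ (hZC h)) ?_
      rw [map_sub, hZg (a * x) z h, comp, hz, he]
      abel
    have hMC : ∀ g ∈ M, ∀ c ∈ C, φ g c ∈ C := by
      intro g hg c hc
      by_contra hn
      obtain ⟨a, ha, h⟩ := main g c hc hn
      have := mul_mem (inv_mem (hAM ha)) (mul_mem hg h)
      rw [mul_inv_cancel_left, inv_mul_cancel_left] at this
      exact hx this
    intro g
    by_cases hg : g ∈ M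
    · exact Or.inl (hMC g hg)
    right
    have hn : φ g r₀ ∉ C := fun h => hr₀Z (by
      have h1 := hmeet g hg r₀ hr₀C h
      rw [← inv_app g r₀, hZg _ _ h1]
      exact h1)
    obtain ⟨a, ha, h⟩ := main g r₀ hr₀C hn
    refine ⟨a, ha, fun c hc => ⟨_, hMC _ (inv_mem h) c hc, ?_⟩⟩
    rw [← comp, mul_inv_rev, inv_inv, mul_inv_cancel_left]
  -- the quotient
  let q := QuotientAddGroup.mk' Z
  let φ' : P →* AddMonoid.End (V ⧸ Z) :=
    { toFun := fun g => QuotientAddGroup.map Z Z (φ g) fun z hz => by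
        show φ g z ∈ Z
        rw [hZg g z hz]
        exact hz
      map_one' := AddMonoidHom.ext fun v => by
        obtain ⟨v, rfl⟩ := QuotientAddGroup.mk'_surjective Z v
        show q (φ 1 v) = q v
        rw [one_app]
      map_mul' := fun g h => AddMonoidHom.ext fun v => by
        obtain ⟨v, rfl⟩ := QuotientAddGroup.mk'_surjective Z v
        show q (φ (g * h) v) = q (φ g (φ h v))
        rw [comp] }
  have hφ' : ∀ g v, φ' g (q v) = q (φ g v) := fun g v => rfl
  have hq : ∀ u v, q u = q v ↔ u - v ∈ Z := fun u v => by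
    rw [← sub_eq_zero, ← map_sub]
    exact QuotientAddGroup.eq_zero_iff _
  have hq0 : ∀ v, q v = 0 ↔ v ∈ Z := fun v => QuotientAddGroup.eq_zero_iff _
  have hinj' : Function.Injective φ' := (injective_iff_map_eq_one _).2 fun g hg => hK0 g fun v =>
    (hq _ _).1 (by
      rw [← hφ']
      exact DFunLike.congr_fun hg (q v))
  have hAne : A ≠ ⊥ := by
    intro h
    have := hgen x hx
    rw [h, Subgroup.map_bot, bot_sup_eq] at this
    exact hx ((this ▸ bot_le : (⊤ : Subgroup P) ≤ M) (Subgroup.mem_top x))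
  obtain ⟨F, iF, iFin, hcard, L, ρ, hρ, -⟩ := Spread.exists_sl2 (p := p)
    (fun w : V ⧸ Z => by
      obtain ⟨v, rfl⟩ := QuotientAddGroup.mk'_surjective Z w
      show p • q v = 0
      rw [← map_nsmul, hV, map_zero])
    φ' hinj' A hAne x (C.map q)
    (fun h => hr₀Z ((hq0 r₀).1 (by
      have : q r₀ ∈ C.map q := ⟨r₀, hr₀C, rfl⟩
      rwa [h] at this)))
    (by rintro a ha _ ⟨c, hc, rfl⟩; rw [hφ', hc a ha])
    (fun a ha w => by
      obtain ⟨v, rfl⟩ := QuotientAddGroup.mk'_surjective Z w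
      exact ⟨_, hqC a ha v, by rw [map_sub]; rfl⟩)
    (by
      rintro _ ⟨c, hc, rfl⟩ h
      obtain ⟨c', hc', e⟩ := h
      rw [hφ', hq] at e
      have h1 : φ x c ∈ C := by
        rw [show φ x c = c' - (c' - φ x c) by abel]
        exact sub_mem hc' (hZC e)
      have h2 := hmeet x hx c hc h1
      rw [hq0, ← inv_app x c, hZg _ _ h2]
      exact h2)
    (fun w => by
      obtain ⟨v, rfl⟩ := QuotientAddGroup.mk'_surjective Z w
      obtain ⟨c, hc, c', hc', rfl⟩ := hjoin v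
      exact ⟨_, ⟨c, hc, rfl⟩, _, ⟨c', hc', rfl⟩, map_add q _ _⟩)
    (by
      rintro a ha _ ⟨c, hc, rfl⟩ hne e
      rw [hφ', hφ', hq] at e
      refine hy5 a ha c hc (fun h => hne ((hq0 c).2 ?_)) e
      rw [← inv_app x c, hZg _ _ h]
      exact h)
    (by
      rintro _ ⟨c, hc, rfl⟩ hne _ ⟨w, hw, rfl⟩
      obtain ⟨a, ha, h⟩ := hsurj c hc (fun h => hne ((hq0 c).2 (by
        rw [← inv_app x c, hZg _ _ h]
        exact h))) w hw
      refine ⟨a, ha, ?_⟩
      rw [hφ', hφ', ← map_sub]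
      exact (hq _ _).2 h)
    (fun g => by
      rcases hspread g with h | ⟨a, ha, h⟩
      · left
        rintro _ ⟨c, hc, rfl⟩
        exact ⟨_, h c hc, rfl⟩
      · right
        refine ⟨a, ha, ?_⟩
        rintro _ ⟨c, hc, rfl⟩
        obtain ⟨c', hc', e⟩ := h c hc
        exact ⟨_, ⟨c', hc', rfl⟩, by rw [hφ', hφ', e]⟩)
    (hgen x hx)
  refine ⟨F, iF, iFin, hcard, L.symm.toAddMonoidHom.comp q, ρ,
    L.symm.surjective.comp (QuotientAddGroup.mk'_surjective Z), fun v => ?_, fun g v => ?_, hcomm⟩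
  · show L.symm (q v) = 0 ↔ _
    rw [AddEquiv.map_eq_zero_iff, hq0]
  · show L.symm (q (φ g v)) = _
    apply L.injective
    rw [L.apply_symm_apply, ← hφ', ← hρ]
    show _ = φ' g (L (L.symm (q v)))
    rw [L.apply_symm_apply]

end CfsgLib.SL2Module.Offender
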