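import Cfsg.Agent.Lib.SL2Module.Strong

/-!
The main induction: two conjugates of the offender in different conjugates of the strongly embedded
subgroup always generate the whole group.
-/

set_option autoImplicit false
set_option linter.unusedSectionVars false

namespace CfsgLib.SL2Module.Strong

open scoped MatrixGroups
open CfsgLib.SL2Module.Offender (fixS mem_fixS card_mul_le)

universe u v

variable {P : Type u} [Group P] [Finite P] {V : Type v} [AddCommGroup V] [Finite V]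
variable {p : ℕ} {φ : P →* AddMonoid.End V} {X A : Subgroup P}

theorem faithful (d : Data p φ X A) {K : Subgroup P} (hAK : A ≤ K) {g : P} (hg : g ∈ K) (hgX : g ∉ X)
    {k : P} (hk : k ∈ K) (h : ∀ v, φ k v - v ∈ fixS φ K) : k = 1 := by
  set C := fixS φ A
  set Z := fixS φ K
  have hZC : Z ≤ C := fixS_anti hAK
  let R : Subgroup P :=
    { carrier := {h | h ∈ K ∧ (∀ v, φ h v - v ∈ C) ∧ ∀ c ∈ C, φ h c - c ∈ Z}
      one_mem' := ⟨one_mem _, fun v => by rw [one_app, sub_self]; exact zero_mem _,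
        fun c _ => by rw [one_app, sub_self]; exact zero_mem _⟩
      mul_mem' := fun {x y} hx hy => ⟨mul_mem hx.1 hy.1, fun v => by
        rw [comp_app, ← sub_add_sub_cancel _ (φ y v) v]
        exact add_mem (hx.2.1 _) (hy.2.1 _), fun c hc => by
        have h1 : φ y c ∈ C := by
          rw [show φ y c = (φ y c - c) + c by abel]
          exact add_mem (hZC (hy.2.2 c hc)) hc
        rw [comp_app, ← sub_add_sub_cancel _ (φ y c) c]
        exact add_mem (hx.2.2 _ h1) (hy.2.2 c hc)⟩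
      inv_mem' := fun {x} hx => ⟨inv_mem hx.1, fun v => by
        have := hx.2.1 (φ x⁻¹ v)
        rw [app_inv] at this
        rw [← neg_sub]
        exact neg_mem this, fun c hc => by
        have h1 : φ x⁻¹ c ∈ C := by
          have := hx.2.1 (φ x⁻¹ c)
          rw [app_inv] at this
          rw [show φ x⁻¹ c = c - (c - φ x⁻¹ c) by abel]
          exact sub_mem hc this
        have := hx.2.2 _ h1
        rw [app_inv] at this
        rw [← neg_sub]
        exact neg_mem this⟩ }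
  have hR : IsPGroup p R := by
    intro x
    refine ⟨2, Subtype.ext ?_⟩
    rw [SubmonoidClass.coe_pow, pow_two, pow_mul]
    refine pow_p d (B := C) (fun v => ?_) fun c hc => ?_
    · have h2 := (x ^ p).2.2.1 v
      rwa [SubmonoidClass.coe_pow] at h2
    · have h1 := x.2.2.2 c hc
      rw [pow_app φ (x : P) c (h1 (x : P) x.2.1), d.nsmul, add_zero]
  have hAR : A ≤ R := fun a ha => ⟨hAK ha, quad d a ha, fun c hc => by
    rw [hc a ha, sub_self]; exact zero_mem _⟩
  have hkR : ∀ l ∈ K, (∀ v, φ l v - v ∈ Z) → l ∈ X := fun l hl h' =>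
    pgroup_le d hR hAR ⟨hl, fun v => hZC (h' v), fun c _ => h' c⟩
  have hconj : ∀ v, φ (g * k * g⁻¹) v - v ∈ Z := fun v => by
    have h1 := h (φ g⁻¹ v)
    have h2 : φ (g * k * g⁻¹) v - v = φ g (φ k (φ g⁻¹ v) - φ g⁻¹ v) := by
      rw [map_sub, ← comp_app, ← comp_app, app_inv]
    rw [h2, h1 g hg]
    exact h1
  by_contra hk1
  refine hgX (d.ti g k hk1 ⟨1, ?_⟩ (hkR k hk h)
    (hkR _ (mul_mem (mul_mem hg hk) (inv_mem hg)) hconj))
  rw [pow_one]
  exact pow_p d h fun z hz => hz k hk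

/-- The module is natural. -/
theorem natural (d : Data p φ X A) {K : Subgroup P} (hAK : A ≤ K) (hp : PGen p K)
    (hm : Meet φ X A K) {g : P} (hg : g ∈ K) (hgX : g ∉ X) :
    ∃ (F : Type) (_ : Field F) (_ : Fintype F), Fintype.card F = Nat.card A ∧
      ∃ (ψ : V →+ (Fin 2 → F)) (ρ : K ≃* SL(2, F)), Function.Surjective ψ ∧
        (∀ v, ψ v = 0 ↔ v ∈ fixS φ K) ∧
        (∀ (k : K) v, ψ (φ k v) = (ρ k : Matrix (Fin 2) (Fin 2) F).mulVec (ψ v)) ∧
        ∀ v, v ∈ fixS φ A ↔ ψ v 1 = 0 := by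
  classical
  haveI := Fact.mk d.prime
  obtain ⟨hfix, hcard, -, hjoin, hsurj, -, c₀, hc₀, hc₀Z⟩ := basic d hAK hp hm hg hgX
  obtain ⟨hstab, huniq, -, -, hpair⟩ := structure_of_meet d hAK hp hm hg hgX
  set C := fixS φ A
  set Z := fixS φ K
  have hZC : Z ≤ C := fixS_anti hAK
  let q := QuotientAddGroup.mk' Z
  let φ' : K →* AddMonoid.End (V ⧸ Z) :=
    { toFun := fun k => QuotientAddGroup.map Z Z (φ (k : P)) fun z hz => by
        show φ (k : P) z ∈ Z
        rw [hz _ k.2]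
        exact hz
      map_one' := AddMonoidHom.ext fun v => by
        obtain ⟨v, rfl⟩ := QuotientAddGroup.mk'_surjective Z v
        show q (φ ((1 : K) : P) v) = q v
        rw [OneMemClass.coe_one, one_app]
      map_mul' := fun k h => AddMonoidHom.ext fun v => by
        obtain ⟨v, rfl⟩ := QuotientAddGroup.mk'_surjective Z v
        show q (φ ((k * h : K) : P) v) = q (φ k (φ h v))
        rw [Subgroup.coe_mul, comp_app] }
  have hφ' : ∀ (k : K) v, φ' k (q v) = q (φ k v) := fun k v => rfl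
  have hq : ∀ u v, q u = q v ↔ u - v ∈ Z := fun u v => by
    rw [← sub_eq_zero, ← map_sub]
    exact QuotientAddGroup.eq_zero_iff _
  have hq0 : ∀ v, q v = 0 ↔ v ∈ Z := fun v => QuotientAddGroup.eq_zero_iff _
  have hmem : ∀ v, q v ∈ C.map q ↔ v ∈ C := fun v => ⟨by
    rintro ⟨c, hc, e⟩
    rw [hq] at e
    rw [show v = c - (c - v) by abel]
    exact sub_mem hc (hZC e), fun h => ⟨v, h, rfl⟩⟩
  have hinj' : Function.Injective φ' := (injective_iff_map_eq_one _).2 fun k hk =>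
    Subtype.ext (faithful d hAK hg hgX k.2 fun v => (hq _ _).1 (by
      rw [← hφ']
      exact DFunLike.congr_fun hk (q v)))
  have hnotZ : ∀ c, c ∉ Z → φ g c ∉ Z := fun c hc h => hc (by
    rw [← inv_app φ g c, h g⁻¹ (inv_mem hg)]; exact h)
  have hA' : A.subgroupOf K ≠ ⊥ := by
    rw [Ne, Subgroup.subgroupOf_eq_bot, disjoint_iff, inf_eq_left.2 hAK]
    exact d.ne
  obtain ⟨F, iF, iFin, hcF, L, ρ, hρ, hLW⟩ := Spread.exists_sl2 (p := p)
    (fun w : V ⧸ Z => by
      obtain ⟨v, rfl⟩ := QuotientAddGroup.mk'_surjective Z w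
      show p • q v = 0
      rw [← map_nsmul, d.nsmul, map_zero])
    φ' hinj' (A.subgroupOf K) hA' (⟨g, hg⟩ : K) (C.map q)
    (fun h => hc₀Z (by
      have h1 : q c₀ ∈ C.map q := ⟨c₀, hc₀, rfl⟩
      rw [h, AddSubgroup.mem_bot, hq0] at h1
      rw [h1 g hg]
      exact h1))
    (by rintro a ha _ ⟨c, hc, rfl⟩; rw [hφ', hc (a : P) ha])
    (fun a ha w => by
      obtain ⟨v, rfl⟩ := QuotientAddGroup.mk'_surjective Z w
      exact ⟨_, quad d _ ha v, by rw [map_sub]; rfl⟩)
    (by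
      rintro _ ⟨c, hc, rfl⟩ h
      rw [hφ', hmem] at h
      have h2 := hm g hg hgX c hc h
      rw [hq0, ← inv_app φ g c, h2 g⁻¹ (inv_mem hg)]
      exact h2)
    (fun w => by
      obtain ⟨v, rfl⟩ := QuotientAddGroup.mk'_surjective Z w
      obtain ⟨c, hc, c', hc', rfl⟩ := hjoin v
      exact ⟨_, ⟨c, hc, rfl⟩, _, ⟨c', hc', rfl⟩, map_add q _ _⟩)
    (by
      rintro a ha _ ⟨c, hc, rfl⟩ hne e
      rw [hφ', hφ', hq] at e
      exact Subtype.ext (inj_of_meet d hAK hm hg hgX ha hc (hnotZ c fun h => hne ((hq0 c).2 h)) e))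
    (by
      rintro _ ⟨c, hc, rfl⟩ hne _ ⟨w, hw, rfl⟩
      obtain ⟨a, ha, h⟩ := hsurj c hc (hnotZ c fun h => hne ((hq0 c).2 h)) w hw
      refine ⟨⟨a, hAK ha⟩, ha, ?_⟩
      rw [hφ', hφ', ← map_sub]
      exact (hq _ _).2 h)
    (fun k => by
      by_cases hkX : (k : P) ∈ X
      · left
        rintro _ ⟨c, hc, rfl⟩
        exact ⟨_, hstab _ k.2 hkX c hc, rfl⟩
      · right
        obtain ⟨a, ha, hx⟩ := huniq _ k.2 hkX
        refine ⟨⟨a, hAK ha⟩, ha, ?_⟩
        rintro _ ⟨c, hc, rfl⟩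
        refine ⟨q (φ ((a * g)⁻¹ * k) c), ⟨_, hstab _ (mul_mem (inv_mem (mul_mem (hAK ha) hg)) k.2) hx c hc,
          rfl⟩, ?_⟩
        rw [hφ', hφ', ← comp_app]
        show q (φ (k : P) c) = q (φ (a * g * ((a * g)⁻¹ * k)) c)
        rw [mul_inv_cancel_left])
    (by
      apply Subgroup.map_injective K.subtype_injective
      rw [← MonoidHom.range_eq_map, Subgroup.range_subtype, Subgroup.map_sup,
        Subgroup.map_subgroupOf_eq_of_le hAK]
      conv_rhs => rw [← hpair]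
      rw [pair, cj]
      congr 1
      rw [Subgroup.map_map]
      conv_rhs => rw [← Subgroup.map_subgroupOf_eq_of_le hAK, Subgroup.map_map]
      rfl)
  refine ⟨F, iF, iFin, hcF.trans (Nat.card_congr (Subgroup.subgroupOfEquivOfLe hAK).toEquiv),
    L.symm.toAddMonoidHom.comp q, ρ,
    L.symm.surjective.comp (QuotientAddGroup.mk'_surjective Z), fun v => ?_, fun k v => ?_,
    fun v => ?_⟩
  · show L.symm (q v) = 0 ↔ _
    rw [AddEquiv.map_eq_zero_iff, hq0]
  · show L.symm (q (φ k v)) = _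
    apply L.injective
    rw [L.apply_symm_apply, ← hφ', ← hρ]
    show _ = φ' k (L (L.symm (q v)))
    rw [L.apply_symm_apply]
  · show v ∈ C ↔ L.symm (q v) 1 = 0
    rw [← hLW, L.apply_symm_apply, hmem]

/-- A torus. -/
theorem torus (d : Data p φ X A) {K : Subgroup P} (hAK : A ≤ K) (hp : PGen p K)
    (hm : Meet φ X A K) {g : P} (hg : g ∈ K) (hgX : g ∉ X) :
    ∃ h ∈ K, h ∈ X ∧ (∀ c ∈ fixS φ A, φ h c ∈ fixS φ A) ∧
      (∀ c ∈ fixS φ A, c ∉ fixS φ K → ∀ i : ℕ, 0 < i → i < Nat.card A - 1 →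
        φ (h ^ i) c - c ∉ fixS φ K) ∧
      ∀ c ∈ fixS φ A, c ∉ fixS φ K → ∀ c' ∈ fixS φ A, c' ∉ fixS φ K →
        ∃ i : ℕ, φ (h ^ i) c - c' ∈ fixS φ K := by
  classical
  obtain ⟨-, -, -, -, -, -, c₀, hc₀, hc₀Z⟩ := basic d hAK hp hm hg hgX
  obtain ⟨F, iF, iFin, hcard, ψ, ρ, -, hψ0, hψ, hψC⟩ := natural d hAK hp hm hg hgX
  obtain ⟨μ, hμ⟩ := IsCyclic.exists_generator (α := Fˣ)
  have hμ0 : (μ : F) ≠ 0 := μ.ne_zero
  set h : K := ρ.symm (dm (μ : F) hμ0) with hh
  have hstep : ∀ v, ψ (φ (h : P) v) = ![(μ : F) * ψ v 0, (μ : F)⁻¹ * ψ v 1] := fun v => by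
    rw [hψ, hh, ρ.apply_symm_apply, dm_coe]
    funext i
    fin_cases i <;> simp [Matrix.mulVec, dotProduct, Fin.sum_univ_two]
  have hC : ∀ c ∈ fixS φ A, φ (h : P) c ∈ fixS φ A := fun c hc => by
    rw [hψC, hstep, Matrix.cons_val_one, Matrix.cons_val_zero, (hψC c).1 hc, mul_zero]
  have hpow : ∀ (i : ℕ) c, c ∈ fixS φ A →
      φ ((h : P) ^ i) c ∈ fixS φ A ∧ ψ (φ ((h : P) ^ i) c) 0 = (μ : F) ^ i * ψ c 0 := by
    intro i c hc
    induction i with
    | zero => rw [pow_zero, one_app, pow_zero, one_mul]; exact ⟨hc, rfl⟩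
    | succ i ih =>
      rw [pow_succ', comp_app, hstep, Matrix.cons_val_zero, ih.2, pow_succ', mul_assoc]
      exact ⟨hC _ ih.1, rfl⟩
  have hz : ∀ c ∈ fixS φ A, (c ∈ fixS φ K ↔ ψ c 0 = 0) := fun c hc => by
    rw [← hψ0]
    refine ⟨fun e => by rw [e]; rfl, fun e => ?_⟩
    funext i
    fin_cases i
    · exact e
    · exact (hψC c).1 hc
  have hhX : (h : P) ∈ X := by
    by_contra hn
    have hd : c₀ ∉ fixS φ K := fun e => hc₀Z (by rw [e g hg]; exact e)
    refine hd ?_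
    have h1 := hm (h : P) h.2 hn c₀ hc₀ (hC c₀ hc₀)
    rw [hz _ (hC c₀ hc₀), hstep, Matrix.cons_val_zero, mul_eq_zero] at h1
    exact (hz c₀ hc₀).2 (h1.resolve_left hμ0)
  refine ⟨h, h.2, hhX, hC, fun c hc hcK i hi0 hi e => ?_, fun c hc hcK c' hc' hc'K => ?_⟩
  · obtain ⟨h1, h2⟩ := hpow i c hc
    rw [hz _ (sub_mem h1 hc), map_sub, Pi.sub_apply, h2, sub_eq_zero] at e
    have e1 : (μ : F) ^ i = 1 := mul_right_cancel₀ (fun e' => hcK ((hz c hc).2 e'))
      (e.trans (one_mul _).symm)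
    have e2 : μ ^ i = 1 := Units.ext (by rw [Units.val_pow_eq_pow_val, e1]; rfl)
    have e3 := orderOf_dvd_of_pow_eq_one e2
    rw [orderOf_eq_card_of_forall_mem_zpowers hμ, Nat.card_units, Nat.card_eq_fintype_card, hcard] at e3
    exact absurd (Nat.le_of_dvd hi0 e3) (not_le.2 hi)
  · have n0 : ψ c 0 ≠ 0 := fun e => hcK ((hz c hc).2 e)
    have n1 : ψ c' 0 ≠ 0 := fun e => hc'K ((hz c' hc').2 e)
    obtain ⟨i, hi⟩ := (mem_powers_iff_mem_zpowers (y := Units.mk0 _ n1 / Units.mk0 _ n0)).2 (hμ _)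
    refine ⟨i, ?_⟩
    obtain ⟨h1, h2⟩ := hpow i c hc
    rw [hz _ (sub_mem h1 hc'), map_sub, Pi.sub_apply, h2, sub_eq_zero]
    have h3 : (μ : F) ^ i = ψ c' 0 / ψ c 0 := by
      have := congrArg Units.val hi
      simpa using this
    rw [h3, div_mul_cancel₀ _ n0]

/-- The map `v ↦ g v - v`. -/
def sub1 (φ : P →* AddMonoid.End V) (g : P) : V →+ V :=
  AddMonoidHom.mk' (fun v => φ g v - v) fun a b => by simp only [map_add]; abel

theorem card_filter_mem (B : AddSubgroup V) [Fintype V] [DecidablePred (· ∈ B)] :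
    (Finset.univ.filter (· ∈ B)).card = Nat.card B := by
  rw [Nat.card_eq_fintype_card, Fintype.card_subtype]

theorem card_sup_le (C D : AddSubgroup V) : Nat.card ↥(C ⊔ D) ≤ Nat.card C * Nat.card D := by
  rw [← Nat.card_prod]
  refine Nat.card_le_card_of_surjective (fun z : C × D =>
    (⟨z.1 + z.2, add_mem (AddSubgroup.mem_sup_left z.1.2) (AddSubgroup.mem_sup_right z.2.2)⟩ : ↥(C ⊔ D))) ?_
  rintro ⟨v, hv⟩
  obtain ⟨c, hc, d', hd, e⟩ := AddSubgroup.mem_sup.1 hv
  exact ⟨(⟨c, hc⟩, ⟨d', hd⟩), Subtype.ext e⟩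

theorem card_sup_of_inf (C D : AddSubgroup V) (h : ∀ v ∈ C, v ∈ D → v = 0) :
    Nat.card ↥(C ⊔ D) = Nat.card C * Nat.card D := by
  refine le_antisymm (card_sup_le C D) ((card_mul_le C D).trans (le_of_eq ?_))
  rw [show C ⊓ D = ⊥ from (AddSubgroup.eq_bot_iff_forall _).2 fun v hv => h v hv.1 hv.2,
    AddSubgroup.card_bot, mul_one]

theorem card_range_mul (f : V →+ V) : Nat.card f.range * Nat.card f.ker = Nat.card V := by
  rw [AddSubgroup.card_eq_card_quotient_mul_card_addSubgroup f.ker,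
    Nat.card_congr (QuotientAddGroup.quotientKerEquivRange f).toEquiv]

/-- The main induction. -/
theorem meet_all (d : Data p φ X A) : ∀ K : Subgroup P, A ≤ K → PGen p K → ¬ K ≤ X → Meet φ X A K := by
  classical
  haveI := Fact.mk d.prime
  haveI := Fintype.ofFinite V
  haveI := Fintype.ofFinite P
  suffices H : ∀ (n : ℕ) (K : Subgroup P), Nat.card K ≤ n → A ≤ K → PGen p K → ¬ K ≤ X →
      Meet φ X A K from fun K => H _ K le_rfl
  intro n
  induction n with
  | zero => exact fun K h => absurd h (not_le.2 Nat.card_pos)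
  | succ n ih =>
  intro K hcardK hAK hpK hKX
  have IH : ∀ L : Subgroup P, L ≤ K → L ≠ K → A ≤ L → PGen p L → ¬ L ≤ X → Meet φ X A L := by
    intro L hLK hne
    refine ih L ?_
    by_contra hc
    exact hne (Subgroup.eq_of_le_of_card_ge hLK (hcardK.trans (not_le.1 hc)))
  by_contra hcon
  simp only [Meet, not_forall] at hcon
  obtain ⟨g₀, hg₀, hg₀X, c₀, hc₀, hgc, hgcF⟩ := hcon
  set C := fixS φ A with hCdef
  set F := fixS φ K with hFdef
  set q := Nat.card A with hqdef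
  obtain ⟨a₁, ha₁, ha₁1⟩ : ∃ a ∈ A, a ≠ 1 := by
    by_contra h
    push Not at h
    exact d.ne ((Subgroup.eq_bot_iff_forall _).2 h)
  have hq1 : 1 < q := by
    haveI : Nontrivial A := (Subgroup.nontrivial_iff_ne_bot A).2 d.ne
    exact Finite.one_lt_card
  have hpairle : ∀ k ∈ K, pair A k ≤ K := fun k hk => sup_le hAK (by
    rintro _ ⟨a, ha, rfl⟩
    exact mul_mem (mul_mem hk (hAK ha)) (inv_mem hk))
  have hFle : ∀ k ∈ K, F ≤ fixS φ (pair A k) := fun k hk => fixS_anti (hpairle k hk)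
  have hFC : F ≤ C := fixS_anti hAK
  -- proper pairs
  have hproper : ∀ k ∈ K, k ∉ X → pair A k ≠ K → Meet φ X A (pair A k) ∧
      (∃ x ∈ pair A k, x ∉ X ∧ cj A x = cj A k) ∧
      Nat.card C = q * Nat.card (fixS φ (pair A k)) := by
    intro k hk hkX hne
    have hm := IH _ (hpairle k hk) hne le_sup_left (pgen_pair d k) (pair_not_le d hkX)
    obtain ⟨-, x, hx, hxX, hxk⟩ := exists_of_cj_le d le_sup_left (pgen_pair d k) hm hkX le_sup_right
    obtain ⟨-, hc, -⟩ := basic d le_sup_left (pgen_pair d k) hm hx hxX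
    exact ⟨hm, ⟨x, hx, hxX, hxk⟩, hc⟩
  have hg₀mem : φ g₀ c₀ ∈ fixS φ (pair A g₀) := by
    rw [fix_pair]; exact AddSubgroup.mem_inf.2 ⟨hgc, c₀, hc₀, rfl⟩
  have hg₀ne : pair A g₀ ≠ K := fun h => hgcF (by
    show φ g₀ c₀ ∈ fixS φ K
    rw [← h]; exact hg₀mem)
  obtain ⟨-, ⟨g, hgL, hgX, hgg₀⟩, hC0⟩ := hproper g₀ hg₀ hg₀X hg₀ne
  have hLg : pair A g = pair A g₀ := by rw [pair, hgg₀]; rfl
  rw [← hLg] at hgL hg₀ne hC0 hg₀mem
  have hgK : g ∈ K := (hLg ▸ hpairle g₀ hg₀) hgL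
  set L := pair A g with hLdef
  set Z := fixS φ L with hZdef
  have hFZ : Nat.card F < Nat.card Z := by
    refine lt_of_le_of_ne (AddSubgroup.card_le_of_le (hFle g hgK)) fun h => hgcF ?_
    have hall : ∀ z : Z, (z : V) ∈ F := by
      have hb : Function.Bijective (fun f : F => (⟨f, hFle g hgK f.2⟩ : Z)) :=
        (Nat.bijective_iff_injective_and_card _).2 ⟨fun f f' e => Subtype.ext (congrArg Subtype.val e :), h⟩
      intro z
      obtain ⟨f, rfl⟩ := hb.2 z
      exact f.2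
    exact hall ⟨_, hg₀mem⟩
  have hne : ∀ k ∈ K, k ∉ X → pair A k ≠ K := by
    intro k hk hkX h
    have h1 := card_le_pair d k
    rw [h, hC0] at h1
    exact absurd (Nat.le_of_mul_le_mul_left h1 (zero_lt_one.trans hq1)) (not_le.2 hFZ)
  have hcardZ : ∀ k ∈ K, k ∉ X → Nat.card (fixS φ (pair A k)) = Nat.card Z := fun k hk hkX =>
    Nat.eq_of_mul_eq_mul_left (zero_lt_one.trans hq1)
      (((hproper k hk hkX (hne k hk hkX)).2.2).symm.trans hC0)
  have hexZ : ∀ k ∈ K, k ∉ X → ∃ v ∈ fixS φ (pair A k), v ∉ F := by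
    intro k hk hkX
    by_contra h
    push Not at h
    exact absurd ((hcardZ k hk hkX).ge.trans (AddSubgroup.card_le_of_le h)) (not_le.2 hFZ)
  have huniq : ∀ k ∈ K, k ∉ X → ∀ j ∈ K, j ∉ X → ∀ v ∈ fixS φ (pair A k),
      v ∈ fixS φ (pair A j) → v ∉ F → pair A k = pair A j := by
    intro k hk hkX j hj hjX v hvk hvj hvF
    let St : Subgroup P :=
      { carrier := {g | φ g v = v}
        one_mem' := one_app φ v
        mul_mem' := fun {g h} (hg : _ = _) (hh : _ = _) => show _ = _ by rw [comp_app, hh, hg]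
        inv_mem' := fun {g} (hg : _ = _) => show _ = _ by
          conv_lhs => rw [← hg]
          exact inv_app φ _ _ }
    set S := pair A k ⊔ pair A j with hS
    have hle : S ≤ K := sup_le (hpairle k hk) (hpairle j hj)
    have hst : S ≤ St := sup_le (fun x hx => hvk x hx) (fun x hx => hvj x hx)
    have hSne : S ≠ K := fun h => hvF fun x hx => hst (h ▸ hx)
    have hSp : PGen p S := sup_le
      ((pgen_pair d k).trans (Subgroup.closure_mono fun t ht => ⟨Subgroup.mem_sup_left ht.1, ht.2⟩))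
      ((pgen_pair d j).trans (Subgroup.closure_mono fun t ht => ⟨Subgroup.mem_sup_right ht.1, ht.2⟩))
    have hAS : A ≤ S := (le_sup_left : A ≤ pair A k).trans le_sup_left
    have hm := IH S hle hSne hAS hSp fun h => pair_not_le d hkX (le_sup_left.trans h)
    rw [(exists_of_cj_le d hAS hSp hm hkX ((le_sup_right : cj A k ≤ pair A k).trans le_sup_left)).1,
      (exists_of_cj_le d hAS hSp hm hjX ((le_sup_right : cj A j ≤ pair A j).trans le_sup_right)).1]
  -- bad vectors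
  let Bad : V → Prop := fun v => v ∉ F ∧ ∃ h ∈ K, ∃ k ∈ K, k ∉ X ∧ φ h v ∈ fixS φ (pair A k)
  have hFinv : ∀ m ∈ K, ∀ v, φ m v ∈ F → v ∈ F := fun m hm v h => by
    rw [← inv_app φ m v, h m⁻¹ (inv_mem hm)]
    exact h
  have bad_inv : ∀ m ∈ K, ∀ v, Bad v → Bad (φ m v) := by
    rintro m hm v ⟨hv, h, hh, k, hk, hkX, e⟩
    refine ⟨fun hF => hv (hFinv m hm v hF), h * m⁻¹, mul_mem hh (inv_mem hm), k, hk, hkX, ?_⟩
    rwa [comp_app, inv_app]
  have bad_add : ∀ v, ∀ f ∈ F, Bad (v + f) → Bad v := by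
    rintro v f hf ⟨hv, h, hh, k, hk, hkX, e⟩
    refine ⟨fun hvF => hv (add_mem hvF hf), h, hh, k, hk, hkX, ?_⟩
    rw [map_add, hf h hh] at e
    rw [show φ h v = (φ h v + f) - f by abel]
    exact sub_mem e (hFle k hk hf)
  have bad_of_mem : ∀ k ∈ K, k ∉ X → ∀ v ∈ fixS φ (pair A k), v ∉ F → Bad v :=
    fun k hk hkX v hv hvF => ⟨hvF, 1, one_mem _, k, hk, hkX, by rwa [one_app]⟩
  have bad_C : ∀ c ∈ C, Bad c → ∃ j ∈ K, j ∉ X ∧ c ∈ fixS φ (pair A j) := by
    rintro c hc ⟨-, h, hh, k, hk, hkX, e⟩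
    have key : ∀ l ∈ pair A k, h⁻¹ * l * h ∉ X → ∃ j ∈ K, j ∉ X ∧ c ∈ fixS φ (pair A j) := by
      intro l hl hlX
      refine ⟨_, mul_mem (mul_mem (inv_mem hh) (hpairle k hk hl)) hh, hlX, ?_⟩
      rw [fix_pair]
      refine AddSubgroup.mem_inf.2 ⟨hc, c, hc, ?_⟩
      show φ (h⁻¹ * l * h) c = c
      rw [comp_app, comp_app, e l hl, inv_app]
    by_cases hhX : h ∈ X
    · refine key (k * a₁ * k⁻¹) (Subgroup.mem_sup_right (mem_cj A k ha₁)) fun h1 => hkX ?_
      refine d.ti k a₁ ha₁1 ⟨1, by rw [pow_one, pow_eq_one d ha₁]⟩ (d.le ha₁) ?_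
      have := mul_mem (mul_mem hhX h1) (inv_mem hhX)
      rwa [show h * (h⁻¹ * (k * a₁ * k⁻¹) * h) * h⁻¹ = k * a₁ * k⁻¹ by group] at this
    · exact key a₁ (Subgroup.mem_sup_left ha₁) (conj_not_mem d ha₁ ha₁1 hhX)
  have hW0 : ∀ a ∈ A, ∀ v, ∀ k ∈ K, k ∉ X →
      φ a v - v ∈ fixS φ (pair A k) → φ a v - v = 0 := by
    intro a ha v k hk hkX h
    obtain ⟨hm, ⟨x, hx, hxX, -⟩, -⟩ := hproper k hk hkX (hne k hk hkX)
    obtain ⟨-, -, -, hjoin, -⟩ := basic d le_sup_left (pgen_pair d k) hm hx hxX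
    obtain ⟨c, hc, c', hc', rfl⟩ := hjoin v
    have e : φ a (c + φ x c') - (c + φ x c') = φ a (φ x c') - φ x c' := by
      rw [map_add, hc a ha]; abel
    rw [e] at h ⊢
    by_cases hz : φ x c' ∈ fixS φ (pair A k)
    · rw [hz a (Subgroup.mem_sup_left ha), sub_self]
    · rw [inj_of_meet d le_sup_left hm hx hxX ha hc' hz h, one_app, sub_self]
  have good : ∀ a ∈ A, ∀ v, ∀ f ∈ F, ¬ Bad (φ a v - v + f) := by
    intro a ha v f hf hb
    have hb' := bad_add _ f hf hb
    obtain ⟨j, hj, hjX, hmem⟩ := bad_C _ (quad d a ha v) hb'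
    exact hb'.1 (by rw [hW0 a ha v j hj hjX hmem]; exact zero_mem _)
  -- the pair `L`
  obtain ⟨hmL, -, -⟩ := hproper g hgK hgX (hLdef ▸ hg₀ne)
  obtain ⟨-, hCZ, hV, hjoin, hsurj, hcov, -⟩ := basic d le_sup_left (pgen_pair d g) hmL hgL hgX
  -- images of `a - 1`
  let W : P → AddSubgroup V := fun a => (sub1 φ a).range
  have hWmem : ∀ a v, v ∈ W a ↔ ∃ u, φ a u - u = v := fun a v => Iff.rfl
  have hWcard : ∀ a ∈ A, a ≠ 1 → Nat.card (W a) = q := by
    intro a ha ha1
    have hker : (sub1 φ a).ker = C := by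
      refine le_antisymm (fun v hv => ?_) fun v hv => ?_
      · have hv' : φ a v - v = 0 := hv
        obtain ⟨c, hc, c', hc', rfl⟩ := hjoin v
        rw [map_add, hc a ha, add_sub_add_left_eq_sub] at hv'
        by_cases hz : φ g c' ∈ Z
        · exact add_mem hc (fixS_anti (le_sup_left : A ≤ L) hz)
        · exact absurd (inj_of_meet d le_sup_left hmL hgL hgX ha hc' hz (by rw [hv']; exact zero_mem _)) ha1
      · show φ a v - v = 0
        rw [hv a ha, sub_self]
    have h := card_range_mul (sub1 φ a)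
    rw [hker, hV] at h
    exact Nat.eq_of_mul_eq_mul_right Nat.card_pos h
  have hWC : ∀ a ∈ A, W a ≤ C := by
    rintro a ha _ ⟨u, rfl⟩
    exact quad d a ha u
  have hWZ : ∀ a ∈ A, ∀ k ∈ K, k ∉ X → ∀ v ∈ W a, v ∈ fixS φ (pair A k) → v = 0 := by
    rintro a ha k hk hkX _ ⟨u, rfl⟩ h
    exact hW0 a ha u k hk hkX h
  have hWgood : ∀ a ∈ A, ∀ v ∈ W a ⊔ F, ¬ Bad v := by
    intro a ha v hv
    obtain ⟨_, ⟨u, rfl⟩, f, hf, rfl⟩ := AddSubgroup.mem_sup.1 hv
    exact good a ha u f hf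
  have hWFcard : ∀ a ∈ A, a ≠ 1 → Nat.card ↥(W a ⊔ F) = q * Nat.card F := by
    intro a ha ha1
    rw [card_sup_of_inf _ _ (fun v h1 h2 => hWZ a ha g hgK hgX v h1 (hFle g hgK h2)), hWcard a ha ha1]
  -- the family of fixed point groups
  set OUT := Finset.univ.filter fun k => k ∈ K ∧ k ∉ X with hOUT
  set Zs := OUT.image fun k => fixS φ (pair A k) with hZs
  have hZs' : ∀ Y ∈ Zs, ∃ k ∈ K, k ∉ X ∧ fixS φ (pair A k) = Y := by
    intro Y hY
    obtain ⟨k, hk, rfl⟩ := Finset.mem_image.1 hY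
    exact ⟨k, (Finset.mem_filter.1 hk).2.1, (Finset.mem_filter.1 hk).2.2, rfl⟩
  have hZsmem : ∀ k ∈ K, k ∉ X → fixS φ (pair A k) ∈ Zs := fun k hk hkX =>
    Finset.mem_image.2 ⟨k, Finset.mem_filter.2 ⟨Finset.mem_univ _, hk, hkX⟩, rfl⟩
  let toF : AddSubgroup V → Finset V := fun B => Finset.univ.filter (· ∈ B)
  have htoF : ∀ B : AddSubgroup V, (toF B).card = Nat.card B := fun B => card_filter_mem B
  have hmemF : ∀ (B : AddSubgroup V) v, v ∈ toF B ↔ v ∈ B := fun B v => by simp [toF]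
  set UB := Zs.biUnion fun Y => toF Y \ toF F with hUB
  have hUBcard : UB.card = Zs.card * (Nat.card Z - Nat.card F) := by
    rw [hUB, Finset.card_biUnion, Finset.sum_congr rfl (fun Y hY => ?_), Finset.sum_const, smul_eq_mul]
    · obtain ⟨k, hk, hkX, rfl⟩ := hZs' Y hY
      rw [Finset.card_sdiff_of_subset (fun v hv => (hmemF _ v).2 (hFle k hk ((hmemF _ v).1 hv))), htoF, htoF,
        hcardZ k hk hkX]
    · intro Y hY Y' hY' hne'
      rw [Function.onFun, Finset.disjoint_left]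
      intro v hv hv'
      obtain ⟨hvY, hvF⟩ := Finset.mem_sdiff.1 hv
      obtain ⟨k, hk, hkX, rfl⟩ := hZs' Y hY
      obtain ⟨j, hj, hjX, rfl⟩ := hZs' Y' hY'
      exact hne' (by rw [huniq k hk hkX j hj hjX v ((hmemF _ v).1 hvY)
        ((hmemF _ v).1 (Finset.mem_sdiff.1 hv').1) fun h => hvF ((hmemF _ v).2 h)])
  have hUBbad : ∀ v ∈ UB, v ∈ C ∧ Bad v := by
    intro v hv
    obtain ⟨Y, hY, hv⟩ := Finset.mem_biUnion.1 hv
    obtain ⟨hvY, hvF⟩ := Finset.mem_sdiff.1 hv
    obtain ⟨k, hk, hkX, rfl⟩ := hZs' Y hY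
    exact ⟨fun a ha => (hmemF _ v).1 hvY a (Subgroup.mem_sup_left ha),
      bad_of_mem k hk hkX v ((hmemF _ v).1 hvY) fun h => hvF ((hmemF _ v).2 h)⟩
  -- few fixed point groups
  have hsmall : Zs.card < q := by
    by_contra hbig
    rw [not_lt] at hbig
    have hUeq : ∀ a ∈ A, a ≠ 1 → ∀ c ∈ C, ¬ Bad c → c ∈ W a ⊔ F := by
      intro a ha ha1 c hc hcb
      have hdis : Disjoint UB (toF (W a ⊔ F)) := Finset.disjoint_left.2 fun v hv hv' =>
        hWgood a ha v ((hmemF _ v).1 hv') (hUBbad v hv).2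
      have hsub : UB ∪ toF (W a ⊔ F) ⊆ toF C := fun v hv => by
        rcases Finset.mem_union.1 hv with h | h
        · exact (hmemF _ v).2 (hUBbad v h).1
        · exact (hmemF _ v).2 (sup_le (hWC a ha) hFC ((hmemF _ v).1 h))
      have hcard : (toF C).card ≤ (UB ∪ toF (W a ⊔ F)).card := by
        rw [Finset.card_union_of_disjoint hdis, hUBcard, htoF, htoF, hWFcard a ha ha1, hC0]
        calc q * Nat.card Z = q * (Nat.card Z - Nat.card F) + q * Nat.card F := by
              rw [← Nat.mul_add, Nat.sub_add_cancel hFZ.le]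
          _ ≤ _ := Nat.add_le_add_right (Nat.mul_le_mul_right _ hbig) _
      have := (Finset.eq_of_subset_of_card_le hsub hcard).ge ((hmemF C c).2 hc)
      rcases Finset.mem_union.1 this with h | h
      · exact absurd (hUBbad c h).2 hcb
      · exact (hmemF _ c).1 h
    set U := W a₁ ⊔ F with hU
    have hUC : U ≤ C := sup_le (hWC a₁ ha₁) hFC
    have hWU : ∀ a ∈ A, ∀ v, φ a v - v ∈ U := fun a ha v => by
      refine hUeq a₁ ha₁ ha₁1 _ (quad d a ha v) fun hb => good a ha v 0 (zero_mem _) ?_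
      rwa [add_zero]
    have hUZ : ∀ k ∈ K, k ∉ X → ∀ u ∈ U, u ∈ fixS φ (pair A k) → u ∈ F := by
      intro k hk hkX u hu hu'
      by_contra hn
      exact hWgood a₁ ha₁ u hu (bad_of_mem k hk hkX u hu' hn)
    set Q := U ⊔ U.map (φ g) with hQdef
    have hQgood : ∀ v ∈ Q, ¬ Bad v := by
      intro v hv
      obtain ⟨u, hu, _, ⟨u', hu', rfl⟩, rfl⟩ := AddSubgroup.mem_sup.1 hv
      by_cases hz : φ g u' ∈ Z
      · have hF' : φ g u' ∈ F := by
          by_contra hn
          refine hWgood a₁ ha₁ u' hu' ?_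
          have := bad_inv g⁻¹ (inv_mem hgK) _ (bad_of_mem g hgK hgX _ hz hn)
          rwa [inv_app] at this
        exact fun hb => hWgood a₁ ha₁ u hu (bad_add u _ hF' hb)
      · obtain ⟨a, ha, h⟩ := hsurj u' (hUC hu') hz u (hUC hu)
        have hF' : φ a (φ g u') - φ g u' - u ∈ F :=
          hUZ g hgK hgX _ (sub_mem (hWU a ha _) hu) h
        intro hb
        change Bad (u + φ g u') at hb
        have e : u + φ g u' = φ (a * g) u' + -(φ a (φ g u') - φ g u' - u) := by
          rw [comp_app]; abel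
        rw [e] at hb
        have hb' := bad_inv (a * g)⁻¹ (inv_mem (mul_mem (hAK ha) hgK)) _ (bad_add _ _ (neg_mem hF') hb)
        rw [inv_app] at hb'
        exact hWgood a₁ ha₁ u' hu' hb'
    have hcov' : ∀ v, ¬ Bad v → v ∈ U ∨ ∃ a ∈ A, ∃ u ∈ U, v = φ (a * g) u := by
      intro v hv
      rcases hcov v with h | ⟨a, ha, c, hc, rfl⟩
      · exact Or.inl (hUeq a₁ ha₁ ha₁1 v h hv)
      · exact Or.inr ⟨a, ha, c, hUeq a₁ ha₁ ha₁1 c hc
          (fun hb => hv (bad_inv _ (mul_mem (hAK ha) hgK) c hb)), rfl⟩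
    have hQmem : ∀ v, ¬ Bad v → v ∈ Q := by
      intro v hv
      rcases hcov' v hv with h | ⟨a, ha, u, hu, rfl⟩
      · exact AddSubgroup.mem_sup_left h
      · rw [comp_app, ← sub_add_cancel (φ a (φ g u)) (φ g u)]
        exact add_mem (AddSubgroup.mem_sup_left (hWU a ha _)) (AddSubgroup.mem_sup_right ⟨u, hu, rfl⟩)
    have hne' : ∃ u ∈ U, u ∉ F := by
      by_contra h
      push Not at h
      have h1 := (hWFcard a₁ ha₁ ha₁1).ge.trans (AddSubgroup.card_le_of_le h)
      exact absurd h1 (not_le.2 ((lt_mul_iff_one_lt_left Nat.card_pos).2 hq1))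
    obtain ⟨-, -, -, -, hpair⟩ := axes d (W := Q) (U := U) (F := F) hAK hpK
      (fun k hk v hv => hQmem _ fun hb => hQgood v hv (by
        have := bad_inv k⁻¹ (inv_mem hk) _ hb
        rwa [inv_app] at this))
      (fun a ha v => AddSubgroup.mem_sup_left (hWU a ha v)) le_sup_left
      (fun a ha v hv => hUC hv a ha) (fun a ha v _ => hWU a ha v) le_sup_right le_rfl
      (fun k hk hkX u hu hku => hUZ k hk hkX _ hku (by
        rw [fix_pair]
        exact AddSubgroup.mem_inf.2 ⟨hUC hku, u, hUC hu, rfl⟩))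
      hne' hgK hgX (fun v hv => hcov' v (hQgood v hv))
    exact hg₀ne hpair
  -- at most two fixed point groups
  have htwo : Zs.card ≤ 2 := by
    by_contra hbig
    rw [not_le] at hbig
    obtain ⟨Y, hY, hYZ⟩ : ∃ Y ∈ Zs, Y ≠ Z := by
      by_contra h
      push Not at h
      have : Zs ⊆ {Z} := fun Y hY => Finset.mem_singleton.2 (h Y hY)
      have := Finset.card_le_card this
      rw [Finset.card_singleton] at this
      omega
    obtain ⟨j, hj, hjX, rfl⟩ := hZs' Y hY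
    obtain ⟨h, hhL, hhX, hhC, hh1, hh2⟩ := torus d le_sup_left (pgen_pair d g) hmL hgL hgX
    have hhK : h ∈ K := hpairle g hgK hhL
    have hhC' : ∀ i c, c ∈ C → φ (h ^ i) c ∈ C := by
      intro i c hc
      induction i with
      | zero => rwa [pow_zero, one_app]
      | succ i ih' => rw [pow_succ', comp_app]; exact hhC _ ih'
    have hnotX : ∀ i : ℕ, h ^ i * j ∉ X := fun i hX => hjX (by
      simpa using mul_mem (inv_mem (pow_mem hhX i)) hX)
    have himg : ∀ i : ℕ, ∀ v, v ∈ fixS φ (pair A (h ^ i * j)) → φ (h ^ i)⁻¹ v ∈ fixS φ (pair A j) := by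
      intro i v hv
      rw [fix_pair] at hv ⊢
      obtain ⟨h1, c, hc, e⟩ := AddSubgroup.mem_inf.1 hv
      change φ (h ^ i * j) c = v at e
      have e' : φ (h ^ i)⁻¹ v = φ j c := by rw [← e, comp_app, inv_app]
      refine AddSubgroup.mem_inf.2 ⟨?_, c, hc, e'.symm⟩
      obtain ⟨i', hi'⟩ : ∃ i' : ℕ, (h ^ i)⁻¹ = h ^ i' := by
        have hmem : (h ^ i)⁻¹ ∈ Subgroup.zpowers h := inv_mem (Subgroup.npow_mem_zpowers h i)
        obtain ⟨i', hi'⟩ := (mem_powers_iff_mem_zpowers (x := h)).2 hmem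
        exact ⟨i', hi'.symm⟩
      rw [hi']
      exact hhC' i' v h1
    -- some power stabilizes the second group
    obtain ⟨e₀, he₀, he₁, hez⟩ : ∃ i : ℕ, 0 < i ∧ i < q - 1 ∧
        ∃ z ∈ fixS φ (pair A j), z ∉ F ∧ φ (h ^ i) z ∈ fixS φ (pair A j) := by
      by_contra hno
      push Not at hno
      let Ys := (Finset.range (q - 1)).image fun i => fixS φ (pair A (h ^ i * j))
      have hinj : Set.InjOn (fun i => fixS φ (pair A (h ^ i * j))) (Finset.range (q - 1) : Set ℕ) := by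
        have key : ∀ i i' : ℕ, i < i' → i' < q - 1 →
            fixS φ (pair A (h ^ i * j)) ≠ fixS φ (pair A (h ^ i' * j)) := by
          intro i i' hlt hlt' e
          obtain ⟨v, hv, hvF⟩ := hexZ _ (mul_mem (pow_mem hhK i') hj) (hnotX i')
          have h1 := himg i' v hv
          have h2 := himg i v (e ▸ hv)
          refine hno (i' - i) (by omega) (by omega) _ h1
            (fun hF' => hvF (hFinv _ (inv_mem (pow_mem hhK i')) v hF')) ?_
          rw [← comp_app]
          obtain ⟨k, rfl⟩ := Nat.exists_eq_add_of_le hlt.le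
          rwa [show h ^ (i + k - i) * (h ^ (i + k))⁻¹ = (h ^ i)⁻¹ by
            rw [Nat.add_sub_cancel_left, pow_add]; group]
        intro i hi i' hi' e
        rw [Finset.mem_coe, Finset.mem_range] at hi hi'
        rcases lt_trichotomy i i' with hlt | hlt | hlt
        · exact absurd e (key i i' hlt hi')
        · exact hlt
        · exact absurd e.symm (key i' i hlt hi)
      have hZnot : Z ∉ Ys := by
        intro hmem
        obtain ⟨i, -, e⟩ := Finset.mem_image.1 hmem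
        obtain ⟨v, hv, hvF⟩ := hexZ _ (mul_mem (pow_mem hhK i) hj) (hnotX i)
        have h1 := himg i v hv
        have hvZ : v ∈ Z := e ▸ hv
        rw [hvZ _ (inv_mem (pow_mem hhL i))] at h1
        exact hYZ (by rw [huniq j hj hjX g hgK hgX v h1 hvZ hvF])
      have h1 : insert Z Ys ⊆ Zs := by
        intro Y' hY'
        rcases Finset.mem_insert.1 hY' with rfl | h'
        · exact hZsmem g hgK hgX
        · obtain ⟨i, -, rfl⟩ := Finset.mem_image.1 h'
          exact hZsmem _ (mul_mem (pow_mem hhK i) hj) (hnotX i)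
      have h2 := Finset.card_le_card h1
      rw [Finset.card_insert_of_notMem hZnot, Finset.card_image_of_injOn hinj, Finset.card_range] at h2
      omega
    obtain ⟨z, hz, hzF, hze⟩ := hez
    let f1 : C →+ V := (sub1 φ h).comp C.subtype
    set U := f1.range with hU
    have hUmem : ∀ c ∈ C, φ h c - c ∈ U := fun c hc => ⟨⟨c, hc⟩, rfl⟩
    have hUC : U ≤ C := by
      rintro _ ⟨c, rfl⟩
      exact sub_mem (hhC _ c.2) c.2
    have hUpow : ∀ (i : ℕ), ∀ c ∈ C, φ (h ^ i) c - c ∈ U := by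
      intro i c hc
      induction i with
      | zero => rw [pow_zero, one_app, sub_self]; exact zero_mem _
      | succ i ih' =>
        rw [pow_succ', comp_app, ← sub_add_sub_cancel _ (φ (h ^ i) c) c]
        exact add_mem (hUmem _ (hhC' i c hc)) ih'
    have hZC : Z ≤ C := fixS_anti le_sup_left
    have hq3 : 1 < q - 1 := by omega
    have hker : ∀ c ∈ C, φ h c - c ∈ Z → c ∈ Z := fun c hc hcz => by
      by_contra hn
      have := hh1 c hc hn 1 one_pos hq3
      rw [pow_one] at this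
      exact this hcz
    have hUZ : ∀ u ∈ U, u ∈ Z → u = 0 := by
      rintro _ ⟨c, rfl⟩ hcz
      have := hker _ c.2 hcz
      show φ h (c : V) - c = 0
      rw [this h hhL, sub_self]
    have hUcard : Nat.card U = q := by
      have e : Nat.card f1.ker = Nat.card Z := Nat.card_congr
        { toFun := fun c => ⟨((c : C) : V), hker _ (c : C).2 (by
            have hc' : φ h ((c : C) : V) - ((c : C) : V) = 0 := c.2
            rw [hc']
            exact zero_mem _)⟩
          invFun := fun z => ⟨⟨z, hZC z.2⟩, show φ h (z : V) - z = 0 by rw [z.2 h hhL, sub_self]⟩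
          left_inv := fun c => rfl
          right_inv := fun z => rfl }
      have h2 := AddSubgroup.card_eq_card_quotient_mul_card_addSubgroup f1.ker
      rw [Nat.card_congr (QuotientAddGroup.quotientKerEquivRange f1).toEquiv, e, hC0] at h2
      exact (Nat.eq_of_mul_eq_mul_right Nat.card_pos h2).symm
    have hzC : z ∈ C := fun a ha => hz a (Subgroup.mem_sup_left ha)
    have hzZ : z ∉ Z := fun h' => hYZ (by rw [huniq j hj hjX g hgK hgX z hz h' hzF])
    set u₀ := φ (h ^ e₀) z - z with hu₀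
    have hu₀U : u₀ ∈ U := hUpow _ z hzC
    have hu₀Z : u₀ ∉ Z := hh1 z hzC hzZ e₀ he₀ he₁
    have hu₀bad : Bad u₀ := bad_of_mem j hj hjX _ (sub_mem hze hz) fun hF' => hu₀Z (hFle g hgK hF')
    have hUbad : ∀ u ∈ U, u ≠ 0 → Bad u := by
      intro u hu hu0
      obtain ⟨i, hi⟩ := hh2 u₀ (hUC hu₀U) hu₀Z u (hUC hu) fun h' => hu0 (hUZ u hu h')
      have h1 : φ (h ^ i) u₀ - u ∈ U := by
        refine sub_mem ?_ hu
        rw [show φ (h ^ i) u₀ = (φ (h ^ i) u₀ - u₀) + u₀ by abel]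
        exact add_mem (hUpow i _ (hUC hu₀U)) hu₀U
      rw [← sub_eq_zero.1 (hUZ _ h1 hi)]
      exact bad_inv _ (pow_mem hhK i) _ hu₀bad
    set W₁ := W a₁
    have hWU : ∀ w ∈ W₁, w ∈ U ⊔ F → w = 0 := by
      intro w hw hw'
      obtain ⟨u, hu, f, hf, rfl⟩ := AddSubgroup.mem_sup.1 hw'
      by_cases hu0 : u = 0
      · rw [hu0, zero_add] at hw ⊢
        exact hWZ a₁ ha₁ g hgK hgX f hw (hFle g hgK hf)
      · exfalso
        refine hWgood a₁ ha₁ u ?_ (hUbad u hu hu0)
        rw [show u = (u + f) + -f by abel]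
        exact add_mem (AddSubgroup.mem_sup_left hw) (AddSubgroup.mem_sup_right (neg_mem hf))
    have hlow : q * (q * Nat.card F) ≤ Nat.card C := by
      rw [← hWcard a₁ ha₁ ha₁1]
      conv_lhs => arg 2; arg 1; rw [hWcard a₁ ha₁ ha₁1, ← hUcard]
      rw [← card_sup_of_inf U F (fun v h1 h2 => hUZ v h1 (hFle g hgK h2)), ← card_sup_of_inf W₁ _ hWU]
      exact AddSubgroup.card_le_of_le (sup_le (hWC a₁ ha₁) (sup_le hUC hFC))
    have hup : Nat.card Z * Nat.card Z ≤ Nat.card C * Nat.card F := by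
      have h1 := card_mul_le Z (fixS φ (pair A j))
      rw [hcardZ j hj hjX] at h1
      refine h1.trans (Nat.mul_le_mul (AddSubgroup.card_le_of_le (sup_le hZC
        (fixS_anti le_sup_left))) (AddSubgroup.card_le_of_le ?_))
      intro v hv
      by_contra hn
      exact hYZ (by rw [huniq j hj hjX g hgK hgX v hv.2 hv.1 hn])
    have hsize : Nat.card Z = q * Nat.card F := by
      rw [hC0] at hlow hup
      refine le_antisymm (Nat.le_of_mul_le_mul_left (hup.trans (le_of_eq ?_)) Nat.card_pos)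
        (Nat.le_of_mul_le_mul_left hlow (zero_lt_one.trans hq1))
      ring
    let G : ℕ → AddSubgroup V := fun i => W₁.map (φ (h ^ i)) ⊔ F
    have hGC : ∀ i, G i ≤ C := fun i => sup_le (by
      rintro _ ⟨w, hw, rfl⟩
      exact hhC' i w (hWC a₁ ha₁ hw)) hFC
    have hGgood : ∀ i, ∀ v ∈ G i, ¬ Bad v := by
      intro i v hv hb
      obtain ⟨_, ⟨w, hw, rfl⟩, f, hf, rfl⟩ := AddSubgroup.mem_sup.1 hv
      have hb' := bad_inv (h ^ i)⁻¹ (inv_mem (pow_mem hhK i)) _ (bad_add _ f hf hb)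
      change Bad (φ (h ^ i)⁻¹ (φ (h ^ i) w)) at hb'
      rw [inv_app] at hb'
      exact hWgood a₁ ha₁ w (AddSubgroup.mem_sup_left hw) hb'
    have hGcard : ∀ i, Nat.card (G i) = q * Nat.card F := by
      intro i
      rw [card_sup_of_inf _ _ ?_, card_map, hWcard a₁ ha₁ ha₁1]
      rintro _ ⟨w, hw, rfl⟩ h2
      rw [hWZ a₁ ha₁ g hgK hgX w hw (hFle g hgK (hFinv _ (pow_mem hhK i) w h2))]
      exact map_zero _
    have hGdis : ∀ i i', i < i' → i' < q - 1 → ∀ v ∈ G i, v ∈ G i' → v ∈ F := by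
      intro i i' hlt hlt' v hv hv'
      obtain ⟨_, ⟨w, hw, rfl⟩, f, hf, rfl⟩ := AddSubgroup.mem_sup.1 hv
      obtain ⟨_, ⟨w', hw', rfl⟩, f', hf', e⟩ := AddSubgroup.mem_sup.1 hv'
      change φ (h ^ i') w' + f' = φ (h ^ i) w + f at e
      have e' := congrArg (φ (h ^ i)⁻¹) e
      rw [map_add, map_add, inv_app, hf _ (inv_mem (pow_mem hhK i)), hf' _ (inv_mem (pow_mem hhK i)),
        ← comp_app, show (h ^ i)⁻¹ * h ^ i' = h ^ (i' - i) by
          rw [inv_mul_eq_iff_eq_mul, ← pow_add]; congr 1; omega] at e'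
      have h1 : w - w' ∈ U ⊔ F := by
        rw [show w - w' = (φ (h ^ (i' - i)) w' - w') + (f' - f) by
          rw [show w = φ (h ^ (i' - i)) w' + f' - f by rw [e', add_sub_cancel_right]]; abel]
        exact add_mem (AddSubgroup.mem_sup_left (hUpow _ w' (hWC a₁ ha₁ hw')))
          (AddSubgroup.mem_sup_right (sub_mem hf' hf))
      have h2 := sub_eq_zero.1 (hWU _ (sub_mem hw hw') h1)
      rw [← h2] at e'
      have h3 : w = 0 := by
        by_contra hw0
        refine hh1 w (hWC a₁ ha₁ hw) (fun hwZ => hw0 (hWZ a₁ ha₁ g hgK hgX w hw hwZ)) (i' - i)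
          (by omega) (by omega) ?_
        rw [show φ (h ^ (i' - i)) w - w = f - f' by
          rw [show φ (h ^ (i' - i)) w = w + f - f' by rw [← e', add_sub_cancel_right]]; abel]
        exact hFle g hgK (sub_mem hf hf')
      rw [h3]
      show φ (h ^ i) (0 : V) + f ∈ F
      rw [map_zero, zero_add]
      exact hf
    set GB := (Finset.range (q - 1)).biUnion fun i => toF (G i) \ toF F with hGB
    have hGBcard : GB.card = (q - 1) * (q * Nat.card F - Nat.card F) := by
      rw [hGB, Finset.card_biUnion, Finset.sum_congr rfl (fun i hi => ?_), Finset.sum_const, smul_eq_mul,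
        Finset.card_range]
      · rw [Finset.card_sdiff_of_subset (fun v hv => (hmemF _ v).2 (AddSubgroup.mem_sup_right
          ((hmemF _ v).1 hv))), htoF, htoF, hGcard]
      · intro i hi i' hi' hne'
        rw [Finset.mem_coe, Finset.mem_range] at hi hi'
        rw [Function.onFun, Finset.disjoint_left]
        intro v hv hv'
        obtain ⟨hvY, hvF⟩ := Finset.mem_sdiff.1 hv
        obtain ⟨hvY', -⟩ := Finset.mem_sdiff.1 hv'
        rcases lt_or_gt_of_ne hne' with hlt | hlt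
        · exact hvF ((hmemF _ v).2 (hGdis i i' hlt hi' v ((hmemF _ v).1 hvY) ((hmemF _ v).1 hvY')))
        · exact hvF ((hmemF _ v).2 (hGdis i' i hlt hi v ((hmemF _ v).1 hvY') ((hmemF _ v).1 hvY)))
    have hdis : Disjoint UB GB := Finset.disjoint_left.2 fun v hv hv' => by
      obtain ⟨i, -, hv'⟩ := Finset.mem_biUnion.1 hv'
      exact hGgood i v ((hmemF _ v).1 (Finset.mem_sdiff.1 hv').1) (hUBbad v hv).2
    have hsub : UB ∪ GB ⊆ toF C \ toF F := fun v hv => by
      refine Finset.mem_sdiff.2 ?_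
      rcases Finset.mem_union.1 hv with h' | h'
      · exact ⟨(hmemF _ v).2 (hUBbad v h').1, fun hF' => (hUBbad v h').2.1 ((hmemF _ v).1 hF')⟩
      · obtain ⟨i, -, h''⟩ := Finset.mem_biUnion.1 h'
        exact ⟨(hmemF _ v).2 (hGC i ((hmemF _ v).1 (Finset.mem_sdiff.1 h'').1)), (Finset.mem_sdiff.1 h'').2⟩
    have h1 := Finset.card_le_card hsub
    rw [Finset.card_union_of_disjoint hdis, hUBcard, hGBcard,
      Finset.card_sdiff_of_subset (fun v hv => (hmemF _ v).2 (hFC ((hmemF _ v).1 hv))), htoF, htoF, hC0,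
      hsize] at h1
    have hF0 : 0 < Nat.card F := Nat.card_pos
    set m := q - 1 with hm
    have hq' : q = m + 1 := by omega
    rw [hq'] at h1
    rw [show (m + 1) * Nat.card F - Nat.card F = m * Nat.card F by rw [Nat.succ_mul, Nat.add_sub_cancel],
      show (m + 1) * ((m + 1) * Nat.card F) - Nat.card F = (m + 2) * (m * Nat.card F) by
        rw [show (m + 1) * ((m + 1) * Nat.card F) = (m + 2) * (m * Nat.card F) + Nat.card F by ring,
          Nat.add_sub_cancel], ← Nat.add_mul] at h1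
    have := Nat.le_of_mul_le_mul_right h1 (Nat.mul_pos (by omega) hF0)
    omega
  -- conjugates in the maximal subgroup
  set AX := (Finset.univ.filter fun k => k ∈ K ∧ k ∈ X).image (cj A) with hAX
  set OC := OUT.image (cj A) with hOC
  have hOCcard : OC.card ≤ Zs.card * q := by
    have hrep : ∀ Y ∈ Zs, ∃ x ∈ K, x ∉ X ∧ x ∈ pair A x ∧ fixS φ (pair A x) = Y := by
      intro Y hY
      obtain ⟨k, hk, hkX, rfl⟩ := hZs' Y hY
      obtain ⟨-, ⟨x, hx, hxX, hxk⟩, -⟩ := hproper k hk hkX (hne k hk hkX)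
      have e : pair A x = pair A k := by rw [pair, hxk]; rfl
      exact ⟨x, hpairle k hk hx, hxX, e ▸ hx, by rw [e]⟩
    choose! rep hrK hrX hrL hrY using hrep
    have hsub : OC ⊆ Zs.biUnion fun Y =>
        (Finset.univ.filter (· ∈ A)).image fun a => cj A (a * rep Y) := by
      intro B hB
      obtain ⟨k, hk, rfl⟩ := Finset.mem_image.1 hB
      obtain ⟨-, hkK, hkX⟩ := Finset.mem_filter.1 hk
      have hY := hZsmem k hkK hkX
      refine Finset.mem_biUnion.2 ⟨_, hY, Finset.mem_image.2 ?_⟩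
      set Y := fixS φ (pair A k) with hYdef
      obtain ⟨v, hv, hvF⟩ := hexZ k hkK hkX
      have e := huniq k hkK hkX (rep Y) (hrK Y hY) (hrX Y hY) v hv (by rw [hrY Y hY]; exact hv) hvF
      obtain ⟨hmk, ⟨x, hx, hxX, hxk⟩, -⟩ := hproper k hkK hkX (hne k hkK hkX)
      have hrk : rep Y ∈ pair A k := by rw [e]; exact hrL Y hY
      obtain ⟨-, hu, -, hnorm, -⟩ := structure_of_meet d le_sup_left (pgen_pair d k) hmk
        (g := rep Y) hrk (hrX Y hY)
      obtain ⟨a, ha, hxa⟩ := hu x hx hxX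
      refine ⟨a, Finset.mem_filter.2 ⟨Finset.mem_univ _, ha⟩, ?_⟩
      rw [← hxk, show x = a * rep Y * ((a * rep Y)⁻¹ * x) by group, cj_mul _ (a * rep Y) _,
        hnorm _ (mul_mem (inv_mem (mul_mem (Subgroup.mem_sup_left ha) hrk)) hx) hxa]
      rfl
    refine (Finset.card_le_card hsub).trans (Finset.card_biUnion_le_card_mul _ _ q fun Y _ => ?_)
    refine Finset.card_image_le.trans (le_of_eq ?_)
    rw [hqdef, Nat.card_eq_fintype_card, Fintype.card_subtype]
  have hcount : ∀ R : Subgroup P, IsPGroup p R → A ≤ R → R ≤ K →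
      Nat.card R * AX.card ≤ Zs.card * q := by
    intro R hR hAR hRK
    have hRX := pgroup_le d hR hAR
    refine le_trans ?_ hOCcard
    rw [Nat.card_eq_fintype_card, ← Finset.card_univ, ← Finset.card_product]
    refine Finset.card_le_card_of_injOn (fun z => z.2.map (MulAut.conj ((z.1 : P) * g)).toMonoidHom) ?_ ?_
    · intro z hz
      obtain ⟨-, hz2⟩ := Finset.mem_product.1 (Finset.mem_coe.1 hz)
      obtain ⟨k, hk, hk'⟩ := Finset.mem_image.1 hz2
      obtain ⟨-, hkK, hkX⟩ := Finset.mem_filter.1 hk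
      refine Finset.mem_coe.2 (Finset.mem_image.2 ⟨(z.1 : P) * g * k, Finset.mem_filter.2
        ⟨Finset.mem_univ _, mul_mem (mul_mem (hRK z.1.2) hgK) hkK, fun h => hgX ?_⟩, ?_⟩)
      · simpa [mul_assoc] using mul_mem (mul_mem (inv_mem (hRX z.1.2)) h) (inv_mem hkX)
      · rw [cj_mul, hk']
    · intro z hz z' hz' e
      obtain ⟨-, hz2⟩ := Finset.mem_product.1 (Finset.mem_coe.1 hz)
      obtain ⟨-, hz2'⟩ := Finset.mem_product.1 (Finset.mem_coe.1 hz')
      obtain ⟨k, hk, hk'⟩ := Finset.mem_image.1 hz2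
      obtain ⟨k', hk₂, hk'₂⟩ := Finset.mem_image.1 hz2'
      simp only [← hk', ← hk'₂, ← cj_mul] at e
      have e1 := congrArg (Subgroup.map (MulAut.conj ((z'.1 : P) * g)⁻¹).toMonoidHom) e
      rw [← cj_mul, ← cj_mul, inv_mul_cancel_left] at e1
      have hy : ((z'.1 : P) * g)⁻¹ * ((z.1 : P) * g * k) ∈ X := mem_of_cj_le d (by
        rw [e1]
        rintro _ ⟨a, ha, rfl⟩
        have hk₂X := (Finset.mem_filter.1 hk₂).2.2
        exact mul_mem (mul_mem hk₂X (d.le ha)) (inv_mem hk₂X))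
      have hrr : z.1 = z'.1 := by
        by_contra hne'
        obtain ⟨n, hn⟩ := hR (z'.1⁻¹ * z.1)
        refine hgX (inv_inv g ▸ inv_mem (d.ti g⁻¹ ((z'.1 : P)⁻¹ * z.1) (fun h1 => hne'
          (Subtype.ext (inv_mul_eq_one.1 h1).symm)) ⟨n, congrArg Subtype.val hn⟩
          (mul_mem (inv_mem (hRX z'.1.2)) (hRX z.1.2)) ?_))
        have := mul_mem hy (inv_mem (Finset.mem_filter.1 hk).2.2)
        rw [inv_inv]
        simpa [mul_assoc] using this
      refine Prod.ext hrr ?_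
      have e2 := congrArg (Subgroup.map (MulAut.conj ((z'.1 : P) * g)⁻¹).toMonoidHom) e
      rw [hrr, ← cj_mul, ← cj_mul, inv_mul_cancel_left, inv_mul_cancel_left] at e2
      rw [← hk', ← hk'₂, e2]
  obtain ⟨S, hS⟩ := ((isPGroup_A d).comap_of_injective K.subtype K.subtype_injective).exists_le_sylow
  set R := (S : Subgroup K).map K.subtype with hRdef
  have hRp : IsPGroup p R := S.2.map _
  have hRK : R ≤ K := Subgroup.map_subtype_le _
  have hAR : A ≤ R := fun a ha => ⟨⟨a, hAK ha⟩, hS ha, rfl⟩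
  have hAXA : A ∈ AX := Finset.mem_image.2 ⟨1, Finset.mem_filter.2 ⟨Finset.mem_univ _, one_mem _,
    one_mem _⟩, cj_of_mem A (one_mem A)⟩
  have hnorm : ∀ k ∈ K, k ∈ X → cj A k = A := by
    intro k hk hkX
    by_contra hne'
    set B := cj A k
    have hBAX : B ∈ AX := Finset.mem_image.2 ⟨k, Finset.mem_filter.2 ⟨Finset.mem_univ _, hk, hkX⟩, rfl⟩
    have hZq : Zs.card * q ≤ 2 * q := Nat.mul_le_mul_right _ htwo
    have h2 : ({A, B} : Finset (Subgroup P)) ⊆ AX := by
      intro Y hY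
      rcases Finset.mem_insert.1 hY with rfl | h
      · exact hAXA
      · rw [Finset.mem_singleton.1 h]; exact hBAX
    have hc2 := Finset.card_le_card h2
    rw [Finset.card_pair (Ne.symm hne')] at hc2
    by_cases hnB : ∀ a ∈ A, B.map (MulAut.conj a).toMonoidHom = B
    · have hAB : A ≤ Subgroup.normalizer (B : Set P) := fun a ha => by
        refine Subgroup.mem_normalizer_iff.2 fun y => ⟨fun hy => hnB a ha ▸ ⟨y, hy, rfl⟩, fun hy => ?_⟩
        have h3 : a⁻¹ * (a * y * a⁻¹) * a⁻¹⁻¹ ∈ B := hnB a⁻¹ (inv_mem ha) ▸ ⟨_, hy, rfl⟩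
        simpa [mul_assoc] using h3
      have hsup : IsPGroup p ↥(A ⊔ B) := (isPGroup_A d).to_sup_of_normal_right'
        ((isPGroup_A d).map _) hAB
      have hle : A ⊔ B ≤ K := sup_le hAK (by
        rintro _ ⟨a, ha, rfl⟩
        exact mul_mem (mul_mem hk (hAK ha)) (inv_mem hk))
      have h3 := (hcount _ hsup le_sup_left hle).trans hZq
      have h4 : Nat.card ↥(A ⊔ B) * 2 ≤ q * 2 := by
        refine le_trans (Nat.mul_le_mul_left _ hc2) ?_
        rwa [mul_comm q 2]
      have h5 : A = A ⊔ B := Subgroup.eq_of_le_of_card_ge le_sup_left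
        (Nat.le_of_mul_le_mul_right h4 two_pos)
      exact hne' (Subgroup.eq_of_le_of_card_ge (h5 ▸ le_sup_right) (le_of_eq (card_cj A k).symm))
    · push Not at hnB
      obtain ⟨a, ha, hB'⟩ := hnB
      have hBa : B.map (MulAut.conj a).toMonoidHom = cj A (a * k) := (cj_mul A a k).symm
      have h3' : ({A, B, cj A (a * k)} : Finset (Subgroup P)) ⊆ AX := by
        intro Y hY
        rcases Finset.mem_insert.1 hY with rfl | h
        · exact hAXA
        rcases Finset.mem_insert.1 h with rfl | h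
        · exact hBAX
        · rw [Finset.mem_singleton.1 h]
          exact Finset.mem_image.2 ⟨a * k, Finset.mem_filter.2 ⟨Finset.mem_univ _,
            mul_mem (hAK ha) hk, mul_mem (d.le ha) hkX⟩, rfl⟩
      have hc3 := Finset.card_le_card h3'
      rw [Finset.card_insert_of_notMem, Finset.card_pair (fun h => hB' (hBa.trans h.symm))] at hc3
      · have h4 := (hcount _ hRp hAR hRK).trans hZq
        have h5 : q * 3 ≤ 2 * q := le_trans (Nat.mul_le_mul (Subgroup.card_le_of_le hAR) hc3) h4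
        omega
      · intro h
        rcases Finset.mem_insert.1 h with h | h
        · exact hne' h.symm
        · have h6 := congrArg (Subgroup.map (MulAut.conj a⁻¹).toMonoidHom) (Finset.mem_singleton.1 h)
          rw [← cj_mul, inv_mul_cancel_left] at h6
          exact hne' (h6.symm.trans (cj_of_mem A (inv_mem ha)))
  by_cases hone : ∀ Y ∈ Zs, Y = Z
  · have hZ1 : Zs.card = 1 := Finset.card_eq_one.2 ⟨Z, Finset.eq_singleton_iff_unique_mem.2
      ⟨hZsmem g hgK hgX, hone⟩⟩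
    have h1 := hcount R hRp hAR hRK
    rw [hZ1, one_mul] at h1
    have hRA : A = R := Subgroup.eq_of_le_of_card_ge hAR
      ((Nat.le_mul_of_pos_right _ (Finset.card_pos.2 ⟨A, hAXA⟩)).trans h1)
    refine hg₀ne (le_antisymm (hpairle g hgK) (hpK.trans ((Subgroup.closure_le _).2 ?_)))
    rintro t ⟨htK, n', hn⟩
    have htp : IsPGroup p (Subgroup.zpowers (⟨t, htK⟩ : K)) := by
      rintro ⟨_, i, rfl⟩
      refine ⟨n', Subtype.ext ?_⟩
      have h1 : (⟨t, htK⟩ : K) ^ p ^ n' = 1 := Subtype.ext hn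
      show ((⟨t, htK⟩ : K) ^ i) ^ p ^ n' = 1
      rw [← zpow_natCast, ← zpow_mul, mul_comm, zpow_mul, zpow_natCast, h1, one_zpow]
    obtain ⟨S', hS'⟩ := htp.exists_le_sylow
    obtain ⟨k, hk⟩ := MulAction.exists_smul_eq K S S'
    have ht : t ∈ cj A (k : P) := by
      have h2 := hS' (Subgroup.mem_zpowers _)
      rw [← hk] at h2
      obtain ⟨s, hs, e⟩ := h2
      have hsA : (s : P) ∈ A := by
        rw [hRA]
        exact ⟨s, hs, rfl⟩
      exact ⟨s, hsA, congrArg Subtype.val e⟩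
    by_cases hkX : (k : P) ∈ X
    · rw [hnorm _ k.2 hkX] at ht
      exact Subgroup.mem_sup_left ht
    · obtain ⟨v, hv, hvF⟩ := hexZ _ k.2 hkX
      have e : fixS φ (pair A (k : P)) = Z := hone _ (hZsmem _ k.2 hkX)
      have hvZ : v ∈ fixS φ (pair A g) := by
        show v ∈ Z
        rw [← e]; exact hv
      rw [hLdef, ← huniq _ k.2 hkX g hgK hgX v hv hvZ hvF]
      exact Subgroup.mem_sup_right ht
  · push Not at hone
    obtain ⟨Y, hY, hYne⟩ := hone
    obtain ⟨j, hj, hjX, rfl⟩ := hZs' Y hY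
    set k := g⁻¹ * j with hk
    have hkK : k ∈ K := mul_mem (inv_mem hgK) hj
    have hkX : k ∉ X := fun h => hYne (by
      have e : cj A j = cj A g := by
        rw [show j = g * k by rw [hk, mul_inv_cancel_left], cj_mul, hnorm k hkK h]
        rfl
      rw [show pair A j = pair A g by rw [pair, e]; rfl])
    obtain ⟨hmk, ⟨x, hx, hxX, -⟩, -⟩ := hproper k hkK hkX (hne k hkK hkX)
    set Lk := pair A k with hLk
    set L'' := Lk.map (MulAut.conj g).toMonoidHom with hL''
    obtain ⟨-, -, -, -, -, hcovk, -⟩ := basic d le_sup_left (pgen_pair d k) hmk hx hxX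
    obtain ⟨w, hw, hw0⟩ : ∃ w ∈ W a₁, w ≠ 0 := by
      by_contra h
      push Not at h
      have h1 := hWcard a₁ ha₁ ha₁1
      rw [show W a₁ = ⊥ from (AddSubgroup.eq_bot_iff_forall _).2 h, AddSubgroup.card_bot] at h1
      omega
    obtain ⟨e, he, c, hc, hce⟩ : ∃ e ∈ Lk, ∃ c ∈ C, φ g⁻¹ w = φ e c := by
      rcases hcovk (φ g⁻¹ w) with h | ⟨a, ha, c, hc, h⟩
      · exact ⟨1, one_mem _, _, h, (one_app φ _).symm⟩
      · exact ⟨_, mul_mem (Subgroup.mem_sup_left ha) hx, c, hc, h⟩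
    have heK : g * e ∈ K := mul_mem hgK (hpairle k hkK he)
    have hgeX : g * e ∈ X := by
      by_contra hn
      refine hw0 (hWZ a₁ ha₁ (g * e) heK hn w hw ?_)
      rw [fix_pair]
      refine AddSubgroup.mem_inf.2 ⟨hWC a₁ ha₁ hw, c, hc, ?_⟩
      show φ (g * e) c = w
      rw [comp_app, ← hce, app_inv]
    have hA'' : A ≤ L'' := by
      conv_lhs => rw [← hnorm _ heK hgeX]
      rintro _ ⟨a, ha, rfl⟩
      exact ⟨e * a * e⁻¹, mul_mem (mul_mem he (Subgroup.mem_sup_left ha)) (inv_mem he), by simp [mul_assoc]⟩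
    have hgL'' : cj A g ≤ L'' := Subgroup.map_mono le_sup_left
    have hjL'' : cj A j ≤ L'' := by
      rw [show j = g * k by rw [hk, mul_inv_cancel_left], cj_mul]
      exact Subgroup.map_mono le_sup_right
    have hL''K : L'' ≤ K := by
      rintro _ ⟨l, hl, rfl⟩
      exact mul_mem (mul_mem hgK (hpairle k hkK hl)) (inv_mem hgK)
    have hL''ne : L'' ≠ K := fun h => hne k hkK hkX
      (Subgroup.eq_of_le_of_card_ge (hpairle k hkK) (by
        rw [← h, hL'', Subgroup.card_map_of_injective (MulAut.conj g).injective]))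
    have hL''p : PGen p L'' := by
      refine (Subgroup.map_mono (pgen_pair d k)).trans ?_
      rw [MonoidHom.map_closure]
      refine Subgroup.closure_mono ?_
      rintro _ ⟨t, ⟨ht, m, hm⟩, rfl⟩
      exact ⟨⟨t, ht, rfl⟩, m, by rw [← map_pow, hm, map_one]⟩
    have hm'' := IH L'' hL''K hL''ne hA'' hL''p fun h => hgX (mem_of_cj_le d (hgL''.trans h))
    refine hYne ?_
    rw [(exists_of_cj_le d hA'' hL''p hm'' hjX hjL'').1, hZdef, hLdef,
      (exists_of_cj_le d hA'' hL''p hm'' hgX hgL'').1]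

end CfsgLib.SL2Module.Strong
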