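import Cfsg.Agent.Lib.SL2Module.StrongMain
import Cfsg.Agent.Lib.Offender.Timmesfeld
import Cfsg.Agent.Lib.Quadratic.Groups
import Cfsg.Agent.Lib.SL2.PSLCensus
import Cfsg.Agent.Lib.Transfer.ThompsonJ
import Cfsg.Agent.Lib.Transfer.Sylow
import Cfsg.Agent.Lib.Fitting.Basic

/-!
The pushing-up situation: `C_G(O_p(G)) ≤ O_p(G)`, a Sylow subgroup lies in a unique maximal
subgroup and `G` has a quotient `PSL₂(pⁿ)`. The structure of the module generated by the centre of
the Sylow subgroup and of the normal closure of `Z(J(S))`.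
-/

set_option autoImplicit false
set_option linter.unusedSectionVars false

namespace CfsgLib.SL2Module.Baumann

open CfsgLib.SL2 CfsgLib.Transfer
open scoped MatrixGroups commutatorElement IsMulCommutative

/-! ### `PSL₂` -/

section PSLTwoFacts

variable {F : Type*} [Field F] [Finite F] (p : ℕ) [hp : Fact p.Prime] [CharP F p]

local notation "PSLTwo" => Matrix.ProjectiveSpecialLinearGroup (Fin 2) F

theorem upper_pow {u : PSLTwo} (hu : u ∈ upperPSL F) : u ^ p = 1 := by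
  obtain ⟨a, rfl⟩ := mem_upperPSL.1 hu
  have h : a ^ p = 1 := by
    apply Multiplicative.toAdd.injective
    rw [toAdd_pow, toAdd_one, nsmul_eq_mul, CharP.cast_eq_zero, zero_mul]
  rw [← map_pow, ← map_pow, h, map_one, map_one]

theorem proj_wm_not_mem : proj (wm : SL(2, F)) ∉ borelPSL F := by
  rw [proj_mem_borelPSL, wm_coe]
  simp

theorem upper_ne_bot : upperPSL F ≠ ⊥ := by
  intro h
  have h1 : proj (upperHom (Multiplicative.ofAdd (1 : F))) ∈ upperPSL F :=
    mem_upperPSL.2 ⟨_, rfl⟩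
  rw [h, Subgroup.mem_bot, proj_eq_one_iff] at h1
  rcases eq_one_or_eq_neg_one_of_mem_center _ h1 with e | e
  · have := congrArg (fun m : SL(2, F) => (m : Matrix (Fin 2) (Fin 2) F) 0 1) e
    simp [upperHom_coe] at this
  · have := congrArg (fun m : SL(2, F) => (m : Matrix (Fin 2) (Fin 2) F) 0 1) e
    simp [upperHom_coe] at this

theorem upper_le_borel : upperPSL F ≤ borelPSL F := by
  intro u hu
  obtain ⟨a, rfl⟩ := mem_upperPSL.1 hu
  rw [proj_mem_borelPSL, upperHom_coe]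
  simp

theorem eq_top_of_conj {H : Subgroup PSLTwo} (hU : upperPSL F ≤ H) {k : PSLTwo} (hk : k ∉ borelPSL F)
    (hkU : ∀ u ∈ upperPSL F, k * u * k⁻¹ ∈ H) : H = ⊤ := by
  obtain ⟨g, rfl⟩ := proj_surjective k
  have hg : (g : Matrix (Fin 2) (Fin 2) F) 1 0 ≠ 0 := fun h => hk (proj_mem_borelPSL.2 h)
  have htop : H.comap proj = ⊤ := eq_top_of_upper_and_conj _ g hg
    (fun b => hU (mem_upperPSL.2 ⟨b, rfl⟩)) fun b => by
      rw [Subgroup.mem_comap, map_mul, map_mul, map_inv]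
      exact hkU _ (mem_upperPSL.2 ⟨b, rfl⟩)
  refine eq_top_iff.2 fun x _ => ?_
  obtain ⟨y, rfl⟩ := proj_surjective x
  exact htop.ge (Subgroup.mem_top y)

end PSLTwoFacts

/-! ### The setting -/

variable {G : Type*} [Group G] [Finite G] {p : ℕ} [hp : Fact p.Prime]
variable {F : Type} [Field F] [Fintype F] [CharP F p]

/-- The hypotheses. -/
structure Setting (S : Sylow p G) (M : Subgroup G) (π : G →* (Matrix.ProjectiveSpecialLinearGroup (Fin 2) F)) : Prop where
  surj : Function.Surjective π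
  img : (S : Subgroup G).map π = upperPSL F
  self : Subgroup.centralizer (Cfsg.pCore p G : Set G) ≤ Cfsg.pCore p G
  ne : M ≠ ⊤
  le : (S : Subgroup G) ≤ M
  uniq : ∀ X : Subgroup G, (S : Subgroup G) ≤ X → X ≠ ⊤ → X ≤ M

theorem exists_setting (S : Sylow p G) (hE₁ : Subgroup.centralizer (Cfsg.pCore p G : Set G) ≤ Cfsg.pCore p G)
    (hE₂ : ∃! M : Subgroup G, IsCoatom M ∧ (S : Subgroup G) ≤ M) (K : Subgroup G) [K.Normal]
    (hE₃ : Nonempty (G ⧸ K ≃* (Matrix.ProjectiveSpecialLinearGroup (Fin 2) F))) : ∃ (M : Subgroup G) (π : G →* (Matrix.ProjectiveSpecialLinearGroup (Fin 2) F)), Setting S M π := by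
  obtain ⟨M, ⟨hM, hSM⟩, huniq⟩ := hE₂
  obtain ⟨e⟩ := hE₃
  let π₀ : G →* (Matrix.ProjectiveSpecialLinearGroup (Fin 2) F) := e.toMonoidHom.comp (QuotientGroup.mk' K)
  have hπ₀ : Function.Surjective π₀ := e.surjective.comp (QuotientGroup.mk'_surjective K)
  obtain ⟨P, hP⟩ := exists_sylow_eq_upperPSL (F := F) p
  obtain ⟨k, hk⟩ := MulAction.exists_smul_eq (Matrix.ProjectiveSpecialLinearGroup (Fin 2) F) (S.mapSurjective (f := π₀) hπ₀) P
  refine ⟨M, (MulAut.conj k).toMonoidHom.comp π₀, (MulAut.conj k).surjective.comp hπ₀, ?_, hE₁, hM.1,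
    hSM, fun X hSX hX => ?_⟩
  · rw [← hP, ← hk, Sylow.coe_subgroup_smul, Sylow.coe_mapSurjective, ← Subgroup.map_map]
    rfl
  · obtain ⟨C, hC, hXC⟩ := (eq_top_or_exists_le_coatom X).resolve_left hX
    rw [← huniq C ⟨hC, hSX.trans hXC⟩]
    exact hXC

omit [CharP F p] in
theorem charP_of_card (n : ℕ) (hn : Fintype.card F = p ^ n) : CharP F p := by
  obtain ⟨q, hq⟩ := CharP.exists F
  obtain ⟨m, hqp, hm⟩ := FiniteField.card F q
  have h1 : q ∣ p ^ n := by rw [← hn, hm]; exact dvd_pow_self q m.pos.ne'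
  exact (Nat.prime_dvd_prime_iff_eq hqp Fact.out).mp (hqp.dvd_of_dvd_pow h1) ▸ hq

variable {S : Sylow p G} {M : Subgroup G} {π : G →* (Matrix.ProjectiveSpecialLinearGroup (Fin 2) F)}

theorem map_mem (st : Setting S M π) {s : G} (hs : s ∈ (S : Subgroup G)) : π s ∈ upperPSL F :=
  st.img ▸ ⟨s, hs, rfl⟩

theorem mem_M_iff (st : Setting S M π) (x : G) : x ∈ M ↔ π x ∈ borelPSL F := by
  have hle : (borelPSL F).comap π ≤ M := by
    refine st.uniq _ (fun s hs => upper_le_borel (map_mem st hs)) fun h => proj_wm_not_mem (F := F) ?_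
    obtain ⟨g, hg⟩ := st.surj (proj (wm : SL(2, F)))
    have := h.ge (Subgroup.mem_top g)
    rwa [Subgroup.mem_comap, hg] at this
  refine ⟨fun hx => ?_, fun hx => hle hx⟩
  by_contra hn
  have htop : M.map π = ⊤ := eq_top_of_conj (st.img ▸ Subgroup.map_mono st.le) hn (by
    rw [← st.img]
    rintro _ ⟨s, hs, rfl⟩
    exact ⟨x * s * x⁻¹, mul_mem (mul_mem hx (st.le hs)) (inv_mem hx), by rw [map_mul, map_mul, map_inv]⟩)
  refine st.ne (eq_top_iff.2 fun g _ => ?_)
  obtain ⟨m, hm, e⟩ := htop.ge (Subgroup.mem_top (π g))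
  rw [show g = m * (m⁻¹ * g) by group]
  refine mul_mem hm (hle ?_)
  rw [Subgroup.mem_comap, map_mul, map_inv, e, inv_mul_cancel]
  exact one_mem _

theorem normal_le (st : Setting S M π) {N : Subgroup G} (hN : N.Normal) (hNM : N ≤ M) :
    N ⊓ (S : Subgroup G) ≤ Cfsg.pCore p G := by
  haveI := hN
  refine Fitting.le_pCore ?_ (S.2.to_le inf_le_right)
  let Q : Sylow p N := (S.2.comap_of_injective N.subtype N.subtype_injective).toSylow
    (fun hd => S.not_dvd_index (hd.trans (Transfer.relIndex_dvd_index_of_normal _ N)))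
  have hQ : (Q : Subgroup N).map N.subtype = N ⊓ (S : Subgroup G) :=
    (Subgroup.subgroupOf_map_subtype _ _).trans (inf_comm _ _)
  have hsup := Sylow.normalizer_sup_eq_top Q
  rw [hQ] at hsup
  refine Subgroup.normalizer_eq_top_iff.mp ?_
  by_contra hne
  have hSN : (S : Subgroup G) ≤ Subgroup.normalizer ((N ⊓ (S : Subgroup G) : Subgroup G) : Set G) :=
    fun t ht => Subgroup.mem_normalizer_fintype fun y hy =>
      ⟨hN.conj_mem y hy.1 t, Subgroup.mul_mem _ (Subgroup.mul_mem _ ht hy.2) (Subgroup.inv_mem _ ht)⟩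
  exact st.ne (top_le_iff.mp (hsup.ge.trans (sup_le (st.uniq _ hSN hne) hNM)))

theorem sup_eq_top (st : Setting S M π) {N : Subgroup G} (hNM : ¬ N ≤ M) :
    (S : Subgroup G) ⊔ N = ⊤ := by
  by_contra hne
  exact hNM (le_sup_right.trans (st.uniq _ le_sup_left hne))

theorem normal_of_fixed (st : Setting S M π) {W N : Subgroup G} (hNM : ¬ N ≤ M)
    (hWS : W ≤ Subgroup.centralizer ((S : Subgroup G) : Set G))
    (hNW : N ≤ Subgroup.centralizer (W : Set G)) : W.Normal := by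
  have h : (⊤ : Subgroup G) ≤ Subgroup.centralizer (W : Set G) :=
    (sup_eq_top st hNM).ge.trans (sup_le (Subgroup.le_centralizer_iff.1 hWS) hNW)
  exact ⟨fun w hw g => by
    rw [← Subgroup.mem_centralizer_iff.1 (h (Subgroup.mem_top g)) w hw, mul_inv_cancel_right]
    exact hw⟩

theorem pCore_le (S : Sylow p G) : Cfsg.pCore p G ≤ (S : Subgroup G) := by
  rw [Fitting.pCore_eq_iInf_sylow]
  exact iInf_le _ S

theorem pCore_ker (st : Setting S M π) {x : G} (hx : x ∈ Cfsg.pCore p G) : π x = 1 := by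
  by_contra h
  obtain ⟨g, hg⟩ := st.surj (proj (wm : SL(2, F)))
  have h2 := map_mem st (pCore_le S ((Fitting.pCore_normal p).conj_mem x hx g))
  rw [map_mul, map_mul, map_inv, hg] at h2
  exact proj_wm_not_mem (mem_borelPSL_of_conj (map_mem st (pCore_le S hx)) h h2)

theorem pCore_le_M (st : Setting S M π) : Cfsg.pCore p G ≤ M := (pCore_le S).trans st.le

theorem ker_inf (st : Setting S M π) {x : G} (hx : x ∈ (S : Subgroup G)) (hπ : π x = 1) :
    x ∈ Cfsg.pCore p G := by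
  refine normal_le st (N := π.ker) (MonoidHom.normal_ker π) (fun y hy => ?_) ⟨hπ, hx⟩
  rw [mem_M_iff st, MonoidHom.mem_ker.1 hy]
  exact one_mem _

theorem pow_mem_pCore (st : Setting S M π) {x : G} (hx : x ∈ (S : Subgroup G)) :
    x ^ p ∈ Cfsg.pCore p G :=
  ker_inf st (pow_mem hx p) (by rw [map_pow, upper_pow p (map_mem st hx)])

theorem commutator_le_pCore (st : Setting S M π) :
    ⁅(S : Subgroup G), (S : Subgroup G)⁆ ≤ Cfsg.pCore p G := by
  refine Subgroup.commutator_le.2 fun a ha b hb => ker_inf st ?_ ?_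
  · rw [commutatorElement_def]
    exact mul_mem (mul_mem (mul_mem ha hb) (inv_mem ha)) (inv_mem hb)
  · rw [map_commutatorElement, commutatorElement_eq_one_iff_commute]
    exact upperPSL_comm (map_mem st ha) (map_mem st hb)

theorem not_le_pCore (st : Setting S M π) : ¬ (S : Subgroup G) ≤ Cfsg.pCore p G := fun h =>
  upper_ne_bot (F := F) (by
    rw [← st.img, Subgroup.map_eq_bot_iff]
    exact fun x hx => pCore_ker st (h hx))

theorem normalClosure_S (st : Setting S M π) : Subgroup.normalClosure ((S : Subgroup G) : Set G) = ⊤ := by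
  have hS : (S : Subgroup G) ≤ Subgroup.normalClosure ((S : Subgroup G) : Set G) :=
    Subgroup.le_normalClosure
  by_cases h : Subgroup.normalClosure ((S : Subgroup G) : Set G) ≤ M
  · exact absurd ((le_inf hS le_rfl).trans (normal_le st Subgroup.normalClosure_normal h)) (not_le_pCore st)
  · exact top_le_iff.1 ((sup_eq_top st h).ge.trans (sup_le hS le_rfl))

/-! ### Maximal abelian subgroups -/

/-- `A` is an abelian subgroup of `S` of largest order. -/
def MaxAb (S : Subgroup G) (A : Subgroup G) : Prop := A ∈ maxAbExp 0 S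

theorem MaxAb.comm {S A : Subgroup G} (h : MaxAb S A) : ∀ x ∈ A, ∀ y ∈ A, Commute x y := fun x hx y hy => by
  haveI := h.2.1.1
  exact congrArg Subtype.val (mul_comm (⟨x, hx⟩ : A) ⟨y, hy⟩)

theorem isAbExp_zero {A : Subgroup G} (h : ∀ x ∈ A, ∀ y ∈ A, Commute x y) : IsAbExp 0 A :=
  ⟨⟨⟨fun a b => Subtype.ext (h a a.2 b b.2)⟩⟩, fun a _ => pow_zero a⟩

theorem MaxAb.mem_of_commute {S A : Subgroup G} (h : MaxAb S A) {x : G} (hx : x ∈ S)
    (hc : ∀ a ∈ A, Commute x a) : x ∈ A := by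
  have hab : IsAbExp 0 (A ⊔ Subgroup.zpowers x) := by
    refine isAbExp_zero fun a ha b hb => ?_
    have hle : A ⊔ Subgroup.zpowers x ≤ Subgroup.centralizer ((A ⊔ Subgroup.zpowers x : Subgroup G) : Set G) := by
      have h1 : A ≤ Subgroup.centralizer ((A ⊔ Subgroup.zpowers x : Subgroup G) : Set G) := by
        rw [Subgroup.le_centralizer_iff]
        refine sup_le (fun a ha => Subgroup.mem_centralizer_iff.2 fun b hb => (h.comm b hb a ha).eq) ?_
        rw [Subgroup.zpowers_le]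
        exact Subgroup.mem_centralizer_iff.2 fun b hb => (hc b hb).symm.eq
      refine sup_le h1 ?_
      rw [Subgroup.zpowers_le]
      refine Subgroup.mem_centralizer_iff.2 fun b hb => ?_
      have h2 : A ⊔ Subgroup.zpowers x ≤ Subgroup.centralizer ({x} : Set G) := sup_le
        (fun a ha => Subgroup.mem_centralizer_singleton_iff.2 (hc a ha).symm.eq)
        (Subgroup.zpowers_le.2 (Subgroup.mem_centralizer_singleton_iff.2 rfl))
      exact Subgroup.mem_centralizer_singleton_iff.1 (h2 hb)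
    exact (Subgroup.mem_centralizer_iff.1 (hle hb) a ha)
  have h2 := h.2.2 _ (sup_le h.1 (Subgroup.zpowers_le.2 hx)) hab
  exact (Subgroup.eq_of_le_of_card_ge le_sup_left h2).ge (Subgroup.mem_sup_right (Subgroup.mem_zpowers x))

theorem zj_eq (P : Subgroup G) : Cfsg.centerThompsonAOf P =
    thompsonJ 0 P ⊓ Subgroup.centralizer (thompsonJ 0 P : Set G) := by
  rw [Cfsg.centerThompsonAOf, thompsonSubgroupAOf_eq]

theorem le_J {P A : Subgroup G} (h : MaxAb P A) : A ≤ thompsonJ 0 P := le_sSup h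

theorem zj_commute {P A : Subgroup G} (h : MaxAb P A) {z a : G} (hz : z ∈ Cfsg.centerThompsonAOf P)
    (ha : a ∈ A) : Commute z a := by
  rw [zj_eq] at hz
  exact (Subgroup.mem_centralizer_iff.1 hz.2 a (le_J h ha)).symm

theorem zj_le {P : Subgroup G} : Cfsg.centerThompsonAOf P ≤ P := by
  rw [zj_eq]
  exact inf_le_left.trans (thompsonJ_le 0 P)

theorem mem_zj {P : Subgroup G} {z : G} (hz : z ∈ P) (h : ∀ A, MaxAb P A → ∀ a ∈ A, Commute z a) :
    z ∈ Cfsg.centerThompsonAOf P := by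
  rw [zj_eq]
  obtain ⟨A, hA⟩ := thompsonJ_nonempty 0 P
  refine ⟨le_J hA (MaxAb.mem_of_commute hA hz (h A hA)), ?_⟩
  have h2 : thompsonJ 0 P ≤ Subgroup.centralizer ({z} : Set G) := sSup_le fun B hB b hb =>
    Subgroup.mem_centralizer_singleton_iff.2 (h B hB b hb).symm.eq
  exact Subgroup.mem_centralizer_iff.2 fun b hb => Subgroup.mem_centralizer_singleton_iff.1 (h2 hb)

theorem maxAb_conj (S : Sylow p G) {A : Subgroup G} (hA : MaxAb (S : Subgroup G) A) (g : G)
    (h : A.map (MulAut.conj g).toMonoidHom ≤ (S : Subgroup G)) :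
    MaxAb (S : Subgroup G) (A.map (MulAut.conj g).toMonoidHom) := by
  have hinj : Set.InjOn (MulAut.conj g).toMonoidHom (A : Set G) := (MulAut.conj g).injective.injOn
  refine ⟨h, (isAbExp_map_iff 0 _ hinj).2 hA.2.1, fun B hB hBe => ?_⟩
  rw [card_map_of_injOn _ hinj]
  exact hA.2.2 B hB hBe

/-- If every maximal abelian subgroup lies in the core, `Z(J(S))` is normal. -/
theorem zj_normal_of_le (S : Sylow p G)
    (h : ∀ A, MaxAb (S : Subgroup G) A → A ≤ Cfsg.pCore p G) :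
    (Cfsg.centerThompsonAOf (S : Subgroup G)).Normal := by
  refine ⟨fun z hz g => ?_⟩
  have hzQ : z ∈ Cfsg.pCore p G := by
    obtain ⟨A, hA⟩ := thompsonJ_nonempty 0 (S : Subgroup G)
    exact h A hA (MaxAb.mem_of_commute hA (zj_le hz) fun a ha => zj_commute hA hz ha)
  refine mem_zj (pCore_le S ((Fitting.pCore_normal p).conj_mem z hzQ g)) fun A hA a ha => ?_
  have hA' : A.map (MulAut.conj g⁻¹).toMonoidHom ≤ (S : Subgroup G) := by
    rintro _ ⟨b, hb, rfl⟩
    exact pCore_le S ((Fitting.pCore_normal p).conj_mem b (h A hA hb) g⁻¹)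
  have h1 := zj_commute (maxAb_conj S hA g⁻¹ hA') hz ⟨a, ha, rfl⟩
  have h2 := h1.map (MulAut.conj g).toMonoidHom
  simpa [mul_assoc] using h2

/-! ### The structure -/

theorem mem_of_parts {H : Subgroup G} {x : G} {a m : ℕ} (hc : Nat.Coprime a m) (ha : x ^ a ∈ H)
    (hm : x ^ m ∈ H) : x ∈ H := by
  have h := mul_mem (zpow_mem ha (Nat.gcdA a m)) (zpow_mem hm (Nat.gcdB a m))
  rwa [← zpow_natCast, ← zpow_mul, ← zpow_natCast, ← zpow_mul, ← zpow_add, ← Nat.gcd_eq_gcd_ab,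
    hc.gcd_eq_one, Nat.cast_one, zpow_one] at h

theorem exists_parts (p : ℕ) [hp : Fact p.Prime] (x : G) :
    ∃ a m : ℕ, Nat.Coprime (p ^ a) m ∧ Nat.Coprime m p ∧ orderOf x = p ^ a * m := by
  refine ⟨(orderOf x).factorization p, orderOf x / p ^ (orderOf x).factorization p, ?_, ?_,
    (Nat.ordProj_mul_ordCompl_eq_self (orderOf x) p).symm⟩
  · exact (Nat.coprime_ordCompl hp.out (orderOf_pos x).ne').pow_left _
  · exact (Nat.coprime_ordCompl hp.out (orderOf_pos x).ne').symm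

/-- A `p`-element of a normal subgroup with Sylow subgroup in the core lies in the core. -/
theorem pElement_mem {N Q : Subgroup G} (hN : N.Normal) (hQ : Q.Normal) {S : Sylow p G}
    (hNS : N ⊓ (S : Subgroup G) ≤ Q) {y : G} (hy : y ∈ N) {n : ℕ} (hn : y ^ p ^ n = 1) : y ∈ Q := by
  have hp' : IsPGroup p (Subgroup.zpowers y) := by
    rintro ⟨_, i, rfl⟩
    refine ⟨n, Subtype.ext ?_⟩
    show (y ^ i) ^ p ^ n = 1
    rw [← zpow_natCast, ← zpow_mul, mul_comm, zpow_mul, zpow_natCast, hn, one_zpow]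
  obtain ⟨S', hS'⟩ := hp'.exists_le_sylow
  obtain ⟨c, hc⟩ := MulAction.exists_smul_eq G S S'
  have h1 := hS' (Subgroup.mem_zpowers y)
  rw [← hc, Sylow.coe_subgroup_smul] at h1
  obtain ⟨s, hs, e⟩ := h1
  have e' : c * s * c⁻¹ = y := e
  have h2 : s ∈ N := by
    rw [show s = c⁻¹ * y * c⁻¹⁻¹ by rw [← e']; group]
    exact hN.conj_mem y hy c⁻¹
  rw [← e']
  exact hQ.conj_mem s (hNS ⟨h2, hs⟩) c

/-- The structure when some maximal abelian subgroup is not in the core, with the quadratic action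
and the index of the fixed points. -/
theorem structure_full (st : Setting S M π) {A₀ : Subgroup G} (hA₀ : MaxAb (S : Subgroup G) A₀)
    (hA₀Q : ¬ A₀ ≤ Cfsg.pCore p G)
    (hV : Subgroup.centralizer
      ((Subgroup.normalClosure (((S : Subgroup G) ⊓ Subgroup.centralizer ((S : Subgroup G) : Set G) :
        Subgroup G) : Set G) : Subgroup G) : Set G) ≤ M) :
    ((∀ v ∈ (S : Subgroup G) ⊓ Subgroup.centralizer ((S : Subgroup G) : Set G), ∀ g, Commute (v ^ p) g) ∧
      (∀ s ∈ (S : Subgroup G), ∃ a ∈ A₀, a⁻¹ * s ∈ Cfsg.pCore p G) ∧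
      ∃ C : Subgroup G, C.Normal ∧ C ≤ Cfsg.centerThompsonAOf (S : Subgroup G) ∧
        ¬ Subgroup.centralizer (C : Set G) ≤ M ∧
        ∀ z ∈ Cfsg.centerThompsonAOf (S : Subgroup G), ∃ w, ∃ c ∈ C, z = w * c ∧
          (∀ s ∈ (S : Subgroup G), Commute w s)) ∧
    (∀ v ∈ Subgroup.normalClosure (((S : Subgroup G) ⊓ Subgroup.centralizer ((S : Subgroup G) : Set G) :
        Subgroup G) : Set G), v ^ p = 1 → ∀ s ∈ (S : Subgroup G), ∀ t ∈ (S : Subgroup G), Commute ⁅s, v⁆ t) ∧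
    Nat.card (Subgroup.normalClosure (((S : Subgroup G) ⊓ Subgroup.centralizer ((S : Subgroup G) : Set G) :
        Subgroup G) : Set G)) * Nat.card (Cfsg.pCore p G) ≤ Nat.card (S : Subgroup G) *
      Nat.card ↥(Subgroup.normalClosure (((S : Subgroup G) ⊓ Subgroup.centralizer ((S : Subgroup G) : Set G) :
        Subgroup G) : Set G) ⊓ Subgroup.centralizer ((S : Subgroup G) : Set G)) := by
  classical
  set Q := Cfsg.pCore p G with hQdef
  haveI hQn : Q.Normal := Fitting.pCore_normal p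
  set Z₀ := (S : Subgroup G) ⊓ Subgroup.centralizer ((S : Subgroup G) : Set G) with hZ₀
  set V := Subgroup.normalClosure (Z₀ : Set G) with hVdef
  haveI hVn : V.Normal := Subgroup.normalClosure_normal
  have hQS : Q ≤ (S : Subgroup G) := pCore_le S
  have hZ₀C : Z₀ ≤ Subgroup.centralizer (Q : Set G) :=
    inf_le_right.trans (Subgroup.centralizer_le (SetLike.coe_subset_coe.2 hQS))
  have hZ₀Q : Z₀ ≤ Q := hZ₀C.trans st.self
  haveI hCQn : (Subgroup.centralizer (Q : Set G)).Normal := ⟨fun x hx g =>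
    Subgroup.mem_centralizer_iff.2 fun q hq => by
      have := Subgroup.mem_centralizer_iff.1 hx (g⁻¹ * q * g) (by simpa using hQn.conj_mem q hq g⁻¹)
      calc q * (g * x * g⁻¹) = g * ((g⁻¹ * q * g) * x) * g⁻¹ := by group
        _ = g * (x * (g⁻¹ * q * g)) * g⁻¹ := by rw [this]
        _ = g * x * g⁻¹ * q := by group⟩
  have hVQ : V ≤ Q := Subgroup.normalClosure_le_normal hZ₀Q
  have hVCQ : V ≤ Subgroup.centralizer (Q : Set G) := Subgroup.normalClosure_le_normal hZ₀C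
  have hQV : ∀ x ∈ Q, ∀ v ∈ V, Commute x v := fun x hx v hv =>
    (Subgroup.mem_centralizer_iff.1 (hVCQ hv) x hx)
  have hVc : ∀ x ∈ V, ∀ y ∈ V, Commute x y := fun x hx y hy => hQV x (hVQ hx) y hy
  haveI hVcomm : IsMulCommutative V := ⟨⟨fun a b => Subtype.ext (hVc a a.2 b b.2)⟩⟩
  set R := Subgroup.centralizer (V : Set G) with hRdef
  haveI hRn : R.Normal := ⟨fun x hx g => Subgroup.mem_centralizer_iff.2 fun q hq => by
      have := Subgroup.mem_centralizer_iff.1 hx (g⁻¹ * q * g) (by simpa using hVn.conj_mem q hq g⁻¹)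
      calc q * (g * x * g⁻¹) = g * ((g⁻¹ * q * g) * x) * g⁻¹ := by group
        _ = g * (x * (g⁻¹ * q * g)) * g⁻¹ := by rw [this]
        _ = g * x * g⁻¹ * q := by group⟩
  have hRS : R ⊓ (S : Subgroup G) ≤ Q := normal_le st hRn hV
  have hQR : Q ≤ R := fun x hx => Subgroup.mem_centralizer_iff.2 fun v hv => (hQV x hx v hv).symm.eq
  -- the elementary part
  let V₁ : Subgroup G :=
    { carrier := {v | v ∈ V ∧ v ^ p = 1}
      one_mem' := ⟨one_mem _, one_pow p⟩
      mul_mem' := fun {a b} ha hb => ⟨mul_mem ha.1 hb.1, by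
        rw [(hVc a ha.1 b hb.1).mul_pow, ha.2, hb.2, one_mul]⟩
      inv_mem' := fun {a} ha => ⟨inv_mem ha.1, by rw [inv_pow, ha.2, inv_one]⟩ }
  have hV₁V : V₁ ≤ V := fun v hv => hv.1
  haveI hV₁n : V₁.Normal := ⟨fun v hv g => ⟨hVn.conj_mem v hv.1 g, by rw [conj_pow, hv.2]; group⟩⟩
  haveI hV₁c : IsMulCommutative V₁ := ⟨⟨fun a b => Subtype.ext (hVc a a.2.1 b b.2.1)⟩⟩
  have hV₁el : Cfsg.IsElementaryAbelian p V₁ := ⟨hV₁c, fun v hv => hv.2⟩
  set R₁ := Subgroup.centralizer (V₁ : Set G) with hR₁def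
  haveI hR₁n : R₁.Normal := ⟨fun x hx g => Subgroup.mem_centralizer_iff.2 fun q hq => by
      have := Subgroup.mem_centralizer_iff.1 hx (g⁻¹ * q * g) (by simpa using hV₁n.conj_mem q hq g⁻¹)
      calc q * (g * x * g⁻¹) = g * ((g⁻¹ * q * g) * x) * g⁻¹ := by group
        _ = g * (x * (g⁻¹ * q * g)) * g⁻¹ := by rw [this]
        _ = g * x * g⁻¹ * q := by group⟩
  have hVp : IsPGroup p V := S.2.to_le (hVQ.trans hQS)
  -- `R₁ / R` is a `p`-group
  have hstep : ∀ (k : ℕ) (x : G), x ∈ R₁ → ∀ v ∈ V, v ^ p ^ k = 1 → Commute (x ^ p ^ (k - 1)) v := by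
    intro k
    induction k with
    | zero =>
      intro x _ v _ h
      rw [pow_zero, pow_one] at h
      rw [h]
      exact Commute.one_right _
    | succ k ih =>
      intro x hx v hv h
      by_cases hk : k = 0
      · subst hk
        rw [zero_add, pow_one] at h
        simp only [zero_add, Nat.sub_self, pow_zero, pow_one]
        exact (Subgroup.mem_centralizer_iff.1 hx v ⟨hv, h⟩).symm
      set y := x ^ p ^ (k - 1) with hy
      have hy1 : Commute y (v ^ p) := ih x hx (v ^ p) (pow_mem hv p) (by rw [← pow_mul, ← pow_succ', h])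
      have hyV : y * v * y⁻¹ ∈ V := hVn.conj_mem v hv y
      set d := (y * v * y⁻¹) * v⁻¹ with hd
      have hdV : d ∈ V₁ := by
        refine ⟨mul_mem hyV (inv_mem hv), ?_⟩
        rw [(hVc _ hyV _ (inv_mem hv)).mul_pow, conj_pow, hy1.eq, mul_inv_cancel_right, inv_pow,
          mul_inv_cancel]
      have hyd : Commute y d := (Subgroup.mem_centralizer_iff.1 (pow_mem hx _) d hdV).symm
      have hn : ∀ n : ℕ, y ^ n * v * (y ^ n)⁻¹ = d ^ n * v := by
        intro n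
        induction n with
        | zero => group
        | succ n ih' =>
          calc y ^ (n + 1) * v * (y ^ (n + 1))⁻¹ = y * (y ^ n * v * (y ^ n)⁻¹) * y⁻¹ := by
                rw [pow_succ']; group
            _ = y * (d ^ n * v) * y⁻¹ := by rw [ih']
            _ = d ^ n * (y * v * y⁻¹) := by
                rw [← mul_assoc, (hyd.pow_right n).eq]; group
            _ = d ^ n * (d * v) := by
                rw [show d * v = y * v * y⁻¹ from inv_mul_cancel_right _ _]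
            _ = d ^ (n + 1) * v := by rw [pow_succ d n]; exact (mul_assoc _ _ _).symm
      have h2 := hn p
      rw [hdV.2, one_mul, mul_inv_eq_iff_eq_mul, hy, ← pow_mul, ← pow_succ, Nat.sub_add_cancel
        (Nat.one_le_iff_ne_zero.2 hk)] at h2
      rw [Nat.add_sub_cancel]
      exact h2
  have hR₁R : ∀ x ∈ R₁, ∃ n : ℕ, x ^ p ^ n ∈ R := by
    intro x hx
    obtain ⟨e, he⟩ := IsPGroup.iff_card.1 hVp
    refine ⟨e - 1, Subgroup.mem_centralizer_iff.2 fun v hv => ?_⟩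
    exact (hstep e x hx v hv (by
      rw [← he]
      exact congrArg Subtype.val (pow_card_eq_one' (x := (⟨v, hv⟩ : V))))).symm.eq
  have hR₁M : R₁ ≤ M := by
    by_contra hnM
    -- the image is a normal subgroup of `(Matrix.ProjectiveSpecialLinearGroup (Fin 2) F)` which is a `p`-group modulo the image of `R`
    obtain ⟨g, hg⟩ := st.surj (proj (wm : SL(2, F)))
    have hsup := sup_eq_top st hnM
    have hmem : g ∈ (((S : Subgroup G) ⊔ R₁ : Subgroup G) : Set G) := by rw [hsup]; trivial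
    rw [Subgroup.mul_normal] at hmem
    obtain ⟨s, hs, r, hr, hsr⟩ := hmem
    have hrM : r ∉ M := fun h => proj_wm_not_mem (F := F) (by
      rw [← hg, ← hsr, ← mem_M_iff st]
      exact mul_mem (st.le hs) h)
    -- a Sylow subgroup of `R₁` together with `R` is all of `R₁`
    let P₁ : Sylow p R₁ := (S.2.comap_of_injective R₁.subtype R₁.subtype_injective).toSylow
      (fun hd => S.not_dvd_index (hd.trans (Transfer.relIndex_dvd_index_of_normal _ R₁)))
    haveI : (R.subgroupOf R₁).Normal := hRn.subgroupOf R₁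
    have hq : IsPGroup p (R₁ ⧸ R.subgroupOf R₁) := by
      intro y
      obtain ⟨⟨y, hy⟩, rfl⟩ := QuotientGroup.mk'_surjective _ y
      obtain ⟨n, hn⟩ := hR₁R y hy
      refine ⟨n, ?_⟩
      rw [← map_pow]
      exact (QuotientGroup.eq_one_iff _).2 hn
    have htop : (P₁ : Subgroup R₁) ⊔ R.subgroupOf R₁ = ⊤ := by
      have h2 : ¬ p ∣ ((P₁ : Subgroup R₁) ⊔ R.subgroupOf R₁).index := fun h =>
        P₁.not_dvd_index (h.trans (Subgroup.index_dvd_of_le le_sup_left))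
      obtain ⟨n, hn⟩ := IsPGroup.iff_card.mp hq
      obtain ⟨k, -, hk⟩ := (Nat.dvd_prime_pow hp.out).mp
        ((Subgroup.index_dvd_of_le (le_sup_right : R.subgroupOf R₁ ≤ (P₁ : Subgroup R₁) ⊔ _)).trans
          (dvd_of_eq hn))
      rcases k with _ | k
      · exact Subgroup.index_eq_one.mp (by rw [hk, pow_zero])
      · exact absurd (hk ▸ dvd_pow_self p k.succ_ne_zero) h2
    have : (⟨r, hr⟩ : R₁) ∈ (((P₁ : Subgroup R₁) ⊔ R.subgroupOf R₁ : Subgroup R₁) : Set R₁) := by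
      rw [htop]; trivial
    rw [Subgroup.mul_normal] at this
    obtain ⟨⟨a, ha⟩, haP, ⟨b, hb⟩, hbR, hab⟩ := this
    exact hrM (by
      rw [show r = a * b from (congrArg Subtype.val hab).symm]
      exact mul_mem (st.le haP) (hV hbR))
  have hR₁S : R₁ ⊓ (S : Subgroup G) ≤ Q := normal_le st hR₁n hR₁M
  have hR₁le : R₁ ≤ R := by
    intro x hx
    obtain ⟨a, m, hcop, hmp, hord⟩ := exists_parts p x
    refine mem_of_parts hcop ?_ (hQR (pElement_mem hR₁n hQn hR₁S (pow_mem hx m) (n := a)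
      (by rw [← pow_mul, mul_comm, ← hord, pow_orderOf_eq_one])))
    obtain ⟨n, hn⟩ := hR₁R _ (pow_mem hx (p ^ a))
    refine mem_of_parts (x := x ^ p ^ a) ((hmp.symm.pow_left n)) hn ?_
    rw [← pow_mul, ← hord, pow_orderOf_eq_one]
    exact one_mem _
  have hQR₁ : Q ≤ R₁ := hQR.trans (Subgroup.centralizer_le (SetLike.coe_subset_coe.2 hV₁V))
  -- the action on the elementary part
  have hnorm : ∀ H : Subgroup G, H ≤ Subgroup.normalizer (V₁ : Set G) := fun H =>
    le_top.trans (Subgroup.normalizer_eq_top (H := V₁)).ge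
  let φ₀ : G →* AddMonoid.End (Additive V₁) :=
    (Quadratic.act V₁ ⊤ (hnorm ⊤)).comp Subgroup.topEquiv.symm.toMonoidHom
  have hφ₀ : ∀ (g : G) (v : Additive V₁),
      (((φ₀ g v).toMul : V₁) : G) = g * ((v.toMul : V₁) : G) * g⁻¹ := fun g v => rfl
  have hker : ∀ g, φ₀ g = 1 ↔ g ∈ R₁ := fun g =>
    Quadratic.act_eq_one_iff V₁ ⊤ (hnorm ⊤) (Subgroup.topEquiv.symm g)
  let φ : G ⧸ R₁ →* AddMonoid.End (Additive V₁) :=
    QuotientGroup.lift R₁ φ₀ fun g hg => (hker g).2 hg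
  have hφ : ∀ g : G, φ (g : G ⧸ R₁) = φ₀ g := fun g => rfl
  have hφinj : Function.Injective φ := (injective_iff_map_eq_one _).2 fun q hq => by
    obtain ⟨g, rfl⟩ := QuotientGroup.mk_surjective q
    exact (QuotientGroup.eq_one_iff _).2 ((hker g).1 hq)
  set X := M.map (QuotientGroup.mk' R₁) with hXdef
  have hmemX : ∀ g : G, (g : G ⧸ R₁) ∈ X ↔ g ∈ M := fun g => ⟨by
    rintro ⟨m, hm, e⟩
    have h1 : m⁻¹ * g ∈ R₁ := QuotientGroup.eq.1 e
    rw [show g = m * (m⁻¹ * g) by group]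
    exact mul_mem hm (hR₁M h1), fun h => ⟨g, h, rfl⟩⟩
  have hS' := Sylow.coe_mapSurjective (QuotientGroup.mk'_surjective R₁) S
  have hTI : ∀ h t : G ⧸ R₁, t ≠ 1 → (∃ n, t ^ p ^ n = 1) → t ∈ X → h * t * h⁻¹ ∈ X → h ∈ X := by
    intro h t ht htn htX hht
    obtain ⟨n, hn⟩ := htn
    -- conjugate `t` into the image of the Sylow subgroup inside `X`
    have hSX : (S : Subgroup G).map (QuotientGroup.mk' R₁) ≤ X := Subgroup.map_mono st.le
    let P' : Sylow p X := (S.mapSurjective (f := QuotientGroup.mk' R₁)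
      (QuotientGroup.mk'_surjective R₁)).subtype (by rw [hS']; exact hSX)
    have htp : IsPGroup p (Subgroup.zpowers (⟨t, htX⟩ : X)) := by
      rintro ⟨_, i, rfl⟩
      refine ⟨n, Subtype.ext ?_⟩
      have h1 : (⟨t, htX⟩ : X) ^ p ^ n = 1 := Subtype.ext hn
      show ((⟨t, htX⟩ : X) ^ i) ^ p ^ n = 1
      rw [← zpow_natCast, ← zpow_mul, mul_comm, zpow_mul, zpow_natCast, h1, one_zpow]
    obtain ⟨P'', hP''⟩ := htp.exists_le_sylow
    obtain ⟨c, hc⟩ := MulAction.exists_smul_eq X P' P''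
    have h1 := hP'' (Subgroup.mem_zpowers _)
    rw [← hc] at h1
    obtain ⟨t₁, ht₁, e⟩ := h1
    have ht₁' : (t₁ : G ⧸ R₁) ∈ (S : Subgroup G).map (QuotientGroup.mk' R₁) := hS' ▸ ht₁
    obtain ⟨s, hs, hst⟩ := ht₁'
    obtain ⟨m, hm, hmc⟩ := (c.2 : (c : G ⧸ R₁) ∈ M.map _)
    obtain ⟨x, rfl⟩ := QuotientGroup.mk_surjective h
    have et : t = ((m * s * m⁻¹ : G) : G ⧸ R₁) := by
      rw [QuotientGroup.mk_mul, QuotientGroup.mk_mul, QuotientGroup.mk_inv]
      change t = QuotientGroup.mk' R₁ m * QuotientGroup.mk' R₁ s * (QuotientGroup.mk' R₁ m)⁻¹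
      rw [hst, hmc]
      exact (congrArg Subtype.val e).symm
    rw [et, ← QuotientGroup.mk_mul, ← QuotientGroup.mk_inv, ← QuotientGroup.mk_mul, hmemX,
      mem_M_iff st] at hht
    have hπs : π s ≠ 1 := fun e' => ht (by
      rw [et, QuotientGroup.eq_one_iff]
      exact hR₁n.conj_mem s (hQR₁ (ker_inf st hs e')) m)
    rw [hmemX, show x = x * m * m⁻¹ by group]
    refine mul_mem ((mem_M_iff st _).2 ?_) (inv_mem hm)
    have h3 : π (x * m) * π s * (π (x * m))⁻¹ ∈ borelPSL F := by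
      rw [← map_inv, ← map_mul, ← map_mul, show x * m * s * (x * m)⁻¹ = x * (m * s * m⁻¹) * x⁻¹ by group]
      exact hht
    exact mem_borelPSL_of_conj (map_mem st hs) hπs
      (mem_upperPSL_of_pow p h3 (by rw [conj_pow, upper_pow p (map_mem st hs)]; group))
  -- the quadratic offender inside a maximal abelian subgroup outside the core
  have hfit : ∀ B : Subgroup G, MaxAb (S : Subgroup G) B → Nat.card ↥(B ⊓ Q) * Nat.card V ≤
      Nat.card B * Nat.card ↥(CfsgLib.Offender.Timmesfeld.fix V B) := by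
    intro B hB
    have hab : IsAbExp 0 ((B ⊓ Q) ⊔ V) := by
      refine isAbExp_zero fun a ha b hb => ?_
      have hle : (B ⊓ Q) ⊔ V ≤ Subgroup.centralizer (((B ⊓ Q) ⊔ V : Subgroup G) : Set G) := by
        refine sup_le ?_ ?_ <;> rw [Subgroup.le_centralizer_iff] <;> refine sup_le ?_ ?_
        · exact fun x hx => Subgroup.mem_centralizer_iff.2 fun y hy => (hB.comm y hy.1 x hx.1).eq
        · exact fun x hx => Subgroup.mem_centralizer_iff.2 fun y hy => (hQV y hy.2 x hx).eq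
        · exact fun x hx => Subgroup.mem_centralizer_iff.2 fun y hy => (hQV x hx.2 y hy).symm.eq
        · exact fun x hx => Subgroup.mem_centralizer_iff.2 fun y hy => (hVc y hy x hx).eq
      exact Subgroup.mem_centralizer_iff.1 (hle hb) a ha
    have h1 := hB.2.2 _ (sup_le (inf_le_left.trans hB.1) (hVQ.trans hQS)) hab
    have h2 := Subgroup.card_le_of_le (show (B ⊓ Q) ⊓ V ≤ CfsgLib.Offender.Timmesfeld.fix V B from
      fun x hx => ⟨hx.2, Subgroup.mem_centralizer_iff.2 fun b hb => (hB.comm b hb x hx.1.1).eq⟩)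
    exact (CfsgLib.Offender.Timmesfeld.card_mul_card_le _ _).trans (Nat.mul_le_mul h1 h2)
  have hfit₁ : ∀ B : Subgroup G, MaxAb (S : Subgroup G) B → Nat.card ↥(B ⊓ Q) * Nat.card V₁ ≤
      CfsgLib.Offender.Timmesfeld.meas V₁ B := by
    intro B hB
    have h1 := hfit B hB
    have h2 := CfsgLib.Offender.Timmesfeld.card_mul_card_le V₁ (CfsgLib.Offender.Timmesfeld.fix V B)
    have h3 : Nat.card ↥(V₁ ⊔ CfsgLib.Offender.Timmesfeld.fix V B) ≤ Nat.card V :=
      Subgroup.card_le_of_le (sup_le hV₁V inf_le_left)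
    have h4 : Nat.card ↥(V₁ ⊓ CfsgLib.Offender.Timmesfeld.fix V B) ≤
        Nat.card ↥(CfsgLib.Offender.Timmesfeld.fix V₁ B) :=
      Subgroup.card_le_of_le fun x hx => ⟨hx.1, hx.2.2⟩
    refine Nat.le_of_mul_le_mul_right ?_ (Nat.card_pos (α := ↥(CfsgLib.Offender.Timmesfeld.fix V B)))
    calc Nat.card ↥(B ⊓ Q) * Nat.card V₁ * Nat.card ↥(CfsgLib.Offender.Timmesfeld.fix V B)
        ≤ Nat.card ↥(B ⊓ Q) * (Nat.card V * Nat.card ↥(CfsgLib.Offender.Timmesfeld.fix V₁ B)) := by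
          rw [mul_assoc]
          exact Nat.mul_le_mul_left _ (h2.trans (Nat.mul_le_mul h3 h4))
      _ = Nat.card ↥(B ⊓ Q) * Nat.card V * Nat.card ↥(CfsgLib.Offender.Timmesfeld.fix V₁ B) := by ring
      _ ≤ Nat.card B * Nat.card ↥(CfsgLib.Offender.Timmesfeld.fix V B) *
          Nat.card ↥(CfsgLib.Offender.Timmesfeld.fix V₁ B) := Nat.mul_le_mul_right _ h1
      _ = _ := by unfold CfsgLib.Offender.Timmesfeld.meas; ring
  let mk := QuotientGroup.mk' R₁
  have hcardimg : ∀ B : Subgroup G, B ≤ (S : Subgroup G) →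
      Nat.card (B.map mk) * Nat.card ↥(B ⊓ Q) = Nat.card B := by
    intro B hB
    have e : (mk.comp B.subtype).ker = Q.subgroupOf B := by
      ext ⟨b, hb⟩
      rw [MonoidHom.mem_ker, Subgroup.mem_subgroupOf]
      show (b : G ⧸ R₁) = 1 ↔ b ∈ Q
      rw [QuotientGroup.eq_one_iff]
      exact ⟨fun h => hR₁S ⟨h, hB hb⟩, fun h => hQR₁ h⟩
    have h := Subgroup.card_eq_card_quotient_mul_card_subgroup (mk.comp B.subtype).ker
    rw [Nat.card_congr (QuotientGroup.quotientKerEquivRange _).toEquiv, MonoidHom.range_comp,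
      Subgroup.range_subtype, e, Nat.card_congr (Subgroup.subgroupOfEquivOfLe (inf_le_left : B ⊓ Q ≤ B)).symm.toEquiv,
      Subgroup.inf_subgroupOf_left] at *
    exact h.symm
  have hexQuad : ∀ B : Subgroup G, MaxAb (S : Subgroup G) B → ¬ B ≤ Q →
      ∃ A : Subgroup G, A ≤ B ∧ Strong.Data p φ X (A.map mk) := by
    intro B hB hBQ
    have hnB : ∀ D : Subgroup G, D ≤ (S : Subgroup G) → ¬ D ≤ Q → ¬ D ≤ R₁ :=
      fun D hD hn h => hn fun x hx => hR₁S ⟨h hx, hD hx⟩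
    obtain ⟨A₁, ⟨hA₁le, hA₁ne⟩, hA₁max⟩ := Set.exists_max_image
      {D : Subgroup G | D ≤ B ∧ ¬ D ≤ R₁} (fun D => CfsgLib.Offender.Timmesfeld.meas V₁ D)
      (Set.toFinite _) ⟨B, le_rfl, hnB B hB.1 hBQ⟩
    have hBA : CfsgLib.Offender.Timmesfeld.meas V₁ B ≤ CfsgLib.Offender.Timmesfeld.meas V₁ A₁ :=
      hA₁max B ⟨le_rfl, hnB B hB.1 hBQ⟩
    have hmax : ∀ D ≤ A₁, CfsgLib.Offender.Timmesfeld.meas V₁ D ≤ CfsgLib.Offender.Timmesfeld.meas V₁ A₁ := by
      intro D hD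
      by_cases hd : D ≤ R₁
      · refine le_trans ?_ ((hfit₁ B hB).trans hBA)
        unfold CfsgLib.Offender.Timmesfeld.meas
        refine Nat.mul_le_mul (Subgroup.card_le_of_le (le_inf (hD.trans hA₁le) fun x hx =>
          hR₁S ⟨hd hx, hB.1 (hA₁le (hD hx))⟩)) (Subgroup.card_le_of_le inf_le_left)
      · exact hA₁max D ⟨hD.trans hA₁le, hd⟩
    have hV₁c' : ∀ x ∈ V₁, ∀ y ∈ V₁, Commute x y := fun x hx y hy => hVc x hx.1 y hy.1
    have hab : ⁅A₁, A₁⁆ ≤ Subgroup.centralizer (V₁ : Set G) := Subgroup.commutator_le.2 fun x hx y hy => by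
      rw [commutatorElement_eq_one_iff_commute.2 (hB.comm x (hA₁le hx) y (hA₁le hy))]
      exact one_mem _
    have hne : ⁅V₁, A₁⁆ ≠ ⊥ := fun h => hA₁ne (by
      rw [Subgroup.commutator_eq_bot_iff_le_centralizer, Subgroup.le_centralizer_iff] at h
      exact h)
    obtain ⟨hm, -⟩ := CfsgLib.Offender.Timmesfeld.replacement hV₁c' (hnorm A₁) hab hmax (le_refl V₁)
    have hne' := CfsgLib.Offender.Timmesfeld.commutator_ne_bot hV₁c' (hnorm A₁) hab (p := p)
      (S.2.to_le (hV₁V.trans (hVQ.trans hQS)))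
      (fun a ha => hQR₁ (pow_mem_pCore st (hB.1 (hA₁le ha)))) hmax (le_refl V₁) hne
    set A := A₁ ⊓ Subgroup.centralizer ((⁅V₁, A₁⁆ : Subgroup G) : Set G) with hAdef
    have hAB : A ≤ B := inf_le_left.trans hA₁le
    have hAS : A ≤ (S : Subgroup G) := hAB.trans hB.1
    refine ⟨A, hAB, hp.out, Quadratic.act_nsmul hV₁el, hφinj, Subgroup.map_mono (hAS.trans st.le), ?_, ?_, ?_, hTI⟩
    · intro h
      rw [Subgroup.map_eq_bot_iff] at h
      refine hne' ?_
      rw [Subgroup.commutator_eq_bot_iff_le_centralizer, Subgroup.le_centralizer_iff]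
      exact h.trans (QuotientGroup.ker_mk' R₁).le
    · rintro _ ⟨a, ha, rfl⟩ _ ⟨b, hb, rfl⟩ v
      show φ₀ b (φ₀ a v - v) = φ₀ a v - v
      apply Additive.toMul.injective
      apply Subtype.ext
      rw [hφ₀, mul_inv_eq_iff_eq_mul]
      have h1 : (((φ₀ a v - v).toMul : V₁) : G) ∈ ⁅V₁, A₁⁆ := by
        rw [Subgroup.commutator_comm, toMul_sub, Subgroup.coe_div, hφ₀, div_eq_mul_inv,
          ← commutatorElement_def]
        exact Subgroup.commutator_mem_commutator ha.1 (v.toMul : V₁).2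
      exact (Subgroup.mem_centralizer_iff.1 hb.2 _ h1).symm
    · rw [Nat.card_congr (Additive.toMul (α := V₁))]
      have h1 : Nat.card ↥(CfsgLib.Offender.Timmesfeld.fix V₁ A) ≤
          Nat.card (SL2Module.Offender.fixS φ (A.map mk)) :=
        Nat.card_le_card_of_injective (fun v => ⟨Additive.ofMul ⟨v.1, v.2.1⟩, by
          rintro _ ⟨a, ha, rfl⟩
          show φ₀ a _ = _
          apply Additive.toMul.injective
          apply Subtype.ext
          rw [hφ₀, mul_inv_eq_iff_eq_mul]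
          exact (Subgroup.mem_centralizer_iff.1 v.2.2 a ha).trans rfl⟩)
          fun v w e => Subtype.ext (congrArg (fun u : SL2Module.Offender.fixS φ (A.map mk) =>
            ((u.1.toMul : V₁) : G)) e)
      refine le_trans ?_ (Nat.mul_le_mul_left _ h1)
      refine Nat.le_of_mul_le_mul_left (?_ : Nat.card ↥(B ⊓ Q) * _ ≤ Nat.card ↥(B ⊓ Q) * _) Nat.card_pos
      refine (hfit₁ B hB).trans (hBA.trans (hm.symm.le.trans ?_))
      unfold CfsgLib.Offender.Timmesfeld.meas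
      rw [← hcardimg A hAS, ← mul_assoc (Nat.card ↥(B ⊓ Q))]
      refine Nat.mul_le_mul_right _ ?_
      rw [mul_comm]
      exact Nat.mul_le_mul_right _ (Subgroup.card_le_of_le (inf_le_inf_right _ hAB))
  -- consequences of the theorem
  have hXne : ¬ (⊤ : Subgroup (G ⧸ R₁)) ≤ X := fun h => st.ne (eq_top_iff.2 fun g _ =>
    (hmemX g).1 (h (Subgroup.mem_top _)))
  have hgenP : Strong.PGen p (⊤ : Subgroup (G ⧸ R₁)) := by
    intro y _
    obtain ⟨g, rfl⟩ := QuotientGroup.mk_surjective y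
    have hg : g ∈ Subgroup.normalClosure ((S : Subgroup G) : Set G) := by
      rw [normalClosure_S st]; trivial
    refine ((Subgroup.map_le_iff_le_comap (f := QuotientGroup.mk' R₁)).2 ((Subgroup.closure_le _).2 ?_))
      (⟨g, hg, rfl⟩ : QuotientGroup.mk' R₁ g ∈ (Subgroup.normalClosure ((S : Subgroup G) : Set G)).map (QuotientGroup.mk' R₁))
    intro t ht
    rw [Group.conjugatesOfSet, Set.mem_iUnion₂] at ht
    obtain ⟨s, hs, hts⟩ := ht
    obtain ⟨n, hn⟩ := S.2 ⟨s, hs⟩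
    obtain ⟨c, hc⟩ := isConj_iff.1 hts
    refine Subgroup.subset_closure ⟨Subgroup.mem_top _, n, ?_⟩
    rw [← map_pow, ← hc, conj_pow, show s ^ p ^ n = 1 from congrArg Subtype.val hn, mul_one,
      mul_inv_cancel, map_one]
  have hfull : ∀ B : Subgroup G, MaxAb (S : Subgroup G) B → ¬ B ≤ Q →
      B.map mk = (S : Subgroup G).map mk ∧
        (∀ g : G, g ∉ M → Strong.pair (B.map mk) (g : G ⧸ R₁) = ⊤ ∧
          Nat.card (SL2Module.Offender.fixS φ (B.map mk)) =
            Nat.card (B.map mk) * Nat.card (SL2Module.Offender.fixS φ (⊤ : Subgroup (G ⧸ R₁))) ∧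
          Nat.card (Additive V₁) =
            Nat.card (B.map mk) * Nat.card (SL2Module.Offender.fixS φ (B.map mk)) ∧
          SL2Module.Offender.fixS φ (Strong.pair (B.map mk) (g : G ⧸ R₁)) =
            SL2Module.Offender.fixS φ (⊤ : Subgroup (G ⧸ R₁))) := by
    intro B hB hBQ
    obtain ⟨A, hAB, d⟩ := hexQuad B hB hBQ
    have hm := Strong.meet_all d ⊤ le_top hgenP hXne
    obtain ⟨g₀, -, hg₀⟩ := SetLike.not_le_iff_exists.1 hXne
    obtain ⟨-, -, hsyl, -, -⟩ := Strong.structure_of_meet d le_top hgenP hm (Subgroup.mem_top g₀) hg₀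
    have hSA : (S : Subgroup G).map mk = A.map mk := hsyl _ (S.2.map mk) le_top
      (Subgroup.map_mono (hAB.trans hB.1))
    have hBA : B.map mk = A.map mk := le_antisymm ((Subgroup.map_mono hB.1).trans hSA.le)
      (Subgroup.map_mono hAB)
    refine ⟨hBA.trans hSA.symm, fun g hg => ?_⟩
    have hgX : (g : G ⧸ R₁) ∉ X := fun h => hg ((hmemX g).1 h)
    obtain ⟨h1, h2, h3, -⟩ := Strong.basic d le_top hgenP hm (Subgroup.mem_top _) hgX
    obtain ⟨-, -, -, -, h5⟩ := Strong.structure_of_meet d le_top hgenP hm (Subgroup.mem_top _) hgX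
    rw [hBA]
    exact ⟨h5, h2, h3, h1⟩
  obtain ⟨hA₀S, hA₀g⟩ := hfull A₀ hA₀ hA₀Q
  have hAQ : ∀ B : Subgroup G, MaxAb (S : Subgroup G) B → ¬ B ≤ Q →
      ∀ s ∈ (S : Subgroup G), ∃ a ∈ B, a⁻¹ * s ∈ Q := by
    intro B hB hBQ s hs
    obtain ⟨a, ha, e⟩ := ((hfull B hB hBQ).1.ge ⟨s, hs, rfl⟩)
    exact ⟨a, ha, hR₁S (Subgroup.mem_inf.2 ⟨QuotientGroup.eq.1 e, mul_mem (inv_mem (hB.1 ha)) hs⟩)⟩
  have hquad : ∀ v ∈ V, v ^ p = 1 → ∀ s ∈ (S : Subgroup G), ∀ t ∈ (S : Subgroup G), Commute ⁅s, v⁆ t := by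
    intro v hv hvp s hs t ht
    obtain ⟨A, hAB, d⟩ := hexQuad A₀ hA₀ hA₀Q
    obtain ⟨g₀, -, hg₀⟩ := SetLike.not_le_iff_exists.1 hXne
    obtain ⟨-, -, hsyl, -, -⟩ := Strong.structure_of_meet d le_top hgenP
      (Strong.meet_all d ⊤ le_top hgenP hXne) (Subgroup.mem_top g₀) hg₀
    have hSA : (S : Subgroup G).map mk = A.map mk := hsyl _ (S.2.map mk) le_top
      (Subgroup.map_mono (hAB.trans hA₀.1))
    have h := congrArg (fun u : Additive V₁ => ((u.toMul : V₁) : G))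
      (d.fix _ (hSA.le ⟨s, hs, rfl⟩) _ (hSA.le ⟨t, ht, rfl⟩) (Additive.ofMul ⟨v, hv, hvp⟩))
    have h' : t * (s * v * s⁻¹ / v) * t⁻¹ = s * v * s⁻¹ / v := h
    rw [mul_inv_eq_iff_eq_mul, div_eq_mul_inv, ← commutatorElement_def] at h'
    exact h'.symm
  set CS := Subgroup.centralizer ((S : Subgroup G) : Set G) with hCS
  have hfixS : ∀ B : Subgroup G, MaxAb (S : Subgroup G) B → ¬ B ≤ Q →
      CfsgLib.Offender.Timmesfeld.fix V B = V ⊓ CS := by
    intro B hB hBQ
    refine le_antisymm (fun v hv => ⟨hv.1, Subgroup.mem_centralizer_iff.2 fun s hs => ?_⟩)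
      (inf_le_inf_left V (Subgroup.centralizer_le (SetLike.coe_subset_coe.2 hB.1)))
    obtain ⟨a, ha, hx⟩ := hAQ B hB hBQ s hs
    have c1 : Commute a v := Subgroup.mem_centralizer_iff.1 hv.2 a ha
    have c2 : Commute (a⁻¹ * s) v := hQV _ hx v hv.1
    have c3 := c1.mul_left c2
    rw [mul_inv_cancel_left] at c3
    exact c3.eq
  obtain ⟨g, hg⟩ : ∃ g, g ∉ M := by
    by_contra h
    push Not at h
    exact st.ne (eq_top_iff.2 fun x _ => h x)
  obtain ⟨hpairtop, hcC, hcV, hcZ⟩ := hA₀g g hg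
  set q := Nat.card (A₀.map mk) with hqdef
  have hVS : CfsgLib.Offender.Timmesfeld.fix V A₀ = V ⊓ CS := hfixS A₀ hA₀ hA₀Q
  have hVq : Nat.card V ≤ q * Nat.card ↥(V ⊓ CS) := by
    have h1 := hfit A₀ hA₀
    rw [hVS, ← hcardimg A₀ hA₀.1, ← hqdef, mul_comm (Nat.card (A₀.map mk)), mul_assoc] at h1
    exact Nat.le_of_mul_le_mul_left h1 Nat.card_pos
  -- transfer between the two languages
  have hfixcard : Nat.card (SL2Module.Offender.fixS φ (A₀.map mk)) = Nat.card ↥(V₁ ⊓ CS) := by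
    refine Nat.card_congr
      { toFun := fun v => ⟨((v.1.toMul : V₁) : G), Subgroup.mem_inf.2 ⟨(v.1.toMul : V₁).2, ?_⟩⟩
        invFun := fun v => ⟨Additive.ofMul ⟨v.1, (Subgroup.mem_inf.1 v.2).1⟩, ?_⟩
        left_inv := fun v => rfl
        right_inv := fun v => rfl }
    · have h1 : ((v.1.toMul : V₁) : G) ∈ CfsgLib.Offender.Timmesfeld.fix V A₀ := by
        refine ⟨(v.1.toMul : V₁).2.1, Subgroup.mem_centralizer_iff.2 fun a ha => ?_⟩
        have h := congrArg (fun u : Additive V₁ => ((u.toMul : V₁) : G)) (v.2 _ ⟨a, ha, rfl⟩)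
        exact mul_inv_eq_iff_eq_mul.1 h
      exact (hVS ▸ h1).2
    · rintro _ ⟨a, ha, rfl⟩
      apply Additive.toMul.injective
      apply Subtype.ext
      show a * v.1 * a⁻¹ = v.1
      rw [mul_inv_eq_iff_eq_mul]
      exact Subgroup.mem_centralizer_iff.1 (Subgroup.mem_inf.1 v.2).2 a (hA₀.1 ha)
  have hV₁q : Nat.card V₁ = q * Nat.card ↥(V₁ ⊓ CS) := by
    rw [← hfixcard, ← hcV]
    exact Nat.card_congr Additive.ofMul
  have hVeq : V₁ ⊔ (V ⊓ CS) = V := by
    refine Subgroup.eq_of_le_of_card_ge (sup_le hV₁V inf_le_left) ?_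
    have h1 := CfsgLib.Offender.Timmesfeld.card_mul_card_le V₁ (V ⊓ CS)
    have h2 : Nat.card ↥(V₁ ⊓ (V ⊓ CS)) ≤ Nat.card ↥(V₁ ⊓ CS) :=
      Subgroup.card_le_of_le fun x hx => ⟨hx.1, hx.2.2⟩
    refine Nat.le_of_mul_le_mul_right (?_ : Nat.card V * Nat.card ↥(V₁ ⊓ CS) ≤ _) Nat.card_pos
    refine le_trans ?_ ((h1.trans (Nat.mul_le_mul_left _ h2)))
    rw [hV₁q]
    exact le_trans (Nat.mul_le_mul_right _ hVq) (le_of_eq (by ring))
  have hpow : ∀ v ∈ V, ∀ h : G, Commute (v ^ p) h := by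
    intro v hv h
    have hS₀ : ∀ u ∈ V, ∀ s ∈ (S : Subgroup G), Commute (u ^ p) s := by
      intro u hu s hs
      rw [← hVeq] at hu
      have : u ∈ ((V₁ ⊔ (V ⊓ CS) : Subgroup G) : Set G) := hu
      rw [Subgroup.normal_mul] at this
      obtain ⟨a, ha, b, hb, rfl⟩ := this
      rw [(hVc a ha.1 b hb.1).mul_pow, ha.2, one_mul]
      exact (Subgroup.mem_centralizer_iff.1 (pow_mem hb.2 p) s hs).symm
    let St : Subgroup G :=
      { carrier := {h | ∀ u ∈ V, Commute (u ^ p) h}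
        one_mem' := fun u _ => Commute.one_right _
        mul_mem' := fun {a b} ha hb u hu => (ha u hu).mul_right (hb u hu)
        inv_mem' := fun {a} ha u hu => (ha u hu).inv_right }
    haveI : St.Normal := ⟨fun a ha c u hu => by
      have h1 := (ha _ (hVn.conj_mem u hu c⁻¹)).map (MulAut.conj c).toMonoidHom
      rw [conj_pow, inv_inv] at h1
      simpa [mul_assoc] using h1⟩
    have hle : Subgroup.normalClosure ((S : Subgroup G) : Set G) ≤ St :=
      Subgroup.normalClosure_le_normal fun s hs u hu => hS₀ u hu s hs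
    rw [normalClosure_S st] at hle
    exact hle (Subgroup.mem_top h) v hv
  -- maximal abelian subgroups inside the core
  have hQA : ∀ B : Subgroup G, MaxAb (S : Subgroup G) B → B ≤ Q → ∀ x : G,
      B.map (MulAut.conj x).toMonoidHom ≤ Q := by
    rintro B - hBQ x _ ⟨b, hb, rfl⟩
    exact hQn.conj_mem b (hBQ hb) x
  set A₁ := (A₀ ⊓ Q) ⊔ V with hA₁def
  have hA₁c : ∀ x ∈ A₁, ∀ y ∈ A₁, Commute x y := by
    have hle : A₁ ≤ Subgroup.centralizer (A₁ : Set G) := by
      refine sup_le ?_ ?_ <;> rw [Subgroup.le_centralizer_iff] <;> refine sup_le ?_ ?_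
      · exact fun x hx => Subgroup.mem_centralizer_iff.2 fun y hy => (hA₀.comm y hy.1 x hx.1).eq
      · exact fun x hx => Subgroup.mem_centralizer_iff.2 fun y hy => (hQV y hy.2 x hx).eq
      · exact fun x hx => Subgroup.mem_centralizer_iff.2 fun y hy => (hQV x hx.2 y hy).symm.eq
      · exact fun x hx => Subgroup.mem_centralizer_iff.2 fun y hy => (hVc y hy x hx).eq
    exact fun x hx y hy => Subgroup.mem_centralizer_iff.1 (hle hy) x hx
  have hA₁Q : A₁ ≤ Q := sup_le inf_le_right hVQ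
  have hVA : V ⊓ A₀ ≤ V ⊓ CS := fun v hv =>
    hVS ▸ (⟨hv.1, Subgroup.mem_centralizer_iff.2 fun a ha => (hA₀.comm a ha v hv.2).eq⟩ :
      v ∈ CfsgLib.Offender.Timmesfeld.fix V A₀)
  have hV₁le : q * Nat.card ↥(V ⊓ CS) ≤ Nat.card V := by
    have h2 : Nat.card ↥(V₁ ⊔ (V ⊓ CS)) ≤ Nat.card V := (congrArg (fun H : Subgroup G => Nat.card H) hVeq).le
    have h1 := CfsgLib.Offender.Timmesfeld.card_mul_card_le V₁ (V ⊓ CS)
    have h3 : Nat.card ↥(V₁ ⊓ (V ⊓ CS)) ≤ Nat.card ↥(V₁ ⊓ CS) :=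
      Subgroup.card_le_of_le fun x hx => ⟨hx.1, hx.2.2⟩
    refine Nat.le_of_mul_le_mul_right (?_ : _ * Nat.card ↥(V₁ ⊓ CS) ≤ _) Nat.card_pos
    refine le_trans (le_of_eq ?_) (h1.trans (Nat.mul_le_mul h2 h3))
    rw [hV₁q]; ring
  have hA₁ : MaxAb (S : Subgroup G) A₁ := by
    refine ⟨hA₁Q.trans hQS, isAbExp_zero hA₁c, fun B hB hBe => (hA₀.2.2 B hB hBe).trans ?_⟩
    have h1 := CfsgLib.Offender.Timmesfeld.card_mul_card_le A₀ V
    refine Nat.le_of_mul_le_mul_right (?_ : Nat.card A₀ * Nat.card ↥(V ⊓ CS) ≤ _) Nat.card_pos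
    rw [← hcardimg A₀ hA₀.1, ← hqdef]
    calc q * Nat.card ↥(A₀ ⊓ Q) * Nat.card ↥(V ⊓ CS)
        = Nat.card ↥(A₀ ⊓ Q) * (q * Nat.card ↥(V ⊓ CS)) := by ring
      _ ≤ Nat.card ↥(A₀ ⊓ Q) * Nat.card V := Nat.mul_le_mul_left _ hV₁le
      _ ≤ Nat.card A₁ * Nat.card ↥((A₀ ⊓ Q) ⊓ V) :=
          CfsgLib.Offender.Timmesfeld.card_mul_card_le _ _
      _ ≤ Nat.card A₁ * Nat.card ↥(V ⊓ CS) := Nat.mul_le_mul_left _
          (Subgroup.card_le_of_le fun x hx => hVA ⟨hx.2, hx.1.1⟩)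
  set ZJ := Cfsg.centerThompsonAOf (S : Subgroup G) with hZJdef
  have hzA : ∀ B : Subgroup G, MaxAb (S : Subgroup G) B → ZJ ≤ B := fun B hB z hz =>
    MaxAb.mem_of_commute hB (zj_le hz) fun a ha => zj_commute hB hz ha
  have hZJA₁ : ∀ (x : G), ∀ z ∈ ZJ, x * z * x⁻¹ ∈ A₁ := by
    intro x z hz
    have hc : A₁.map (MulAut.conj x⁻¹).toMonoidHom ≤ (S : Subgroup G) :=
      (hQA A₁ hA₁ hA₁Q x⁻¹).trans hQS
    have hzQ : z ∈ Q := hA₁Q (hzA A₁ hA₁ hz)
    refine MaxAb.mem_of_commute hA₁ (hQS (hQn.conj_mem z hzQ x)) fun a ha => ?_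
    have h1 := zj_commute (maxAb_conj S hA₁ x⁻¹ hc) hz ⟨a, ha, rfl⟩
    have h2 := h1.map (MulAut.conj x).toMonoidHom
    simpa [mul_assoc] using h2
  have hVSzj : V ⊓ CS ≤ ZJ := fun v hv =>
    mem_zj (hQS (hVQ hv.1)) fun B hB b hb => (Subgroup.mem_centralizer_iff.1 hv.2 b (hB.1 hb)).symm
  have hSzj : ∀ s ∈ (S : Subgroup G), ∀ z ∈ ZJ, s * z * s⁻¹ ∈ ZJ := by
    intro s hs z hz
    refine mem_zj (mul_mem (mul_mem hs (zj_le hz)) (inv_mem hs)) fun B hB b hb => ?_
    have hc : B.map (MulAut.conj s⁻¹).toMonoidHom ≤ (S : Subgroup G) := by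
      rintro _ ⟨b, hb, rfl⟩
      exact mul_mem (mul_mem (inv_mem hs) (hB.1 hb)) (inv_mem (inv_mem hs))
    have h1 := zj_commute (maxAb_conj S hB s⁻¹ hc) hz ⟨b, hb, rfl⟩
    have h2 := h1.map (MulAut.conj s).toMonoidHom
    simpa [mul_assoc] using h2
  set U := Subgroup.normalClosure (ZJ : Set G) with hUdef
  haveI hUn : U.Normal := Subgroup.normalClosure_normal
  have hUA₁ : U ≤ A₁ := by
    refine (Subgroup.closure_le _).2 fun u hu => ?_
    rw [Group.conjugatesOfSet, Set.mem_iUnion₂] at hu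
    obtain ⟨z, hz, hzu⟩ := hu
    obtain ⟨c, rfl⟩ := isConj_iff.1 hzu
    exact hZJA₁ c z hz
  have hZJV : ZJ ⊔ V ≤ A₁ := sup_le (hzA A₁ hA₁) le_sup_right
  -- the kernel of the action on `U V / V`
  let L := Subgroup.normalClosure (A₀ : Set G)
  have hLM : ¬ L ≤ M := fun h => hA₀Q fun a ha =>
    normal_le st Subgroup.normalClosure_normal h ⟨Subgroup.le_normalClosure ha, hA₀.1 ha⟩
  -- everything in `L` acts trivially on `U V / V`
  let St : Subgroup G :=
    { carrier := {h | ∀ u ∈ U, (h * u * h⁻¹) * u⁻¹ ∈ V}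
      one_mem' := fun u _ => by simp
      mul_mem' := fun {a b} ha hb u hu => by
        have h1 := ha (b * u * b⁻¹) (hUn.conj_mem u hu b)
        have h2 := hb u hu
        rw [show a * b * u * (a * b)⁻¹ * u⁻¹ =
          (a * (b * u * b⁻¹) * a⁻¹ * (b * u * b⁻¹)⁻¹) * (b * u * b⁻¹ * u⁻¹) by group]
        exact mul_mem h1 h2
      inv_mem' := fun {a} ha u hu => by
        have hu' : a⁻¹ * u * a⁻¹⁻¹ ∈ U := hUn.conj_mem u hu a⁻¹
        have h1 := inv_mem (ha _ hu')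
        rw [show a⁻¹ * u * a⁻¹⁻¹ * u⁻¹ = (a * (a⁻¹ * u * a⁻¹⁻¹) * a⁻¹ * (a⁻¹ * u * a⁻¹⁻¹)⁻¹)⁻¹ by group]
        exact h1 }
  haveI : St.Normal := ⟨fun a ha c u hu => by
    have h1 := hVn.conj_mem _ (ha _ (hUn.conj_mem u hu c⁻¹)) c
    rw [show c * a * c⁻¹ * u * (c * a * c⁻¹)⁻¹ * u⁻¹ =
      c * (a * (c⁻¹ * u * c⁻¹⁻¹) * a⁻¹ * (c⁻¹ * u * c⁻¹⁻¹)⁻¹) * c⁻¹ by group]
    exact h1⟩
  have hL : L ≤ St := Subgroup.normalClosure_le_normal fun a ha u hu => by
    have hu' : u ∈ (((A₀ ⊓ Q) ⊔ V : Subgroup G) : Set G) := hUA₁ hu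
    rw [Subgroup.mul_normal] at hu'
    obtain ⟨x, hx, v, hv, rfl⟩ := hu'
    have hc : Commute a x := hA₀.comm a ha x hx.1
    rw [show a * (x * v) * a⁻¹ * (x * v)⁻¹ = (a * x * a⁻¹) * (a * v * a⁻¹ * v⁻¹) * x⁻¹ by group,
      hc.eq, mul_inv_cancel_right]
    exact hVn.conj_mem _ (mul_mem (hVn.conj_mem v hv a) (inv_mem hv)) x
  -- `ZJ V` is normal
  have hUeq : U ⊔ V ≤ ZJ ⊔ V := by
    refine sup_le ?_ le_sup_right
    haveI hWn : (ZJ ⊔ V).Normal := by
      refine Subgroup.normalizer_eq_top_iff.1 ?_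
      refine top_le_iff.1 ?_
      rw [← sup_eq_top st hLM]
      refine sup_le (fun s hs => ?_) (fun l hl => ?_)
      · refine Subgroup.mem_normalizer_fintype fun y hy => ?_
        have hy' : y ∈ ((ZJ ⊔ V : Subgroup G) : Set G) := hy
        rw [Subgroup.mul_normal] at hy'
        obtain ⟨z, hz, v, hv, rfl⟩ := hy'
        rw [show s * (z * v) * s⁻¹ = (s * z * s⁻¹) * (s * v * s⁻¹) by group]
        exact mul_mem (Subgroup.mem_sup_left (hSzj s hs z hz)) (Subgroup.mem_sup_right (hVn.conj_mem v hv s))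
      · refine Subgroup.mem_normalizer_fintype fun y hy => ?_
        have hy' : y ∈ ((ZJ ⊔ V : Subgroup G) : Set G) := hy
        rw [Subgroup.mul_normal] at hy'
        obtain ⟨z, hz, v, hv, rfl⟩ := hy'
        rw [show l * (z * v) * l⁻¹ = (l * z * l⁻¹ * z⁻¹) * z * (l * v * l⁻¹) by group]
        exact mul_mem (mul_mem (Subgroup.mem_sup_right (hL hl z (Subgroup.le_normalClosure hz)))
          (Subgroup.mem_sup_left hz)) (Subgroup.mem_sup_right (hVn.conj_mem v hv l))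
    exact Subgroup.normalClosure_le_normal fun z hz => Subgroup.mem_sup_left hz
  have hUV : ∀ u ∈ U, ∃ z ∈ ZJ, ∃ v ∈ V, u = z * v := by
    intro u hu
    have h1 : u ∈ ((ZJ ⊔ V : Subgroup G) : Set G) := hUeq (Subgroup.mem_sup_left hu)
    rw [Subgroup.mul_normal] at h1
    obtain ⟨z, hz, v, hv, e⟩ := h1
    exact ⟨z, hz, v, hv, e.symm⟩
  -- `R` normalizes `ZJ`
  have hStp : IsPGroup p (G ⧸ St) := by
    refine IsPGroup.of_surjective S.2 ((QuotientGroup.mk' St).comp (S : Subgroup G).subtype) fun y => ?_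
    obtain ⟨x, rfl⟩ := QuotientGroup.mk'_surjective St y
    have hx : x ∈ (((S : Subgroup G) ⊔ St : Subgroup G) : Set G) := by
      rw [top_le_iff.1 ((sup_eq_top st hLM).ge.trans (sup_le_sup le_rfl hL))]
      trivial
    rw [Subgroup.mul_normal] at hx
    obtain ⟨s, hs, n, hn, rfl⟩ := hx
    refine ⟨⟨s, hs⟩, ?_⟩
    show QuotientGroup.mk' St s = QuotientGroup.mk' St (s * n)
    rw [map_mul, show QuotientGroup.mk' St n = 1 from (QuotientGroup.eq_one_iff n).mpr hn, mul_one]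
  have hprime : ∀ r ∈ R, ∀ n : ℕ, Nat.Coprime n p → r ^ n = 1 → ∀ z ∈ ZJ, Commute r z := by
    intro r hr n hn hrn z hz
    obtain ⟨e, he⟩ := hStp (r : G ⧸ St)
    have hrSt : r ∈ St := by
      refine mem_of_parts (x := r) ((hn.symm.pow_left e) : Nat.Coprime (p ^ e) n) ?_ (by
        rw [hrn]; exact one_mem _)
      exact (QuotientGroup.eq_one_iff _).1 he
    set w := r * z * r⁻¹ * z⁻¹ with hw
    have hwV : w ∈ V := hrSt z (Subgroup.le_normalClosure hz)
    have hrw : Commute r w := (Subgroup.mem_centralizer_iff.1 hr w hwV).symm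
    have hk : ∀ k : ℕ, r ^ k * z * (r ^ k)⁻¹ = w ^ k * z := by
      intro k
      induction k with
      | zero => group
      | succ k ih =>
        calc r ^ (k + 1) * z * (r ^ (k + 1))⁻¹ = r * (r ^ k * z * (r ^ k)⁻¹) * r⁻¹ := by
              rw [pow_succ']; group
          _ = r * (w ^ k * z) * r⁻¹ := by rw [ih]
          _ = w ^ k * (r * z * r⁻¹) := by rw [← mul_assoc, (hrw.pow_right k).eq]; group
          _ = w ^ k * (w * z) := by rw [show w * z = r * z * r⁻¹ from inv_mul_cancel_right _ _]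
          _ = _ := by rw [pow_succ w k]; exact (mul_assoc _ _ _).symm
    have h1 : w ^ n = 1 := by
      have := hk n
      rw [hrn, one_mul, inv_one, mul_one] at this
      exact mul_eq_right.1 this.symm
    obtain ⟨e', he'⟩ := hVp ⟨w, hwV⟩
    have h2 : w ∈ (⊥ : Subgroup G) := mem_of_parts (hn.symm.pow_left e')
      (by rw [show w ^ p ^ e' = 1 from congrArg Subtype.val he']; exact one_mem _)
      (by rw [h1]; exact one_mem _)
    rw [Subgroup.mem_bot, hw, mul_inv_eq_one, mul_inv_eq_iff_eq_mul] at h2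
    exact h2
  have hRZJ : R ≤ Subgroup.normalizer (ZJ : Set G) := by
    intro x hx
    obtain ⟨a, m, hcop, hmp, hord⟩ := exists_parts p x
    refine mem_of_parts hcop ?_ ?_
    · have hc := hprime _ (pow_mem hx (p ^ a)) m hmp (by rw [← pow_mul, ← hord, pow_orderOf_eq_one])
      refine Subgroup.mem_normalizer_fintype fun z hz => ?_
      rw [(hc z hz).eq, mul_inv_cancel_right]
      exact hz
    · have hy : x ^ m ∈ (S : Subgroup G) := hQS (pElement_mem hRn hQn hRS (pow_mem hx m) (n := a)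
        (by rw [← pow_mul, mul_comm, ← hord, pow_orderOf_eq_one]))
      exact Subgroup.mem_normalizer_fintype fun z hz => hSzj _ hy z hz
  set C := ZJ ⊓ ZJ.map (MulAut.conj g).toMonoidHom with hCdef
  have hCzj : C ≤ ZJ := inf_le_left
  have hA₀C : A₀ ≤ Subgroup.centralizer (C : Set G) := fun a ha =>
    Subgroup.mem_centralizer_iff.2 fun c hc => (zj_commute hA₀ (hCzj hc) ha).eq
  have hgA₀C : A₀.map (MulAut.conj g).toMonoidHom ≤ Subgroup.centralizer (C : Set G) := by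
    rintro _ ⟨a, ha, rfl⟩
    refine Subgroup.mem_centralizer_iff.2 fun c hc => ?_
    obtain ⟨z, hz, rfl⟩ := (Subgroup.mem_inf.1 hc).2
    exact ((zj_commute hA₀ hz ha).map (MulAut.conj g).toMonoidHom).eq
  have hRC : R₁ ≤ Subgroup.normalizer (C : Set G) := by
    intro x hx
    refine Subgroup.mem_normalizer_fintype fun c hc => ?_
    obtain ⟨h1, z, hz, e⟩ := Subgroup.mem_inf.1 hc
    have e' : g * z * g⁻¹ = c := e
    refine Subgroup.mem_inf.2 ⟨((Subgroup.mem_normalizer_iff.1 (hRZJ (hR₁le hx))) c).1 h1,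
      (g⁻¹ * x * g) * z * (g⁻¹ * x * g)⁻¹,
      ((Subgroup.mem_normalizer_iff.1 (hRZJ (by
        simpa using hRn.conj_mem x (hR₁le hx) g⁻¹))) z).1 hz, ?_⟩
    show g * ((g⁻¹ * x * g) * z * (g⁻¹ * x * g)⁻¹) * g⁻¹ = x * c * x⁻¹
    rw [← e']
    group
  have htopgen : ∀ H : Subgroup G, A₀ ≤ H → A₀.map (MulAut.conj g).toMonoidHom ≤ H → R₁ ≤ H → H = ⊤ := by
    intro H h1 h2 h3
    have h4 : Strong.pair (A₀.map mk) (g : G ⧸ R₁) ≤ H.map mk := by
      refine sup_le (Subgroup.map_mono h1) ?_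
      rintro _ ⟨_, ⟨a, ha, rfl⟩, rfl⟩
      exact ⟨g * a * g⁻¹, h2 ⟨a, ha, rfl⟩, rfl⟩
    rw [hpairtop, top_le_iff] at h4
    refine eq_top_iff.2 fun x _ => ?_
    obtain ⟨h, hh, e⟩ := h4.ge (Subgroup.mem_top (x : G ⧸ R₁))
    rw [show x = h * (h⁻¹ * x) by group]
    exact mul_mem hh (h3 (QuotientGroup.eq.1 e))
  have hCn : C.Normal := Subgroup.normalizer_eq_top_iff.1 (htopgen _
    (hA₀C.trans (Subgroup.centralizer_le_normalizer _))
    (hgA₀C.trans (Subgroup.centralizer_le_normalizer _)) hRC)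
  have hCM : ¬ Subgroup.centralizer (C : Set G) ≤ M := fun h => hA₀Q fun a ha => by
    haveI := hCn
    exact normal_le st (N := Subgroup.centralizer (C : Set G)) Subgroup.normal_centralizer h
      ⟨hA₀C ha, hA₀.1 ha⟩
  -- sizes
  set ZG := V ⊓ Subgroup.center G with hZGdef
  have hUcard : Nat.card ↥(ZJ ⊔ V) ≤ q * Nat.card ZJ := by
    have e : Nat.card ↥(ZJ ⊔ V) * Nat.card ↥(ZJ ⊓ V) = Nat.card ZJ * Nat.card V := by
      have h1 := Coprime.relIndex_mul_card_inf V ZJ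
      have h2 := Coprime.relIndex_mul_card_inf V (ZJ ⊔ V)
      rw [inf_eq_left.2 (le_sup_right : V ≤ ZJ ⊔ V), Subgroup.relIndex_sup_right] at h2
      rw [inf_comm ZJ V, ← h1, ← h2]; ring
    refine Nat.le_of_mul_le_mul_right (?_ : _ * Nat.card ↥(ZJ ⊓ V) ≤ _) Nat.card_pos
    rw [e]
    calc Nat.card ZJ * Nat.card V ≤ Nat.card ZJ * (q * Nat.card ↥(V ⊓ CS)) := Nat.mul_le_mul_left _ hVq
      _ ≤ Nat.card ZJ * (q * Nat.card ↥(ZJ ⊓ V)) := Nat.mul_le_mul_left _ (Nat.mul_le_mul_left _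
          (Subgroup.card_le_of_le (le_inf hVSzj inf_le_left)))
      _ = _ := by ring
  have hCcard : Nat.card ZJ ≤ q * Nat.card C := by
    have h1 := CfsgLib.Offender.Timmesfeld.card_mul_card_le ZJ (ZJ.map (MulAut.conj g).toMonoidHom)
    rw [Subgroup.card_map_of_injective (MulAut.conj g).injective] at h1
    have h2 : ZJ ⊔ ZJ.map (MulAut.conj g).toMonoidHom ≤ ZJ ⊔ V := by
      refine sup_le le_sup_left ?_
      rintro _ ⟨z, hz, rfl⟩
      exact hUeq (Subgroup.mem_sup_left (hUn.conj_mem z (Subgroup.le_normalClosure hz) g))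
    refine Nat.le_of_mul_le_mul_left (h1.trans ?_) (Nat.card_pos (α := ZJ))
    refine (Nat.mul_le_mul_right _ ((Subgroup.card_le_of_le h2).trans hUcard)).trans (le_of_eq ?_)
    rw [hCdef]; ring
  have hW : (V ⊓ CS) ⊓ C ≤ ZG := fun v hv => ⟨hv.1.1, Subgroup.mem_center_iff.2 fun x => by
    have htop := htopgen (Subgroup.centralizer ({v} : Set G))
      (fun a ha => Subgroup.mem_centralizer_singleton_iff.2
        (Subgroup.mem_centralizer_iff.1 (hA₀C ha) v hv.2).symm)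
      (fun a ha => Subgroup.mem_centralizer_singleton_iff.2
        (Subgroup.mem_centralizer_iff.1 (hgA₀C ha) v hv.2).symm)
      (fun a ha => Subgroup.mem_centralizer_singleton_iff.2
        (Subgroup.mem_centralizer_iff.1 (hR₁le ha) v hv.1.1).symm)
    exact Subgroup.mem_centralizer_singleton_iff.1 (htop.ge (Subgroup.mem_top x))⟩
  have hV₁ZG : Nat.card ↥(V₁ ⊓ CS) = q * Nat.card ↥(V₁ ⊓ Subgroup.center G) := by
    rw [← hfixcard, hcC]
    congr 1
    refine Nat.card_congr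
      { toFun := fun v => ⟨((v.1.toMul : V₁) : G), Subgroup.mem_inf.2 ⟨(v.1.toMul : V₁).2,
          Subgroup.mem_center_iff.2 fun x => ?_⟩⟩
        invFun := fun v => ⟨Additive.ofMul ⟨v.1, (Subgroup.mem_inf.1 v.2).1⟩, ?_⟩
        left_inv := fun v => rfl
        right_inv := fun v => rfl }
    · have h := congrArg (fun u : Additive V₁ => ((u.toMul : V₁) : G))
        (v.2 (x : G ⧸ R₁) (Subgroup.mem_top _))
      exact mul_inv_eq_iff_eq_mul.1 h
    · intro y _
      obtain ⟨x, rfl⟩ := QuotientGroup.mk_surjective y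
      apply Additive.toMul.injective
      apply Subtype.ext
      show x * v.1 * x⁻¹ = v.1
      rw [mul_inv_eq_iff_eq_mul]
      exact Subgroup.mem_center_iff.1 (Subgroup.mem_inf.1 v.2).2 x
  have hVSlow : q * Nat.card ZG ≤ Nat.card ↥(V ⊓ CS) := by
    have h1 := CfsgLib.Offender.Timmesfeld.card_mul_card_le (V₁ ⊓ CS) ZG
    have h2 : Nat.card ↥((V₁ ⊓ CS) ⊔ ZG) ≤ Nat.card ↥(V ⊓ CS) :=
      Subgroup.card_le_of_le (sup_le (inf_le_inf_right _ hV₁V) (inf_le_inf_left _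
        (Subgroup.center_le_centralizer _)))
    have h3 : Nat.card ↥((V₁ ⊓ CS) ⊓ ZG) ≤ Nat.card ↥(V₁ ⊓ Subgroup.center G) :=
      Subgroup.card_le_of_le fun x hx => ⟨hx.1.1, hx.2.2⟩
    refine Nat.le_of_mul_le_mul_right (?_ : _ * Nat.card ↥(V₁ ⊓ Subgroup.center G) ≤ _) Nat.card_pos
    refine le_trans (le_of_eq ?_) (h1.trans (Nat.mul_le_mul h2 h3))
    rw [hV₁ZG]; ring
  have hdec : ZJ ≤ (V ⊓ CS) ⊔ C := by
    refine (Subgroup.eq_of_le_of_card_ge (sup_le hVSzj hCzj) ?_).ge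
    have h1 := CfsgLib.Offender.Timmesfeld.card_mul_card_le (V ⊓ CS) C
    have h2 := h1.trans (Nat.mul_le_mul_left _ (Subgroup.card_le_of_le hW))
    refine Nat.le_of_mul_le_mul_right (?_ : _ * Nat.card ZG ≤ _) Nat.card_pos
    refine le_trans ?_ h2
    calc Nat.card ZJ * Nat.card ZG ≤ q * Nat.card C * Nat.card ZG := Nat.mul_le_mul_right _ hCcard
      _ = q * Nat.card ZG * Nat.card C := by ring
      _ ≤ _ := Nat.mul_le_mul_right _ hVSlow
  refine ⟨⟨fun v hv x => hpow v (Subgroup.le_normalClosure hv) x, hAQ A₀ hA₀ hA₀Q, C, hCn, hCzj, hCM,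
    fun z hz => ?_⟩, hquad, ?_⟩
  swap
  · have h1 : q * Nat.card ↥(A₀ ⊓ Q) = Nat.card A₀ := hcardimg A₀ hA₀.1
    have h2 := hcardimg (S : Subgroup G) le_rfl
    rw [inf_eq_right.2 hQS, ← (hA₀S : A₀.map mk = _), ← hqdef] at h2
    calc Nat.card V * Nat.card Q ≤ q * Nat.card ↥(V ⊓ CS) * Nat.card Q := Nat.mul_le_mul_right _ hVq
      _ = q * Nat.card Q * Nat.card ↥(V ⊓ CS) := by ring
      _ = _ := by rw [h2]
  haveI := hCn
  have hz' : z ∈ (((V ⊓ CS) ⊔ C : Subgroup G) : Set G) := hdec hz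
  rw [Subgroup.mul_normal] at hz'
  obtain ⟨w, hw, c, hc, e⟩ := hz'
  exact ⟨w, c, hc, e.symm, fun s hs => (Subgroup.mem_centralizer_iff.1 hw.2 s hs).symm⟩


/-- The structure when some maximal abelian subgroup is not in the core. -/
theorem structure_thm (st : Setting S M π) {A₀ : Subgroup G} (hA₀ : MaxAb (S : Subgroup G) A₀)
    (hA₀Q : ¬ A₀ ≤ Cfsg.pCore p G)
    (hV : Subgroup.centralizer
      ((Subgroup.normalClosure (((S : Subgroup G) ⊓ Subgroup.centralizer ((S : Subgroup G) : Set G) :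
        Subgroup G) : Set G) : Subgroup G) : Set G) ≤ M) :
    (∀ v ∈ (S : Subgroup G) ⊓ Subgroup.centralizer ((S : Subgroup G) : Set G), ∀ g, Commute (v ^ p) g) ∧
      (∀ s ∈ (S : Subgroup G), ∃ a ∈ A₀, a⁻¹ * s ∈ Cfsg.pCore p G) ∧
      ∃ C : Subgroup G, C.Normal ∧ C ≤ Cfsg.centerThompsonAOf (S : Subgroup G) ∧
        ¬ Subgroup.centralizer (C : Set G) ≤ M ∧
        ∀ z ∈ Cfsg.centerThompsonAOf (S : Subgroup G), ∃ w, ∃ c ∈ C, z = w * c ∧
          (∀ s ∈ (S : Subgroup G), Commute w s) :=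
  (structure_full st hA₀ hA₀Q hV).1

end CfsgLib.SL2Module.Baumann
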