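import Cfsg.Agent.Lib.SL2Module.Natural
import Cfsg.Agent.Lib.Jordan.CWField

/-!
A group generated by two groups of elations with different axes, whose axes form a spread, is `SL₂` on
its natural module.
-/

set_option autoImplicit false
set_option linter.unusedSectionVars false

namespace CfsgLib.SL2Module.Spread

open CfsgLib.SL2 CfsgLib.SL2Module
open scoped MatrixGroups

universe u v

variable {P : Type u} [Group P] [Finite P] {V : Type v} [AddCommGroup V] [Finite V]

/-- The module of column vectors as an action. -/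
def theta {F : Type*} [Field F] (L : (Fin 2 → F) ≃+ V) : SL(2, F) →* AddMonoid.End V where
  toFun g :=
    { toFun := fun v => L ((g : Matrix (Fin 2) (Fin 2) F).mulVec (L.symm v))
      map_zero' := by simp
      map_add' := fun a b => by simp only [map_add, Matrix.mulVec_add] }
  map_one' := AddMonoidHom.ext fun v => by
    show L (((1 : SL(2, F)) : Matrix (Fin 2) (Fin 2) F).mulVec (L.symm v)) = v
    rw [Matrix.SpecialLinearGroup.coe_one, Matrix.one_mulVec, L.apply_symm_apply]
  map_mul' a b := AddMonoidHom.ext fun v => by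
    show L (((a * b : SL(2, F)) : Matrix (Fin 2) (Fin 2) F).mulVec (L.symm v)) =
      L ((a : Matrix (Fin 2) (Fin 2) F).mulVec (L.symm (L ((b : Matrix (Fin 2) (Fin 2) F).mulVec (L.symm v)))))
    rw [L.symm_apply_apply, Matrix.mulVec_mulVec, Matrix.SpecialLinearGroup.coe_mul]

theorem theta_injective {F : Type*} [Field F] (L : (Fin 2 → F) ≃+ V) :
    Function.Injective (theta L) := by
  intro a b h
  apply Subtype.ext
  refine Matrix.ext_of_mulVec_single fun i => ?_
  have h' := DFunLike.congr_fun h (L (Pi.single i 1))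
  change L ((a : Matrix (Fin 2) (Fin 2) F).mulVec (L.symm (L (Pi.single i 1)))) =
    L ((b : Matrix (Fin 2) (Fin 2) F).mulVec (L.symm (L (Pi.single i 1)))) at h'
  rw [L.symm_apply_apply] at h'
  exact L.injective h'

theorem up_mulVec {F : Type*} [Field F] (t : F) (y : Fin 2 → F) :
    (up t : Matrix (Fin 2) (Fin 2) F).mulVec y = ![y 0 + t * y 1, y 1] := by
  funext i
  fin_cases i <;> simp [up_coe, Matrix.mulVec, dotProduct, Fin.sum_univ_two]

theorem lo_mulVec {F : Type*} [Field F] (t : F) (y : Fin 2 → F) :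
    (lo t : Matrix (Fin 2) (Fin 2) F).mulVec y = ![y 0, y 1 + t * y 0] := by
  funext i
  fin_cases i <;> simp [lo_coe, Matrix.mulVec, dotProduct, Fin.sum_univ_two, add_comm]

theorem exists_sl2 {p : ℕ} [hp : Fact p.Prime] (hV : ∀ v : V, p • v = 0)
    (φ : P →* AddMonoid.End V) (hφ : Function.Injective φ) (A : Subgroup P) (hA : A ≠ ⊥) (x : P)
    (W : AddSubgroup V) (hW : W ≠ ⊥)
    (hfix : ∀ a ∈ A, ∀ w ∈ W, φ a w = w) (hquad : ∀ a ∈ A, ∀ v, φ a v - v ∈ W)
    (hmeet : ∀ v ∈ W, φ x v ∈ W → v = 0) (hjoin : ∀ v, ∃ e ∈ W, ∃ e' ∈ W, v = e + φ x e')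
    (hinj : ∀ a ∈ A, ∀ e ∈ W, e ≠ 0 → φ a (φ x e) = φ x e → a = 1)
    (hsurj : ∀ e ∈ W, e ≠ 0 → ∀ w ∈ W, ∃ a ∈ A, φ a (φ x e) - φ x e = w)
    (hspread : ∀ g : P, (∀ w ∈ W, φ g w ∈ W) ∨ ∃ a ∈ A, ∀ w ∈ W, ∃ w' ∈ W, φ g w = φ (a * x) w')
    (hgen : A ⊔ A.map (MulAut.conj x).toMonoidHom = ⊤) :
    ∃ (F : Type) (_ : Field F) (_ : Fintype F), Fintype.card F = Nat.card A ∧
      ∃ (L : (Fin 2 → F) ≃+ V) (ρ : P ≃* SL(2, F)), (∀ (g : P) (y : Fin 2 → F),
        φ g (L y) = L ((ρ g : Matrix (Fin 2) (Fin 2) F).mulVec y)) ∧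
          ∀ y, L y ∈ W ↔ y 1 = 0 := by
  classical
  have comp : ∀ (g h : P) (v : V), φ (g * h) v = φ g (φ h v) := fun g h v => by
    rw [map_mul]; rfl
  have one_app : ∀ v : V, φ 1 v = v := fun v => by rw [map_one]; rfl
  have injg : ∀ (g : P) {v v' : V}, φ g v = φ g v' → v = v' := fun g v v' h => by
    have h' := congrArg (φ g⁻¹) h
    rwa [← comp, ← comp, inv_mul_cancel, one_app, one_app] at h'
  -- the maps `W → W` given by the elements of `A`
  let N : A → AddMonoid.End W := fun a =>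
    { toFun := fun e => ⟨φ a (φ x e) - φ x e, hquad a a.2 _⟩
      map_zero' := Subtype.ext (by simp)
      map_add' := fun e e' => Subtype.ext (by
        simp only [AddSubgroup.coe_add, map_add]; abel) }
  have hN : ∀ (a : A) (e : W), φ a (φ x e) = (N a e : V) + φ x e := fun a e => by
    show _ = φ a (φ x e) - φ x e + φ x e
    rw [sub_add_cancel]
  have hNadd : ∀ (a b : A) e, N (a * b) e = N a e + N b e := fun a b e => Subtype.ext (by
    show φ ((a : P) * b) (φ x e) - φ x e = (N a e : V) + (N b e : V)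
    rw [comp, hN b, map_add, hfix a a.2 _ (N b e).2, hN a]
    abel)
  have hN1 : ∀ e, N 1 e = 0 := fun e => Subtype.ext (by
    show φ 1 (φ x e) - φ x e = 0
    rw [one_app, sub_self])
  have hNbij : ∀ a : A, a ≠ 1 → Function.Bijective (N a) := fun a ha =>
    Finite.injective_iff_bijective.1 ((injective_iff_map_eq_zero _).2 fun e he => by
      by_contra h0
      exact ha (Subtype.ext (hinj a a.2 e e.2 (fun h => h0 (Subtype.ext h))
        (by rw [hN, he]; exact zero_add _))))
  haveI : Nontrivial A := (Subgroup.nontrivial_iff_ne_bot A).2 hA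
  obtain ⟨a₁, ha₁⟩ := exists_ne (1 : A)
  let j : W ≃+ W := AddEquiv.ofBijective (N a₁) (hNbij a₁ ha₁)
  let n : A → AddMonoid.End W := fun a => (N a).comp j.symm.toAddMonoidHom
  have hn1 : n a₁ = 1 := AddMonoidHom.ext fun e => j.apply_symm_apply e
  have hnbij : ∀ a : A, a ≠ 1 → Function.Bijective (n a) := fun a ha =>
    (hNbij a ha).comp j.symm.bijective
  have hnadd : ∀ a b, n (a * b) = n a + n b := fun a b => AddMonoidHom.ext fun e => hNadd a b _
  have hn0 : n 1 = 0 := AddMonoidHom.ext fun e => hN1 _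
  have hnneg : ∀ a, n a⁻¹ = - n a := fun a => eq_neg_of_add_eq_zero_left (by
    rw [← hnadd, inv_mul_cancel, hn0])
  -- coordinates
  let f : W × W →+ V :=
    { toFun := fun z => (z.1 : V) + φ x (j.symm z.2 : W)
      map_zero' := by simp
      map_add' := fun z z' => by
        simp only [Prod.fst_add, Prod.snd_add, AddSubgroup.coe_add, map_add]; abel }
  have hfbij : Function.Bijective f := by
    refine ⟨(injective_iff_map_eq_zero f).2 fun z hz => ?_, fun v => ?_⟩
    · have hz' : (z.1 : V) + φ x (j.symm z.2 : W) = 0 := hz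
      have h1 : φ x (j.symm z.2 : W) ∈ W := by
        rw [eq_neg_of_add_eq_zero_right hz']; exact neg_mem z.1.2
      have h2 : (j.symm z.2 : W) = 0 := Subtype.ext (hmeet _ (j.symm z.2).2 h1)
      have h3 : z.2 = 0 := j.symm.injective (h2.trans (map_zero _).symm)
      rw [h2, AddSubgroup.coe_zero, map_zero, add_zero] at hz'
      exact Prod.ext (Subtype.ext hz') h3
    · obtain ⟨e, he, e', he', rfl⟩ := hjoin v
      exact ⟨(⟨e, he⟩, j ⟨e', he'⟩), by simp [f]⟩
  let c : W → W → V := fun a b => f (a, b)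
  have hc : ∀ {a b a' b'}, c a b = c a' b' → a = a' ∧ b = b' := fun h =>
    Prod.ext_iff.1 (hfbij.1 h)
  have hUc : ∀ (a : A) e e', φ a (c e e') = c (e + n a e') e' := fun a e e' => by
    show φ a ((e : V) + φ x (j.symm e' : W)) = ((e : V) + (N a (j.symm e') : V)) + φ x (j.symm e' : W)
    rw [map_add, hfix a a.2 _ e.2, hN, add_assoc]
  -- the second group
  have hLfix : ∀ (a : A) (e' : W), φ (x * (a : P) * x⁻¹) (φ x e') = φ x e' := fun a e' => by
    rw [← comp, inv_mul_cancel_right, comp, hfix a a.2 _ e'.2]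
  have hLc : ∀ (a : A), ∃ m : AddMonoid.End W, ∀ e e', φ (x * (a : P) * x⁻¹) (c e e') = c e (e' + m e) := by
    intro a
    have h : ∀ e : W, ∃ e', φ (x * (a : P) * x⁻¹) (e : V) = c e e' := fun e => by
      have h1 : φ (a : P) (φ x⁻¹ (e : V)) - φ x⁻¹ (e : V) ∈ W := hquad a a.2 _
      refine ⟨j ⟨_, h1⟩, ?_⟩
      show _ = (e : V) + φ x (j.symm (j ⟨_, h1⟩) : W)
      rw [j.symm_apply_apply, map_sub, ← comp, ← comp, ← comp, mul_inv_cancel, one_app, mul_assoc]
      abel
    choose m hm using h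
    have hadd : ∀ e e' : W, m (e + e') = m e + m e' := fun e e' => by
      have h1 := hm (e + e')
      rw [AddSubgroup.coe_add, map_add, hm, hm] at h1
      have h2 : c (e + e') (m e + m e') = c e (m e) + c e' (m e') := map_add f (e, m e) (e', m e')
      exact ((hc (h2.trans h1)).2).symm
    refine ⟨AddMonoidHom.mk' m hadd, fun e e' => ?_⟩
    show φ _ ((e : V) + φ x (j.symm e' : W)) = _
    rw [map_add, hLfix, hm]
    show (e : V) + φ x (j.symm (m e) : W) + φ x (j.symm e' : W) =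
      (e : V) + φ x (j.symm (e' + m e) : W)
    rw [map_add j.symm, AddSubgroup.coe_add, map_add]
    abel
  choose m hm using hLc
  have hm0 : ∀ a : A, m a = 0 → a = 1 := fun a h => by
    refine Subtype.ext ?_
    have h1 : φ (x * (a : P) * x⁻¹) = φ 1 := AddMonoidHom.ext fun v => by
      obtain ⟨⟨e, e'⟩, rfl⟩ := hfbij.2 v
      show φ _ (c e e') = φ 1 (c e e')
      rw [one_app, hm, h, AddMonoid.End.zero_apply, add_zero]
    exact conj_eq_one_iff.1 (hφ h1)
  -- every graph is the axis of an element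
  have hgraph : ∀ (g : P) (ψ : AddMonoid.End W), (∀ y, φ g (c 0 y) = c (ψ y) y) →
      ∃ a, ψ = n a := by
    intro g ψ hg
    have hW' : ∃ e : W, e ≠ 0 := by
      by_contra h
      push Not at h
      exact hW ((AddSubgroup.eq_bot_iff_forall _).2 fun w hw => congrArg Subtype.val (h ⟨w, hw⟩))
    have hx : ∀ w : W, φ (g * x) w = c (ψ (j w)) (j w) := fun w => by
      rw [comp, ← hg (j w)]
      congr 1
      show φ x (w : V) = ((0 : W) : V) + φ x (j.symm (j w) : W)
      rw [j.symm_apply_apply, AddSubgroup.coe_zero, zero_add]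
    rcases hspread (g * x) with h | ⟨a, ha, h⟩
    · obtain ⟨e, he⟩ := hW'
      exfalso
      have h1 := h (j.symm e : W) (j.symm e).2
      rw [hx, j.apply_symm_apply] at h1
      have h2 : c (ψ e) e = c ⟨_, h1⟩ 0 := by
        show _ = ((⟨c (ψ e) e, h1⟩ : W) : V) + φ x (j.symm 0 : W)
        simp
      exact he (hc h2).2
    · refine ⟨⟨a, ha⟩, AddMonoidHom.ext fun e => ?_⟩
      obtain ⟨w', hw', e'⟩ := h (j.symm e : W) (j.symm e).2
      rw [hx, j.apply_symm_apply, comp,
        show φ a (φ x w') = c (n ⟨a, ha⟩ (j ⟨w', hw'⟩)) (j ⟨w', hw'⟩) by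
          show φ a (φ x w') = ((N ⟨a, ha⟩ (j.symm (j ⟨w', hw'⟩))) : V) + φ x (j.symm (j ⟨w', hw'⟩) : W)
          rw [j.symm_apply_apply]
          exact hN ⟨a, ha⟩ ⟨w', hw'⟩] at e'
      obtain ⟨h1, h2⟩ := hc e'
      show ψ e = n ⟨a, ha⟩ e
      rw [h1, h2]
  -- the partner of an element
  have hpartner : ∀ b : A, b ≠ 1 → ∃ a : A, n a * m b = 1 := by
    intro b hb
    rcases hspread (x * (b : P) * x⁻¹) with h | ⟨a, ha, h⟩
    · exfalso
      refine hb (hm0 b (AddMonoidHom.ext fun e => ?_))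
      have h1 := h e e.2
      have h2 : φ (x * (b : P) * x⁻¹) (e : V) = c e (m b e) := by
        have := hm b e 0
        simpa [c, f] using this
      rw [h2] at h1
      have h3 : c e (m b e) = c ⟨_, h1⟩ 0 := by simp [c, f]
      exact (hc h3).2
    · refine ⟨⟨a, ha⟩, AddMonoidHom.ext fun e => ?_⟩
      obtain ⟨w', hw', e'⟩ := h e e.2
      have h2 : φ (x * (b : P) * x⁻¹) (e : V) = c e (m b e) := by
        have := hm b e 0
        simpa [c, f] using this
      rw [h2, comp,
        show φ a (φ x w') = c (n ⟨a, ha⟩ (j ⟨w', hw'⟩)) (j ⟨w', hw'⟩) by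
          show φ a (φ x w') = ((N ⟨a, ha⟩ (j.symm (j ⟨w', hw'⟩))) : V) + φ x (j.symm (j ⟨w', hw'⟩) : W)
          rw [j.symm_apply_apply]
          exact hN ⟨a, ha⟩ ⟨w', hw'⟩] at e'
      obtain ⟨h1, h3⟩ := hc e'
      show n ⟨a, ha⟩ (m b e) = e
      rw [h3, ← h1]
  have hpart_ne : ∀ {a b : A}, n a * m b = 1 → a ≠ 1 := by
    intro a b h ha
    rw [ha, hn0, zero_mul] at h
    obtain ⟨e, he⟩ : ∃ e : W, e ≠ 0 := by
      by_contra hc'
      push Not at hc'
      exact hW ((AddSubgroup.eq_bot_iff_forall _).2 fun w hw => congrArg Subtype.val (hc' ⟨w, hw⟩))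
    exact he (DFunLike.congr_fun h e).symm
  have hinjn : Function.Injective n := fun a b h => by
    by_contra hne
    have h1 : n (a * b⁻¹) = 0 := by rw [hnadd, hnneg, h, add_neg_cancel]
    obtain ⟨e, he⟩ : ∃ e : W, e ≠ 0 := by
      by_contra hc'
      push Not at hc'
      exact hW ((AddSubgroup.eq_bot_iff_forall _).2 fun w hw => congrArg Subtype.val (hc' ⟨w, hw⟩))
    refine he ((hnbij (a * b⁻¹) fun h2 => hne (mul_inv_eq_one.1 h2)).1 ?_)
    rw [h1]; rfl
  -- converse
  have hpartner' : ∀ a : A, a ≠ 1 → ∃ b : A, n a * m b = 1 := by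
    choose g hg using hpartner
    let G' : {b : A // b ≠ 1} → {a : A // a ≠ 1} := fun b =>
      ⟨g b.1 b.2, hpart_ne (hg b.1 b.2)⟩
    have hG : Function.Injective G' := by
      rintro ⟨b, hb⟩ ⟨b', hb'⟩ h
      have h' : g b hb = g b' hb' := congrArg Subtype.val h
      have h1 := hg b hb
      rw [h', ← hg b' hb'] at h1
      have h2 : m b = m b' := AddMonoidHom.ext fun e =>
        (hnbij _ (hpart_ne (hg b' hb'))).1 (DFunLike.congr_fun h1 e)
      have h3 : φ (x * (b : P) * x⁻¹) = φ (x * (b' : P) * x⁻¹) := AddMonoidHom.ext fun v => by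
        obtain ⟨⟨e, e'⟩, rfl⟩ := hfbij.2 v
        show φ _ (c e e') = φ _ (c e e')
        rw [hm, hm, h2]
      exact Subtype.ext (Subtype.ext (mul_left_cancel (mul_right_cancel (hφ h3))))
    intro a ha
    obtain ⟨⟨b, hb⟩, he⟩ := (Finite.injective_iff_surjective.1 hG) ⟨a, ha⟩
    have he' : g b hb = a := congrArg Subtype.val he
    exact ⟨b, he' ▸ hg b hb⟩
  have hleft : ∀ {a b : A}, n a * m b = 1 → m b * n a = 1 := fun {a b} h =>
    AddMonoidHom.ext fun e => (hnbij a (hpart_ne h)).1 (DFunLike.congr_fun h (n a e))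
  -- closure under `k n k`
  have htriple : ∀ a b : A, a ≠ 1 → ∃ a' : A, n a' = n a * m b * n a := by
    intro a b ha
    obtain ⟨b₀, hb₀⟩ := hpartner' a⁻¹ (inv_ne_one.2 ha)
    have hb₀' := hleft hb₀
    rw [hnneg] at hb₀ hb₀'
    set B₀ := x * (b₀ : P) * x⁻¹
    set u := (a : P) * B₀ * a with hu
    have hu0 : ∀ e, φ u (c 0 e) = c (n a e) 0 := fun e => by
      rw [hu, comp, comp, hUc, zero_add, hm,
        show e + m b₀ (n a e) = 0 from by
          have h1 : -(m b₀ (n a e)) = e := by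
            rw [← map_neg]
            exact DFunLike.congr_fun hb₀' e
          rw [add_comm]
          exact neg_eq_iff_add_eq_zero.1 h1,
        hUc, map_zero, add_zero]
    have hu1 : ∀ e, φ u (c e 0) = c 0 (m b₀ e) := fun e => by
      rw [hu, comp, comp, hUc, map_zero, add_zero, hm, zero_add, hUc]
      congr 1
      have h1 : -(n a (m b₀ e)) = e := DFunLike.congr_fun hb₀ e
      rw [add_comm]
      exact neg_eq_iff_add_eq_zero.1 h1
    set g := u * (x * (b : P) * x⁻¹) * u⁻¹ with hg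
    obtain ⟨a', ha'⟩ := hgraph g (-(n a * m b * n a)) fun y => by
      have h1 : φ u (c (-(n a y)) 0) = c 0 y := by
        rw [hu1, map_neg]
        congr 1
        have h1 : -(m b₀ (n a y)) = y := by
          rw [← map_neg]
          exact DFunLike.congr_fun hb₀' y
        exact h1
      have h2 : φ g (c 0 y) = φ u (c (-(n a y)) (m b (-(n a y)))) := by
        rw [← h1, ← comp, hg, inv_mul_cancel_right, comp, hm, zero_add]
      rw [h2]
      have h3 : c (-(n a y)) (m b (-(n a y))) = c (-(n a y)) 0 + c 0 (m b (-(n a y))) := by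
        show f _ = f _ + f _
        rw [← map_add, Prod.mk_add_mk, add_zero, zero_add]
      rw [h3, map_add, h1, hu0]
      show f _ + f _ = f _
      rw [← map_add, Prod.mk_add_mk, zero_add, add_zero]
      congr 2
      simp only [map_neg]
      rfl
    exact ⟨a'⁻¹, by rw [hnneg, ← ha', neg_neg]⟩
  let E₀ : AddSubgroup (AddMonoid.End W) :=
    { carrier := Set.range n
      zero_mem' := ⟨1, hn0⟩
      add_mem' := by rintro _ _ ⟨a, rfl⟩ ⟨b, rfl⟩; exact ⟨a * b, hnadd a b⟩
      neg_mem' := by rintro _ ⟨a, rfl⟩; exact ⟨a⁻¹, hnneg a⟩ }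
  have hinv : ∀ a : A, a ≠ 1 → ∃ a' b : A, n a * m b = 1 ∧ n a' = m b := by
    intro a ha
    obtain ⟨b, hb⟩ := hpartner' a ha
    obtain ⟨a', ha'⟩ := htriple a₁ b ha₁
    exact ⟨a', b, hb, by rw [ha', hn1, one_mul, mul_one]⟩
  have htri : ∀ y ∈ E₀, ∀ z ∈ E₀, y * z * y ∈ E₀ := by
    rintro _ ⟨a, rfl⟩ _ ⟨a₂, rfl⟩
    by_cases h2 : a₂ = 1
    · rw [h2, hn0, mul_zero, zero_mul]; exact zero_mem _
    by_cases ha : a = 1
    · rw [ha, hn0, zero_mul, zero_mul]; exact zero_mem _
    obtain ⟨a', b, hb, hab⟩ := hinv a₂ h2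
    have ha'1 : a' ≠ 1 := fun h => by
      rw [h, hn0] at hab
      exact h2 ((hpart_ne hb) |> fun _ => by
        by_contra h2'
        rw [← hab, mul_zero] at hb
        obtain ⟨e, he⟩ : ∃ e : W, e ≠ 0 := by
          by_contra hc'
          push Not at hc'
          exact hW ((AddSubgroup.eq_bot_iff_forall _).2 fun w hw => congrArg Subtype.val (hc' ⟨w, hw⟩))
        exact he (DFunLike.congr_fun hb e).symm)
    obtain ⟨b', hb'⟩ := hpartner' a' ha'1
    have e : m b' = n a₂ := by
      have h1 : (n a₂ * n a') * m b' = n a₂ * (n a' * m b') := mul_assoc _ _ _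
      rw [hb', hab, hb, one_mul, mul_one] at h1
      exact h1
    obtain ⟨a'', ha''⟩ := htriple a b' ha
    exact ⟨a'', by rw [ha'', e]⟩
  -- pass to matrices
  letI : Module (ZMod p) W := AddCommGroup.zmodModule (n := p) (fun w : W =>
    show p • w = 0 from Subtype.ext ((AddSubmonoidClass.coe_nsmul w p).trans (hV w)))
  haveI : Module.Finite (ZMod p) W := Module.Finite.of_finite
  let bW := Module.finBasis (ZMod p) W
  let toM : AddMonoid.End W →+* Matrix (Fin (Module.finrank (ZMod p) W)) (Fin (Module.finrank (ZMod p) W)) (ZMod p) :=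
    { toFun := fun ψ => LinearMap.toMatrixAlgEquiv bW (AddMonoidHom.toZModLinearMap p ψ)
      map_one' := by
        rw [show AddMonoidHom.toZModLinearMap p (1 : AddMonoid.End W) = 1 from LinearMap.ext fun _ => rfl,
          map_one]
      map_mul' := fun ψ χ => by
        rw [← map_mul]
        exact congrArg _ (LinearMap.ext fun _ => rfl)
      map_zero' := by
        rw [show AddMonoidHom.toZModLinearMap p (0 : AddMonoid.End W) = 0 from LinearMap.ext fun _ => rfl,
          map_zero]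
      map_add' := fun ψ χ => by
        rw [← map_add]
        exact congrArg _ (LinearMap.ext fun _ => rfl) }
  have htoMinj : Function.Injective toM := fun ψ χ h => AddMonoidHom.ext fun e => by
    exact DFunLike.congr_fun ((LinearMap.toMatrixAlgEquiv bW).injective h) e
  obtain ⟨w₀, hw₀, hw₀0⟩ : ∃ w ∈ W, w ≠ 0 := by
    by_contra h
    push Not at h
    exact hW ((AddSubgroup.eq_bot_iff_forall _).2 h)
  haveI : Nontrivial W := ⟨⟨⟨w₀, hw₀⟩, 0, fun h => hw₀0 (congrArg Subtype.val h)⟩⟩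
  haveI : Nonempty (Fin (Module.finrank (ZMod p) W)) :=
    Fin.pos_iff_nonempty.1 Module.finrank_pos
  let E := AddSubgroup.toZModSubmodule p (E₀.map toM.toAddMonoidHom)
  have hE : ∀ y, y ∈ E ↔ ∃ a, toM (n a) = y := fun y => by
    show y ∈ E₀.map toM.toAddMonoidHom ↔ _
    constructor
    · rintro ⟨_, ⟨a, rfl⟩, rfl⟩; exact ⟨a, rfl⟩
    · rintro ⟨a, rfl⟩; exact ⟨_, ⟨a, rfl⟩, rfl⟩
  obtain ⟨hcomm, hmul⟩ := CfsgLib.Jordan.CWField.commutative E
    ((hE 1).2 ⟨a₁, by rw [hn1, map_one]⟩)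
    (fun y hy z hz => by
      obtain ⟨a, rfl⟩ := (hE y).1 hy
      obtain ⟨b, rfl⟩ := (hE z).1 hz
      obtain ⟨a', ha'⟩ := htri _ ⟨a, rfl⟩ _ ⟨b, rfl⟩
      exact (hE _).2 ⟨a', by rw [ha', map_mul, map_mul]⟩)
    (fun y hy hy0 => by
      obtain ⟨a, rfl⟩ := (hE y).1 hy
      have ha : a ≠ 1 := fun h => hy0 (by rw [h, hn0, map_zero])
      obtain ⟨b, hb⟩ := hpartner' a ha
      intro hdet
      have := congrArg Matrix.det (congrArg toM hb)
      rw [map_mul, map_one, Matrix.det_mul, hdet, zero_mul, Matrix.det_one] at this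
      exact zero_ne_one this)
  let S : Subring (Matrix (Fin (Module.finrank (ZMod p) W)) (Fin (Module.finrank (ZMod p) W)) (ZMod p)) :=
    { carrier := (E : Set _)
      mul_mem' := fun {a b} ha hb => hmul a ha b hb
      one_mem' := (hE 1).2 ⟨a₁, by rw [hn1, map_one]⟩
      add_mem' := fun {a b} ha hb => E.add_mem ha hb
      zero_mem' := E.zero_mem
      neg_mem' := fun {a} ha => E.neg_mem ha }
  letI : CommRing S := { (inferInstance : Ring S) with
    mul_comm := fun a b => Subtype.ext (hcomm a a.2 b b.2) }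
  haveI : Nontrivial S := ⟨⟨1, 0, fun h => one_ne_zero (congrArg Subtype.val h)⟩⟩
  haveI : IsDomain S := by
    haveI : NoZeroDivisors S := ⟨fun {a b} h => by
      by_cases ha : a = 0
      · exact Or.inl ha
      · right
        obtain ⟨a', ha'⟩ := (hE a).1 a.2
        have : a' ≠ 1 := fun h' => ha (Subtype.ext (by rw [← ha', h', hn0, map_zero]; rfl))
        obtain ⟨b', hb'⟩ := hpartner' a' this
        apply Subtype.ext
        have h1 := congrArg toM (hleft hb')
        rw [map_mul, map_one, ha'] at h1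
        show b.1 = 0
        rw [← one_mul b.1, ← h1, mul_assoc,
          show a.1 * b.1 = 0 from congrArg Subtype.val h, mul_zero]⟩
    exact NoZeroDivisors.to_isDomain _
  let _ : Fintype S := Fintype.ofFinite S
  let _ : Field S := Fintype.fieldOfDomain S
  -- `ι` is the action of the field on `W`
  have hSex : ∀ z : S, ∃ a, toM (n a) = z := fun z => (hE z).1 z.2
  choose σ hσ using hSex
  let ι : S →+* AddMonoid.End W :=
    { toFun := fun z => n (σ z)
      map_one' := htoMinj (by rw [hσ, map_one]; rfl)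
      map_mul' := fun z z' => htoMinj (by rw [hσ, map_mul, hσ, hσ]; rfl)
      map_zero' := htoMinj (by rw [hσ, map_zero]; rfl)
      map_add' := fun z z' => htoMinj (by rw [hσ, map_add, hσ, hσ]; rfl) }
  set w : W := ⟨w₀, hw₀⟩
  have hιdef : ∀ z, ι z = n (σ z) := fun z => rfl
  have hσn : ∀ a, ∃ z, ι z = n a := fun a => ⟨⟨toM (n a), (hE _).2 ⟨a, rfl⟩⟩, htoMinj (hσ _)⟩
  have hkey : Function.Bijective fun z : S => ι z w := by
    refine ⟨fun z z' h => ?_, fun e => ?_⟩
    · by_contra hne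
      have h0 : ι (z - z') w = 0 := by rw [map_sub]; exact sub_eq_zero.2 h
      have h1 : σ (z - z') ≠ 1 := fun h1 => hne (sub_eq_zero.1 (Subtype.ext (by
        rw [← hσ (z - z'), h1, hn0, map_zero]; rfl)))
      exact hw₀0 (congrArg Subtype.val ((hnbij _ h1).1 (h0.trans (map_zero _).symm)))
    · obtain ⟨a, ha, he⟩ := hsurj (j.symm w : W) (j.symm w).2 (fun h => hw₀0 (congrArg Subtype.val
        (j.symm.injective ((Subtype.ext h : j.symm w = 0).trans (map_zero _).symm)))) e e.2
      obtain ⟨z, hz⟩ := hσn ⟨a, ha⟩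
      refine ⟨z, ?_⟩
      show ι z w = e
      rw [hz]
      exact Subtype.ext he
  have hcard : Fintype.card S = Nat.card A := by
    rw [← Nat.card_eq_fintype_card]
    refine Nat.card_congr (Equiv.ofBijective σ ⟨fun z z' h => Subtype.ext ?_, fun a => ?_⟩)
    · rw [← hσ z, h, hσ]
    · obtain ⟨z, hz⟩ := hσn a
      exact ⟨z, hinjn hz⟩
  let L₀ : (Fin 2 → S) →+ V :=
    { toFun := fun y => c (ι (y 0) w) (ι (y 1) w)
      map_zero' := by
        show f (ι 0 w, ι 0 w) = 0
        rw [map_zero]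
        exact map_zero f
      map_add' := fun y z => by
        show f (ι (y 0 + z 0) w, ι (y 1 + z 1) w) = f _ + f _
        rw [← map_add, map_add, map_add]
        rfl }
  have hL₀ : Function.Bijective L₀ := by
    refine ⟨fun y z h => ?_, fun v => ?_⟩
    · obtain ⟨h1, h2⟩ := hc h
      funext i
      fin_cases i
      · exact hkey.1 h1
      · exact hkey.1 h2
    · obtain ⟨⟨e, e'⟩, rfl⟩ := hfbij.2 v
      obtain ⟨z, hz⟩ := hkey.2 e
      obtain ⟨z', hz'⟩ := hkey.2 e'
      exact ⟨![z, z'], congrArg f (Prod.ext hz hz')⟩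
  let L : (Fin 2 → S) ≃+ V := AddEquiv.ofBijective L₀ hL₀
  have hL : ∀ y, L y = c (ι (y 0) w) (ι (y 1) w) := fun y => rfl
  have hup : ∀ (a : A) t, ι t = n a → φ a = theta L (up t) := fun a t ht => AddMonoidHom.ext fun v => by
    obtain ⟨y, rfl⟩ := L.surjective v
    show φ a (L y) = L ((up t : Matrix (Fin 2) (Fin 2) S).mulVec (L.symm (L y)))
    rw [L.symm_apply_apply, hL, hL, hUc, ← ht]
    rw [up_mulVec, Matrix.cons_val_zero, Matrix.cons_val_one, map_add, map_mul]
    rfl
  have hlo : ∀ (b : A) t, ι t = m b → φ (x * (b : P) * x⁻¹) = theta L (lo t) := fun b t ht =>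
    AddMonoidHom.ext fun v => by
    obtain ⟨y, rfl⟩ := L.surjective v
    show φ _ (L y) = L ((lo t : Matrix (Fin 2) (Fin 2) S).mulVec (L.symm (L y)))
    rw [L.symm_apply_apply, hL, hL, hm, ← ht]
    rw [lo_mulVec, Matrix.cons_val_zero, Matrix.cons_val_one, Matrix.cons_val_zero, map_add, map_mul]
    rfl
  have hmι : ∀ b : A, ∃ t, ι t = m b := by
    intro b
    by_cases hb : b = 1
    · refine ⟨0, ?_⟩
      rw [map_zero, hb]
      refine (AddMonoidHom.ext fun e => ?_).symm
      have h1 := hm 1 e 0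
      rw [show (x * ((1 : A) : P) * x⁻¹) = 1 by simp, one_app, zero_add] at h1
      exact (hc h1).2.symm
    · obtain ⟨a, ha⟩ := hpartner b hb
      obtain ⟨z, hz⟩ := hσn a
      have hz0 : z ≠ 0 := fun h => hpart_ne ha (hinjn (by rw [hn0, ← hz, h, map_zero]))
      refine ⟨z⁻¹, ?_⟩
      rw [← mul_one (ι z⁻¹), ← ha, ← hz, ← mul_assoc, ← map_mul, inv_mul_cancel₀ hz0, map_one, one_mul]
  have hlo' : ∀ t, ∃ g, φ g = theta L (lo t) := by
    intro t
    by_cases ht : t = 0
    · refine ⟨1, ?_⟩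
      rw [ht, map_one, show lo (0 : S) = 1 from Subtype.ext (by
        rw [lo_coe, Matrix.SpecialLinearGroup.coe_one, Matrix.one_fin_two]), map_one]
    · have ha : σ t⁻¹ ≠ 1 := fun h => inv_ne_zero ht (Subtype.ext (by
        rw [← hσ t⁻¹, h, hn0, map_zero]; rfl))
      obtain ⟨b, hb⟩ := hpartner' _ ha
      refine ⟨_, hlo b t ?_⟩
      rw [← mul_one (ι t), ← hb, ← hιdef, ← mul_assoc, ← map_mul, mul_inv_cancel₀ ht, map_one, one_mul]
  have hg : ∀ g : P, ∃ s, φ g = theta L s := by
    let H : Subgroup P :=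
      { carrier := {g | ∃ s, φ g = theta L s}
        one_mem' := ⟨1, by rw [map_one, map_one]⟩
        mul_mem' := by
          rintro g h ⟨s, hs⟩ ⟨t, ht⟩
          exact ⟨s * t, by rw [map_mul, map_mul, hs, ht]⟩
        inv_mem' := by
          rintro g ⟨s, hs⟩
          exact ⟨s⁻¹, left_inv_eq_right_inv (a := theta L s)
            (by rw [← hs, ← map_mul, inv_mul_cancel, map_one])
            (by rw [← map_mul, mul_inv_cancel, map_one])⟩ }
    intro g
    have hle : A ⊔ A.map (MulAut.conj x).toMonoidHom ≤ H := by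
      refine sup_le (fun a ha => ?_) ?_
      · obtain ⟨t, ht⟩ := hσn ⟨a, ha⟩
        exact ⟨_, hup ⟨a, ha⟩ t ht⟩
      · rintro _ ⟨b, hb, rfl⟩
        obtain ⟨t, ht⟩ := hmι ⟨b, hb⟩
        exact ⟨_, hlo ⟨b, hb⟩ t ht⟩
    rw [hgen] at hle
    exact hle (Subgroup.mem_top g)
  choose r hr using hg
  let ρ₀ : P →* SL(2, S) := MonoidHom.mk' r fun g h => theta_injective L (by
    rw [← hr, map_mul, map_mul, ← hr, ← hr])
  have hinjρ : Function.Injective ρ₀ := fun g h e => hφ (by
    rw [hr g, hr h, show r g = r h from e])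
  have hsurjρ : Function.Surjective ρ₀ := by
    have key : ∀ s, ∃ g, φ g = theta L s := by
      refine forall_of_gen (fun s => ∃ g, φ g = theta L s) ⟨1, by rw [map_one, map_one]⟩ ?_ ?_ ?_
      · rintro s t ⟨g, hg'⟩ ⟨h, hh⟩
        exact ⟨g * h, by rw [map_mul, map_mul, hg', hh]⟩
      · exact fun t => ⟨_, hup (σ t) t rfl⟩
      · obtain ⟨g, hg'⟩ := hlo' (-1)
        refine ⟨(σ 1 : P) * g * σ 1, ?_⟩
        rw [map_mul, map_mul, hg', hup (σ 1) 1 rfl, ← map_mul, ← map_mul, ← wm_eq]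
    intro s
    obtain ⟨g, hg'⟩ := key s
    exact ⟨g, theta_injective L ((hr g).symm.trans hg')⟩
  refine ⟨S, inferInstance, inferInstance, hcard, L, MulEquiv.ofBijective ρ₀ ⟨hinjρ, hsurjρ⟩,
    fun g y => ?_, fun y => ⟨fun h => ?_, fun h => ?_⟩⟩
  · rw [hr g]
    show L ((r g : Matrix (Fin 2) (Fin 2) S).mulVec (L.symm (L y))) = _
    rw [L.symm_apply_apply]
    rfl
  · have h1 : L y = c ⟨L y, h⟩ 0 := by simp [c, f]
    have h2 : c (ι (y 0) w) (ι (y 1) w) = c ⟨L y, h⟩ 0 := (hL y).symm.trans h1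
    exact hkey.1 ((hc h2).2.trans (by simp))
  · rw [hL, h, map_zero]
    simp [c, f]

end CfsgLib.SL2Module.Spread
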