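import Cfsg.Agent.Lib.SL2Module.Offender

/-!
A group with a strongly embedded subgroup and a quadratic offender: every two conjugates of the
offender in different conjugates of the strongly embedded subgroup generate `SL₂` on its natural
module, and this is the whole of the group generated by the `p`-elements.
-/

set_option autoImplicit false
set_option linter.unusedSectionVars false

namespace CfsgLib.SL2Module.Strong

open scoped MatrixGroups
open CfsgLib.SL2Module.Offender (fixS mem_fixS card_mul_le)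

universe u v

variable {P : Type u} [Group P] [Finite P] {V : Type v} [AddCommGroup V] [Finite V]

theorem comp_app (φ : P →* AddMonoid.End V) (g h : P) (v : V) : φ (g * h) v = φ g (φ h v) := by
  rw [map_mul]; rfl

theorem one_app (φ : P →* AddMonoid.End V) (v : V) : φ 1 v = v := by rw [map_one]; rfl

theorem inv_app (φ : P →* AddMonoid.End V) (g : P) (v : V) : φ g⁻¹ (φ g v) = v := by
  rw [← comp_app, inv_mul_cancel, one_app]

theorem app_inv (φ : P →* AddMonoid.End V) (g : P) (v : V) : φ g (φ g⁻¹ v) = v := by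
  rw [← comp_app, mul_inv_cancel, one_app]

theorem pow_app (φ : P →* AddMonoid.End V) (g : P) (v : V) (h : φ g (φ g v - v) = φ g v - v)
    (n : ℕ) : φ (g ^ n) v = v + n • (φ g v - v) := by
  induction n with
  | zero => rw [pow_zero, one_app, zero_nsmul, add_zero]
  | succ n ih => rw [pow_succ', comp_app, ih, map_add, map_nsmul, h, succ_nsmul]; abel

/-- The hypotheses. -/
structure Data (p : ℕ) (φ : P →* AddMonoid.End V) (X A : Subgroup P) : Prop where
  prime : p.Prime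
  nsmul : ∀ v : V, p • v = 0
  inj : Function.Injective φ
  le : A ≤ X
  ne : A ≠ ⊥
  fix : ∀ a ∈ A, ∀ b ∈ A, ∀ v, φ b (φ a v - v) = φ a v - v
  big : Nat.card V ≤ Nat.card A * Nat.card (fixS φ A)
  ti : ∀ h t : P, t ≠ 1 → (∃ n, t ^ p ^ n = 1) → t ∈ X → h * t * h⁻¹ ∈ X → h ∈ X

/-- The conjugate of `A`. -/
def cj (A : Subgroup P) (g : P) : Subgroup P := A.map (MulAut.conj g).toMonoidHom

/-- The group generated by `A` and a conjugate. -/
def pair (A : Subgroup P) (g : P) : Subgroup P := A ⊔ cj A g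

theorem cj_mul (A : Subgroup P) (g h : P) : cj A (g * h) = (cj A h).map (MulAut.conj g).toMonoidHom := by
  rw [cj, cj, Subgroup.map_map]
  congr 1
  ext x
  simp [mul_assoc]

theorem mem_cj (A : Subgroup P) (g : P) {a : P} (ha : a ∈ A) : g * a * g⁻¹ ∈ cj A g := ⟨a, ha, rfl⟩

theorem cj_of_mem (A : Subgroup P) {a : P} (ha : a ∈ A) : cj A a = A := by
  refine Subgroup.eq_of_le_of_card_ge ?_ (le_of_eq ?_)
  · rintro _ ⟨b, hb, rfl⟩
    exact mul_mem (mul_mem ha hb) (inv_mem ha)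
  · exact (Subgroup.card_map_of_injective (MulAut.conj a).injective).symm

theorem card_cj (A : Subgroup P) (g : P) : Nat.card (cj A g) = Nat.card A :=
  Subgroup.card_map_of_injective (MulAut.conj g).injective

/-- The condition that is proved for all subgroups generated by `p`-elements. -/
def Meet (φ : P →* AddMonoid.End V) (X A K : Subgroup P) : Prop :=
  ∀ k ∈ K, k ∉ X → ∀ c ∈ fixS φ A, φ k c ∈ fixS φ A → φ k c ∈ fixS φ K

/-- Generated by its `p`-elements. -/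
def PGen (p : ℕ) (K : Subgroup P) : Prop :=
  K ≤ Subgroup.closure {t | t ∈ K ∧ ∃ n, t ^ p ^ n = 1}

variable {p : ℕ} {φ : P →* AddMonoid.End V} {X A : Subgroup P}

theorem pow_p {g : P} (d : Data p φ X A) {B : AddSubgroup V} (h1 : ∀ v, φ g v - v ∈ B)
    (h2 : ∀ b ∈ B, φ g b = b) : g ^ p = 1 := by
  refine d.inj (AddMonoidHom.ext fun v => ?_)
  show φ (g ^ p) v = φ 1 v
  rw [pow_app φ g v (h2 _ (h1 v)), d.nsmul, add_zero, one_app]

theorem quad (d : Data p φ X A) : ∀ a ∈ A, ∀ v, φ a v - v ∈ fixS φ A :=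
  fun a ha v b hb => d.fix a ha b hb v

theorem add_app (d : Data p φ X A) {a b : P} (ha : a ∈ A) (hb : b ∈ A) (y : V) :
    φ (a * b) y - y = (φ a y - y) + (φ b y - y) := by
  have := d.fix b hb a ha y
  rw [map_sub] at this
  rw [comp_app, ← sub_add_cancel (φ a (φ b y)) (φ a y), this]
  abel

theorem pow_eq_one (d : Data p φ X A) {a : P} (ha : a ∈ A) : a ^ p = 1 :=
  pow_p d (quad d a ha) fun b hb => hb a ha

theorem isPGroup_A (d : Data p φ X A) : IsPGroup p A := fun a =>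
  ⟨1, Subtype.ext (by rw [pow_one, SubmonoidClass.coe_pow, pow_eq_one d a.2]; rfl)⟩

theorem conj_not_mem (d : Data p φ X A) {a g : P} (ha : a ∈ A) (ha1 : a ≠ 1) (hg : g ∉ X) :
    g⁻¹ * a * g ∉ X := fun h => hg (by
  rw [← inv_inv g]
  exact inv_mem (d.ti g⁻¹ a ha1 ⟨1, by rw [pow_one, pow_eq_one d ha]⟩ (d.le ha) (by rwa [inv_inv])))

theorem mem_of_cj_le (d : Data p φ X A) {g : P} (h : cj A g ≤ X) : g ∈ X := by
  haveI : Nontrivial A := (Subgroup.nontrivial_iff_ne_bot A).2 d.ne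
  obtain ⟨a, ha⟩ := exists_ne (1 : A)
  exact d.ti g a (fun e => ha (Subtype.ext e)) ⟨1, by rw [pow_one, pow_eq_one d a.2]⟩ (d.le a.2)
    (h (mem_cj A g a.2))

/-- A `p`-subgroup containing `A` lies in `X`. -/
theorem pgroup_le (d : Data p φ X A) {R : Subgroup P} (hR : IsPGroup p R) (hA : A ≤ R) : R ≤ X := by
  haveI := Fact.mk d.prime
  haveI : Nontrivial A := (Subgroup.nontrivial_iff_ne_bot A).2 d.ne
  obtain ⟨a, ha⟩ := exists_ne (1 : A)
  haveI : Nontrivial R := (Subgroup.nontrivial_iff_ne_bot R).2 fun h => d.ne (le_bot_iff.1 (h ▸ hA))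
  haveI := hR.center_nontrivial
  obtain ⟨c, hc⟩ := exists_ne (1 : Subgroup.center R)
  have hcomm : ∀ r ∈ R, r * (c : R) = (c : R) * r := fun r hr =>
    congrArg Subtype.val (Subgroup.mem_center_iff.1 c.2 ⟨r, hr⟩)
  have hc1 : ((c : R) : P) ≠ 1 := fun e => hc (Subtype.ext (Subtype.ext e))
  have hcp : ∃ n, ((c : R) : P) ^ p ^ n = 1 := by
    obtain ⟨n, hn⟩ := hR (c : R)
    exact ⟨n, by rw [← SubmonoidClass.coe_pow, hn]; rfl⟩
  have hcX : ((c : R) : P) ∈ X := d.ti _ a (fun e => ha (Subtype.ext e))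
    ⟨1, by rw [pow_one, pow_eq_one d a.2]⟩ (d.le a.2)
    (by rw [← hcomm a (hA a.2), mul_inv_cancel_right]; exact d.le a.2)
  intro r hr
  exact d.ti r _ hc1 hcp hcX (by rw [hcomm r hr, mul_inv_cancel_right]; exact hcX)

theorem pair_not_le (d : Data p φ X A) {g : P} (hg : g ∉ X) : ¬ pair A g ≤ X := fun h =>
  hg (mem_of_cj_le d (le_sup_right.trans h))

theorem pgen_pair (d : Data p φ X A) (g : P) : PGen p (pair A g) := by
  refine sup_le (fun a ha => Subgroup.subset_closure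
    ⟨Subgroup.mem_sup_left ha, 1, by rw [pow_one, pow_eq_one d ha]⟩) ?_
  rintro _ ⟨a, ha, rfl⟩
  refine Subgroup.subset_closure ⟨Subgroup.mem_sup_right ⟨a, ha, rfl⟩, 1, ?_⟩
  rw [← map_pow, pow_one, pow_eq_one d ha, map_one]

theorem mem_map_iff (g : P) (B : AddSubgroup V) (v : V) : v ∈ B.map (φ g) ↔ φ g⁻¹ v ∈ B :=
  ⟨by rintro ⟨b, hb, rfl⟩; show φ g⁻¹ (φ g b) ∈ B; rwa [inv_app], fun h => ⟨_, h, app_inv φ g v⟩⟩

theorem fixS_cj (g : P) : fixS φ (cj A g) = (fixS φ A).map (φ g) := by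
  refine le_antisymm (fun v hv => (mem_map_iff g _ v).2 fun a ha => ?_) ?_
  · have h1 := hv _ (mem_cj A g ha)
    have h2 := congrArg (φ g⁻¹) h1
    rwa [comp_app, comp_app, inv_app] at h2
  · rintro _ ⟨c, hc, rfl⟩ _ ⟨a, ha, rfl⟩
    show φ (g * a * g⁻¹) (φ g c) = φ g c
    rw [← comp_app, inv_mul_cancel_right, comp_app, hc a ha]

theorem fixS_anti {B D : Subgroup P} (h : B ≤ D) : fixS φ D ≤ fixS φ B := fun _ hv g hg => hv g (h hg)

theorem fix_pair (g : P) :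
    fixS φ (pair A g) = fixS φ A ⊓ (fixS φ A).map (φ g) := by
  refine le_antisymm (le_inf (fixS_anti le_sup_left) ((fixS_anti le_sup_right).trans (fixS_cj g).le)) ?_
  intro v hv
  obtain ⟨h1, h2⟩ := AddSubgroup.mem_inf.1 hv
  rw [← fixS_cj] at h2
  let H : Subgroup P :=
    { carrier := {g | φ g v = v}
      one_mem' := one_app φ v
      mul_mem' := fun {g h} (hg : _ = _) (hh : _ = _) => show _ = _ by rw [comp_app, hh, hg]
      inv_mem' := fun {g} (hg : _ = _) => show _ = _ by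
        conv_lhs => rw [← hg]
        exact inv_app φ _ _ }
  have hH : pair A g ≤ H := sup_le (fun a ha => h1 a ha) fun a ha => h2 a ha
  exact fun x hx => hH hx

theorem card_map (g : P) (B : AddSubgroup V) : Nat.card (B.map (φ g)) = Nat.card B :=
  (Nat.card_congr (AddSubgroup.equivMapOfInjective _ (φ g)
    (Function.LeftInverse.injective (inv_app φ g))).toEquiv).symm

/-- The lower bound on the fixed points of a pair. -/
theorem card_le_pair (d : Data p φ X A) (g : P) :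
    Nat.card (fixS φ A) ≤ Nat.card A * Nat.card (fixS φ (pair A g)) := by
  have h := card_mul_le (fixS φ A) ((fixS φ A).map (φ g))
  rw [card_map, ← fix_pair] at h
  have h2 : Nat.card ↥(fixS φ A ⊔ (fixS φ A).map (φ g)) ≤ Nat.card A * Nat.card (fixS φ A) :=
    (Finite.card_subtype_le _).trans d.big
  refine Nat.le_of_mul_le_mul_left (h.trans ((Nat.mul_le_mul_right _ h2).trans (le_of_eq ?_))) Nat.card_pos
  ring

theorem inj_of_meet (d : Data p φ X A) {K : Subgroup P} (hAK : A ≤ K) (hm : Meet φ X A K) {k : P}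
    (hk : k ∈ K) (hkX : k ∉ X) {a : P} (ha : a ∈ A) {c : V} (hc : c ∈ fixS φ A)
    (hcZ : φ k c ∉ fixS φ K) (h : φ a (φ k c) - φ k c ∈ fixS φ K) : a = 1 := by
  by_contra ha1
  set z := φ a (φ k c) - φ k c with hz
  have h1 : φ (k⁻¹ * a * k) c = c + z := by
    have h3 : φ k⁻¹ z = z := h k⁻¹ (inv_mem hk)
    rw [comp_app, comp_app, show φ a (φ k c) = φ k c + z by rw [hz, add_sub_cancel], map_add,
      inv_app, h3]
  have hz' : z ∈ fixS φ A := fixS_anti hAK h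
  have h2 := hm _ (mul_mem (mul_mem (inv_mem hk) (hAK ha)) hk) (conj_not_mem d ha ha1 hkX) c hc
    (h1 ▸ add_mem hc hz')
  rw [h1, add_mem_cancel_right h] at h2
  exact hcZ (by rw [h2 k hk]; exact h2)

theorem exists_not_mem (d : Data p φ X A) {K : Subgroup P} (hAK : A ≤ K) (hp : PGen p K)
    (hKX : ¬ K ≤ X) : ∃ c ∈ fixS φ A, c ∉ fixS φ K := by
  by_contra hcon
  push Not at hcon
  obtain ⟨k, hk, hkX⟩ := SetLike.not_le_iff_exists.1 hKX
  let R : Subgroup P :=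
    { carrier := {g | (∀ v, φ g v - v ∈ fixS φ A) ∧ ∀ c ∈ fixS φ A, φ g c = c}
      one_mem' := ⟨fun v => by rw [one_app, sub_self]; exact zero_mem _, fun c _ => one_app φ c⟩
      mul_mem' := fun {g h} hg hh => ⟨fun v => by
        rw [comp_app, ← sub_add_sub_cancel _ (φ h v) v]
        exact add_mem (hg.1 _) (hh.1 _), fun c hc => by rw [comp_app, hh.2 c hc, hg.2 c hc]⟩
      inv_mem' := fun {g} hg => ⟨fun v => by
        have := hg.1 (φ g⁻¹ v)
        rw [app_inv] at this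
        rw [← neg_sub]
        exact neg_mem this, fun c hc => by
        conv_lhs => rw [← hg.2 c hc]
        exact inv_app φ _ _⟩ }
  have hR : IsPGroup p R := fun g => ⟨1, Subtype.ext (by
    rw [pow_one, SubmonoidClass.coe_pow, pow_p d g.2.1 g.2.2]; rfl)⟩
  have hAR : A ≤ R := fun a ha => ⟨quad d a ha, fun c hc => hc a ha⟩
  refine hkX (mem_of_cj_le d ?_)
  refine le_trans ?_ (pgroup_le d hR hAR)
  rintro _ ⟨a, ha, rfl⟩
  refine ⟨fun v => ?_, fun c hc => ?_⟩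
  · show φ (k * a * k⁻¹) v - v ∈ fixS φ A
    have h1 := quad d a ha (φ k⁻¹ v)
    have h2 := hcon _ h1 k hk
    rw [show φ (k * a * k⁻¹) v - v = φ k (φ a (φ k⁻¹ v) - φ k⁻¹ v) by
      rw [map_sub, ← comp_app, ← comp_app, app_inv], h2]
    exact h1
  · exact hcon c hc (k * a * k⁻¹) (mul_mem (mul_mem hk (hAK ha)) (inv_mem hk))

/-- The consequences of the condition. -/
theorem basic (d : Data p φ X A) {K : Subgroup P} (hAK : A ≤ K) (hp : PGen p K) (hm : Meet φ X A K)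
    {k : P} (hk : k ∈ K) (hkX : k ∉ X) :
    fixS φ (pair A k) = fixS φ K ∧
      Nat.card (fixS φ A) = Nat.card A * Nat.card (fixS φ K) ∧
      Nat.card V = Nat.card A * Nat.card (fixS φ A) ∧
      (∀ v, ∃ c ∈ fixS φ A, ∃ c' ∈ fixS φ A, v = c + φ k c') ∧
      (∀ c ∈ fixS φ A, φ k c ∉ fixS φ K → ∀ w ∈ fixS φ A,
        ∃ a ∈ A, φ a (φ k c) - φ k c - w ∈ fixS φ K) ∧
      (∀ v, v ∈ fixS φ A ∨ ∃ a ∈ A, ∃ c ∈ fixS φ A, v = φ (a * k) c) ∧
      ∃ c ∈ fixS φ A, φ k c ∉ fixS φ K := by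
  classical
  set C := fixS φ A
  set Z := fixS φ K
  have hZC : Z ≤ C := fixS_anti hAK
  have hpairle : pair A k ≤ K := sup_le hAK (by
    rintro _ ⟨a, ha, rfl⟩
    exact mul_mem (mul_mem hk (hAK ha)) (inv_mem hk))
  have hfix : fixS φ (pair A k) = Z := by
    refine le_antisymm (fun v hv => ?_) (fixS_anti hpairle)
    rw [fix_pair] at hv
    obtain ⟨h1, c, hc, rfl⟩ := AddSubgroup.mem_inf.1 hv
    exact hm k hk hkX c hc h1
  obtain ⟨c₀, hc₀, hc₀Z⟩ := exists_not_mem d hAK hp (fun h => hkX (h hk))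
  have hnotZ : ∀ c, c ∉ Z → φ k c ∉ Z := fun c hc h => hc (by
    rw [← inv_app φ k c, h k⁻¹ (inv_mem hk)]; exact h)
  let f : ∀ c ∈ C, A × Z → C := fun c hc w => ⟨φ (w.1 : P) (φ k c) - φ k c + w.2,
    add_mem (quad d _ w.1.2 _) (hZC w.2.2)⟩
  have hf : ∀ c (hc : c ∈ C), φ k c ∉ Z → Function.Injective (f c hc) := by
    intro c hc hcZ w w' h
    have h' : φ (w.1 : P) (φ k c) - φ k c + (w.2 : V) =
      φ (w'.1 : P) (φ k c) - φ k c + w'.2 := congrArg Subtype.val h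
    have hq : (w.1 : P) * (w'.1 : P)⁻¹ ∈ A := mul_mem w.1.2 (inv_mem w'.1.2)
    have h1 := add_app d hq w'.1.2 (φ k c)
    rw [inv_mul_cancel_right] at h1
    rw [h1] at h'
    have e : φ ((w.1 : P) * (w'.1 : P)⁻¹) (φ k c) - φ k c = (w'.2 : V) - w.2 := by
      rw [eq_sub_iff_add_eq]
      exact add_left_cancel (a := φ (w'.1 : P) (φ k c) - φ k c) (by rw [← h']; abel)
    have e1 := inj_of_meet d hAK hm hk hkX hq hc hcZ (e ▸ sub_mem w'.2.2 w.2.2)
    rw [e1, one_app, sub_self, eq_comm, sub_eq_zero] at e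
    exact Prod.ext (Subtype.ext (mul_inv_eq_one.1 e1)) (Subtype.ext e.symm)
  have hcard : Nat.card C = Nat.card A * Nat.card Z := by
    refine le_antisymm (hfix ▸ card_le_pair d k) ?_
    rw [← Nat.card_prod]
    exact Nat.card_le_card_of_injective _ (hf c₀ hc₀ (hnotZ c₀ hc₀Z))
  have hU : Nat.card A * Nat.card C ≤ Nat.card ↥(C ⊔ C.map (φ k)) := by
    refine Nat.le_of_mul_le_mul_right (?_ : _ * Nat.card Z ≤ _ * Nat.card Z) Nat.card_pos
    have h := card_mul_le C (C.map (φ k))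
    rw [card_map, ← fix_pair, hfix] at h
    refine le_trans (le_of_eq ?_) h
    rw [hcard]; ring
  have htop : C ⊔ C.map (φ k) = ⊤ := AddSubgroup.eq_top_of_le_card _ (d.big.trans hU)
  have hjoin : ∀ v, ∃ c ∈ C, ∃ c' ∈ C, v = c + φ k c' := fun v => by
    obtain ⟨c, hc, _, ⟨c', hc', rfl⟩, he⟩ := AddSubgroup.mem_sup.1 (htop.ge (AddSubgroup.mem_top v))
    exact ⟨c, hc, c', hc', he.symm⟩
  have hsurj : ∀ c ∈ C, φ k c ∉ Z → ∀ w ∈ C, ∃ a ∈ A, φ a (φ k c) - φ k c - w ∈ Z := by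
    intro c hc hcZ w hw
    obtain ⟨⟨a, z⟩, he⟩ := ((Nat.bijective_iff_injective_and_card (f c hc)).2
      ⟨hf c hc hcZ, by rw [Nat.card_prod, hcard]⟩).2 ⟨w, hw⟩
    refine ⟨a, a.2, ?_⟩
    have he' : φ (a : P) (φ k c) - φ k c + (z : V) = w := congrArg Subtype.val he
    rw [← he', sub_add_cancel_left]
    exact neg_mem z.2
  refine ⟨hfix, hcard, le_antisymm d.big (hU.trans (Finite.card_subtype_le _)), hjoin, hsurj,
    fun v => ?_, c₀, hc₀, hnotZ c₀ hc₀Z⟩
  obtain ⟨c, hc, c', hc', rfl⟩ := hjoin v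
  by_cases hcZ : φ k c' ∈ Z
  · exact Or.inl (add_mem hc (hZC hcZ))
  right
  obtain ⟨a, ha, h⟩ := hsurj c' hc' hcZ c hc
  set z := φ a (φ k c') - φ k c' - c with hz
  refine ⟨a, ha, c' - z, sub_mem hc' (hZC h), ?_⟩
  rw [map_sub, h _ (mul_mem (hAK ha) hk), comp_app, hz]
  abel

/-- A subgroup of the module whose axes form a spread determines the structure. -/
theorem axes (d : Data p φ X A) {K : Subgroup P} (hAK : A ≤ K) (hp : PGen p K)
    {W U F : AddSubgroup V} (hW : ∀ k ∈ K, ∀ v ∈ W, φ k v ∈ W)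
    (hVW : ∀ a ∈ A, ∀ v, φ a v - v ∈ W) (hUW : U ≤ W) (hAU : ∀ a ∈ A, ∀ v ∈ U, φ a v = v)
    (hWU : ∀ a ∈ A, ∀ v ∈ W, φ a v - v ∈ U) (hF : F ≤ U) (hFK : F ≤ fixS φ K)
    (hm : ∀ k ∈ K, k ∉ X → ∀ u ∈ U, φ k u ∈ U → φ k u ∈ F) (hne : ∃ u ∈ U, u ∉ F)
    {g : P} (hg : g ∈ K) (hgX : g ∉ X)
    (hcov : ∀ v ∈ W, v ∈ U ∨ ∃ a ∈ A, ∃ u ∈ U, v = φ (a * g) u) :
    (∀ k ∈ K, k ∈ X → ∀ u ∈ U, φ k u ∈ U) ∧
      (∀ h ∈ K, h ∉ X → ∃ a ∈ A, (a * g)⁻¹ * h ∈ X) ∧
      (∀ R : Subgroup P, IsPGroup p R → R ≤ K → A ≤ R → R = A) ∧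
      (∀ k ∈ K, k ∈ X → cj A k = A) ∧ pair A g = K := by
  classical
  haveI := Fact.mk d.prime
  have hag : ∀ a ∈ A, a * g ∉ X := fun a ha h => hgX (by
    simpa using mul_mem (inv_mem (d.le ha)) h)
  have hstab : ∀ k ∈ K, k ∈ X → ∀ u ∈ U, φ k u ∈ U := by
    intro k hk hkX u hu
    rcases hcov _ (hW k hk u (hUW hu)) with h | ⟨a, ha, u', hu', e⟩
    · exact h
    have h1 : φ ((a * g)⁻¹ * k) u = u' := by rw [comp_app, e, inv_app]
    have h2 := hm ((a * g)⁻¹ * k) (mul_mem (inv_mem (mul_mem (hAK ha) hg)) hk)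
      (fun h => hag a ha (by simpa using inv_mem (mul_mem h (inv_mem hkX)))) u hu (h1 ▸ hu')
    rw [h1] at h2
    rw [e, hFK h2 _ (mul_mem (hAK ha) hg)]
    exact hu'
  have huniq : ∀ h ∈ K, h ∉ X → ∃ a ∈ A, (a * g)⁻¹ * h ∈ X := by
    intro h hh hhX
    obtain ⟨u₀, hu₀, hu₀F⟩ := hne
    have hn : φ h u₀ ∉ U := fun hu => hu₀F (by
      have h1 := hm h hh hhX u₀ hu₀ hu
      rw [← inv_app φ h u₀, hFK h1 _ (inv_mem hh)]
      exact h1)
    rcases hcov _ (hW h hh u₀ (hUW hu₀)) with hu | ⟨a, ha, u', hu', e⟩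
    · exact absurd hu hn
    refine ⟨a, ha, Classical.byContradiction fun hx => hn ?_⟩
    have h1 : φ ((a * g)⁻¹ * h) u₀ = u' := by rw [comp_app, e, inv_app]
    have h2 := hm ((a * g)⁻¹ * h) (mul_mem (inv_mem (mul_mem (hAK ha) hg)) hh) hx u₀ hu₀ (h1 ▸ hu')
    rw [h1] at h2
    rw [e, hFK h2 _ (mul_mem (hAK ha) hg)]
    exact hF h2
  have hsyl : ∀ R : Subgroup P, IsPGroup p R → R ≤ K → A ≤ R → R = A := by
    intro R hR hRK hAR
    refine le_antisymm (fun r hr => ?_) hAR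
    have hRX := pgroup_le d hR hAR
    have hrg : r * g ∉ X := fun h => hgX (by simpa using mul_mem (inv_mem (hRX hr)) h)
    obtain ⟨a, ha, h⟩ := huniq _ (mul_mem (hRK hr) hg) hrg
    by_contra hra
    have ht : a⁻¹ * r ∈ R := mul_mem (inv_mem (hAR ha)) hr
    obtain ⟨n, hn⟩ := hR ⟨_, ht⟩
    refine hgX (inv_inv g ▸ inv_mem (d.ti g⁻¹ (a⁻¹ * r) (fun e => hra ?_)
      ⟨n, congrArg Subtype.val hn⟩ (hRX ht) ?_))
    · rw [← inv_mul_eq_one.1 e]
      exact ha
    · rw [inv_inv]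
      rwa [show g⁻¹ * (a⁻¹ * r) * g = (a * g)⁻¹ * (r * g) by group]
  have hnorm : ∀ k ∈ K, k ∈ X → cj A k = A := by
    intro k hk hkX
    refine Subgroup.eq_of_le_of_card_ge ?_ (le_of_eq (card_cj A k).symm)
    rintro _ ⟨b, hb, rfl⟩
    set a' := k * b * k⁻¹ with ha'
    have ha'K : a' ∈ K := mul_mem (mul_mem hk (hAK hb)) (inv_mem hk)
    have ha'X : a' ∈ X := mul_mem (mul_mem hkX (d.le hb)) (inv_mem hkX)
    have hg' : a' * g ∉ X := fun h => hgX (by simpa using mul_mem (inv_mem ha'X) h)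
    obtain ⟨a, ha, hx⟩ := huniq _ (mul_mem ha'K hg) hg'
    show a' ∈ A
    by_contra hne'
    set e := a⁻¹ * a' with he
    have heK : e ∈ K := mul_mem (inv_mem (hAK ha)) ha'K
    have heX : e ∈ X := mul_mem (inv_mem (d.le ha)) ha'X
    have hx' : g⁻¹ * e * g ∈ X := by
      rwa [show g⁻¹ * e * g = (a * g)⁻¹ * (a' * g) by rw [he]; group]
    have hm' : ∀ v, φ a' v - v = φ k (φ b (φ k⁻¹ v) - φ k⁻¹ v) := fun v => by
      rw [map_sub, ← comp_app, ← comp_app, app_inv, ha']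
    have e1 : ∀ u ∈ U, φ e u = u := fun u hu => by
      have h1 : φ a' u = u := by
        rw [ha', comp_app, comp_app, hAU b hb _ (hstab k⁻¹ (inv_mem hk) (inv_mem hkX) u hu), app_inv]
      rw [he, comp_app, h1, hAU a⁻¹ (inv_mem ha) u hu]
    have hdiv : ∀ v, φ e v - v = φ a⁻¹ (φ a' v - v) + (φ a⁻¹ v - v) := fun v => by
      rw [map_sub, he, comp_app]
      abel
    have e2 : ∀ v, φ e v - v ∈ W := fun v => by
      have h1 : φ a' v - v ∈ W := by rw [hm']; exact hW k hk _ (hVW b hb _)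
      rw [hdiv]
      exact add_mem (hW _ (inv_mem (hAK ha)) _ h1) (hVW _ (inv_mem ha) v)
    have e3 : ∀ v ∈ W, φ e v - v ∈ U := fun v hv => by
      have h1 : φ a' v - v ∈ U := by
        rw [hm']
        exact hstab k hk hkX _ (hWU b hb _ (hW _ (inv_mem hk) v hv))
      rw [hdiv, hAU _ (inv_mem ha) _ h1]
      exact add_mem h1 (hWU _ (inv_mem ha) v hv)
    have e4 : ∀ u ∈ U, φ e (φ g u) - φ g u ∈ F := fun u hu => by
      have h1 : φ e (φ g u) - φ g u = φ g (φ (g⁻¹ * e * g) u - u) := by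
        rw [map_sub, ← comp_app φ g, ← comp_app φ e, show g * (g⁻¹ * e * g) = e * g by group]
      have h2 := e3 _ (hW g hg u (hUW hu))
      rw [h1] at h2 ⊢
      exact hm g hg hgX _
        (sub_mem (hstab _ (mul_mem (mul_mem (inv_mem hg) heK) hg) hx' u hu) hu) h2
    have e5 : ∀ v ∈ W, φ e v - v ∈ F := fun v hv => by
      rcases hcov v hv with h | ⟨a'', ha'', u, hu, rfl⟩
      · rw [e1 v h, sub_self]; exact zero_mem _
      · have h1 : φ e (φ a'' (φ g u) - φ g u) = φ a'' (φ g u) - φ g u :=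
          e1 _ (hWU a'' ha'' _ (hW g hg u (hUW hu)))
        rw [map_sub] at h1
        rw [comp_app φ a'' g, show φ e (φ a'' (φ g u)) = φ a'' (φ g u) - φ g u + φ e (φ g u) by
          rw [← h1]; abel]
        rw [show φ a'' (φ g u) - φ g u + φ e (φ g u) - φ a'' (φ g u) = φ e (φ g u) - φ g u by abel]
        exact e4 u hu
    have e6 : ∀ v ∈ W, φ (e ^ p) v = v := fun v hv => by
      rw [pow_app φ e v (hFK (e5 v hv) e heK), d.nsmul, add_zero]
    have e7 : ∀ (n : ℕ) v, φ (e ^ n) v - v ∈ W := fun n v => by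
      induction n with
      | zero => rw [pow_zero, one_app, sub_self]; exact zero_mem _
      | succ n ih =>
        rw [pow_succ, comp_app, ← sub_add_sub_cancel _ (φ (e ^ n) v) v, ← map_sub]
        exact add_mem (hW _ (pow_mem heK n) _ (e2 v)) ih
    have e8 : e ^ p ^ 2 = 1 := by
      refine d.inj (AddMonoidHom.ext fun v => ?_)
      show φ (e ^ p ^ 2) v = φ 1 v
      rw [pow_two, pow_mul, pow_app φ (e ^ p) v (e6 _ (e7 p v)), d.nsmul, add_zero, one_app]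
    refine hgX (inv_inv g ▸ inv_mem (d.ti g⁻¹ e (fun h => hne' ?_) ⟨2, e8⟩ heX (by rwa [inv_inv])))
    rw [← inv_mul_eq_one.1 h]
    exact ha
  refine ⟨hstab, huniq, hsyl, hnorm, le_antisymm (sup_le hAK ?_) (hp.trans ((Subgroup.closure_le _).2 ?_))⟩
  · rintro _ ⟨a, ha, rfl⟩
    exact mul_mem (mul_mem hg (hAK ha)) (inv_mem hg)
  rintro t ⟨htK, n, hn⟩
  -- `A` is a Sylow subgroup of `K`
  obtain ⟨S, hS⟩ := ((isPGroup_A d).comap_of_injective K.subtype K.subtype_injective).exists_le_sylow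
  have hSA : (S : Subgroup K).map K.subtype = A := hsyl _ (S.2.map _) (Subgroup.map_subtype_le _)
    (fun a ha => ⟨⟨a, hAK ha⟩, hS ha, rfl⟩)
  have htp : IsPGroup p (Subgroup.zpowers (⟨t, htK⟩ : K)) := by
    rintro ⟨_, i, rfl⟩
    refine ⟨n, Subtype.ext ?_⟩
    have h1 : (⟨t, htK⟩ : K) ^ p ^ n = 1 := Subtype.ext hn
    show ((⟨t, htK⟩ : K) ^ i) ^ p ^ n = 1
    rw [← zpow_natCast, ← zpow_mul, mul_comm, zpow_mul, zpow_natCast, h1, one_zpow]
  obtain ⟨S', hS'⟩ := htp.exists_le_sylow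
  obtain ⟨h, hh⟩ := MulAction.exists_smul_eq K S S'
  have ht : t ∈ cj A (h : P) := by
    have h1 := hS' (Subgroup.mem_zpowers _)
    rw [← hh] at h1
    obtain ⟨s, hs, e⟩ := h1
    have hsA : (s : P) ∈ A := hSA ▸ ⟨s, hs, rfl⟩
    exact ⟨s, hsA, congrArg Subtype.val e⟩
  by_cases hhX : (h : P) ∈ X
  · rw [hnorm _ h.2 hhX] at ht
    exact Subgroup.mem_sup_left ht
  obtain ⟨a, ha, hx⟩ := huniq _ h.2 hhX
  have e : cj A (h : P) = cj A (a * g) := by
    conv_lhs => rw [show (h : P) = a * g * ((a * g)⁻¹ * h) by group]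
    rw [cj_mul, hnorm _ (mul_mem (inv_mem (mul_mem (hAK ha) hg)) h.2) hx]
    rfl
  rw [e, cj_mul] at ht
  obtain ⟨s, hs, rfl⟩ := ht
  exact mul_mem (mul_mem (Subgroup.mem_sup_left ha) (Subgroup.mem_sup_right hs))
    (inv_mem (Subgroup.mem_sup_left ha))

/-- What follows from the condition. -/
theorem structure_of_meet (d : Data p φ X A) {K : Subgroup P} (hAK : A ≤ K) (hp : PGen p K)
    (hm : Meet φ X A K) {g : P} (hg : g ∈ K) (hgX : g ∉ X) :
    (∀ k ∈ K, k ∈ X → ∀ u ∈ fixS φ A, φ k u ∈ fixS φ A) ∧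
      (∀ h ∈ K, h ∉ X → ∃ a ∈ A, (a * g)⁻¹ * h ∈ X) ∧
      (∀ R : Subgroup P, IsPGroup p R → R ≤ K → A ≤ R → R = A) ∧
      (∀ k ∈ K, k ∈ X → cj A k = A) ∧ pair A g = K := by
  obtain ⟨-, -, -, -, -, hcov, c₀, hc₀, hc₀Z⟩ := basic d hAK hp hm hg hgX
  exact axes d (W := ⊤) (U := fixS φ A) (F := fixS φ K) hAK hp (fun k _ v _ => AddSubgroup.mem_top _)
    (fun a _ v => AddSubgroup.mem_top _) le_top (fun a ha v hv => hv a ha) (fun a ha v _ => quad d a ha v)
    (fixS_anti hAK) le_rfl hm ⟨c₀, hc₀, fun h => hc₀Z (by rw [h g hg]; exact h)⟩ hg hgX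
    fun v _ => hcov v

/-- A conjugate of `A` in such a subgroup is a conjugate by one of its elements. -/
theorem exists_of_cj_le (d : Data p φ X A) {K : Subgroup P} (hAK : A ≤ K) (hp : PGen p K)
    (hm : Meet φ X A K) {k : P} (hk : k ∉ X) (hle : cj A k ≤ K) :
    pair A k = K ∧ ∃ x ∈ K, x ∉ X ∧ cj A x = cj A k := by
  haveI := Fact.mk d.prime
  have hKX : ¬ K ≤ X := fun h => hk (mem_of_cj_le d (hle.trans h))
  obtain ⟨g, hg, hgX⟩ := SetLike.not_le_iff_exists.1 hKX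
  obtain ⟨-, -, hsyl, hnorm, -⟩ := structure_of_meet d hAK hp hm hg hgX
  obtain ⟨S, hS⟩ := ((isPGroup_A d).comap_of_injective K.subtype K.subtype_injective).exists_le_sylow
  have hSA : (S : Subgroup K).map K.subtype = A := hsyl _ (S.2.map _) (Subgroup.map_subtype_le _)
    (fun a ha => ⟨⟨a, hAK ha⟩, hS ha, rfl⟩)
  obtain ⟨S', hS'⟩ := (((isPGroup_A d).map (MulAut.conj k).toMonoidHom).comap_of_injective K.subtype
    K.subtype_injective).exists_le_sylow
  obtain ⟨h, hh⟩ := MulAction.exists_smul_eq K S S'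
  have e : cj A k = cj A (h : P) := by
    refine Subgroup.eq_of_le_of_card_ge (fun t ht => ?_) (le_of_eq ((card_cj A _).trans (card_cj A _).symm))
    have h1 : (⟨t, hle ht⟩ : K) ∈ (S' : Subgroup K) := hS' ht
    rw [← hh] at h1
    obtain ⟨s, hs, e⟩ := h1
    have hsA : (s : P) ∈ A := hSA ▸ ⟨s, hs, rfl⟩
    exact ⟨s, hsA, congrArg Subtype.val e⟩
  have hhX : (h : P) ∉ X := fun hh' => hk (mem_of_cj_le d (by rw [e, hnorm _ h.2 hh']; exact d.le))
  refine ⟨?_, h, h.2, hhX, e.symm⟩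
  rw [pair, e]
  exact (structure_of_meet d hAK hp hm h.2 hhX).2.2.2.2

end CfsgLib.SL2Module.Strong
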